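import Cfsg.Agent.CosetEnum.HN.M7Data

/-! Certificate of a coset enumeration (generated data, owner: helper28). -/

set_option autoImplicit false
set_option maxRecDepth 1000000

namespace Cfsg.Agent.CosetEnum.HNM7

def ck0 : CK := .cons 6 6 0xc80440220110108084022009004806403200900080440220110008024012009004800400200100080040080040020010008004 ( .nil )

theorem part0 : chunks P L 6 ck0 0 6 = true := by decide +kernel

end Cfsg.Agent.CosetEnum.HNM7
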