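import Cfsg.Agent.CosetEnum.HN.M9Data

/-! Certificate of a coset enumeration (generated data, owner: helper28). -/

set_option autoImplicit false
set_option maxRecDepth 1000000

namespace Cfsg.Agent.CosetEnum.HNM9

def ck0 : CK := .cons 8 8 0x52021010808404202101880c404201900c806403202901480640220110088084042021008802401201900c80640320090008044022011008804400200900480240120090048004002001000800400200100200100080040020010008004 ( .nil )

theorem part0 : chunks P L 8 ck0 0 8 = true := by decide +kernel

end Cfsg.Agent.CosetEnum.HNM9
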