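import Cfsg.Agent.CosetEnum.Basic

/-! Relations of the Harada-Norton group (owner: helper66).

Letters: 1 v, 2 z, 3 s, 4 seven, 5 eight, 6 nine, 7 p, 8 q, 9 t, 10 t inverse, 11 six, 12 u, 13 u inverse.
-/

set_option autoImplicit false

namespace Cfsg.Agent.HN

/-- mutually inverse letters -/
def iv : List (Nat × Nat) := [(9, 10), (12, 13)]

/-- relations of the alternating group -/
def RA : List (List Nat × Nat) := [([3, 11], 3), ([3, 4], 2), ([3, 5], 2), ([3, 6], 2), ([3, 7], 2), ([3, 8], 2), ([11, 4], 3), ([11, 5], 2), ([11, 6], 2), ([11, 7], 2), ([11, 8], 2), ([4, 5], 3), ([4, 6], 2), ([4, 7], 2), ([4, 8], 2), ([5, 6], 3), ([5, 7], 2), ([5, 8], 2), ([6, 7], 3), ([6, 8], 2), ([7, 8], 3), ([1, 3], 2), ([1, 11], 2), ([1, 4], 2), ([1, 5], 2), ([1, 6], 2), ([1, 7], 2), ([1, 8], 2), ([1, 2],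 2), ([2, 3, 2, 3, 1], 1), ([2, 11, 2, 11, 1], 1), ([2, 4, 2, 4, 1], 1), ([2, 5, 2, 5, 1], 1), ([2, 6, 2, 6, 1], 1), ([2, 7, 2, 7, 1], 1), ([2, 8, 2, 8, 1], 1), ([2, 11, 9, 11, 2, 9, 9], 1), ([2, 4, 9, 4, 2, 9, 9], 1), ([2, 5, 9, 5, 2, 9, 9], 1), ([2, 6, 9, 6, 2, 9, 9], 1), ([2, 7, 9, 7, 2, 9, 9], 1), ([2, 8, 9, 8, 2, 9, 9], 1), ([9], 5), ([1, 9], 2), ([2, 9], 3), ([3, 9], 3)]

/-- relations of the Harada-Norton group -/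
def RL : List (List Nat × Nat) := [([3, 11], 3), ([3, 4], 2), ([3, 5], 2), ([3, 6], 2), ([3, 7], 2), ([3, 8], 2), ([11, 4], 3), ([11, 5], 2), ([11, 6], 2), ([11, 7], 2), ([11, 8], 2), ([4, 5], 3), ([4, 6], 2), ([4, 7], 2), ([4, 8], 2), ([5, 6], 3), ([5, 7], 2), ([5, 8], 2), ([6, 7], 3), ([6, 8], 2), ([7, 8], 3), ([1, 3], 2), ([1, 11], 2), ([1, 4], 2), ([1, 5], 2), ([1, 6], 2), ([1, 7], 2), ([1, 8], 2), ([1, 2], 2), ([2, 3, 2, 3, 1], 1), ([2, 11, 2, 11, 1], 1), ([2, 4, 2, 4, 1], 1), ([2, 5, 2, 5, 1], 1), ([2, 6, 2, 6, 1], 1), ([2, 7, 2, 7, 1], 1), ([2, 8, 2, 8, 1], 1), ([2, 11, 9, 11, 2, 9, 9], 1), ([2, 4, 9, 4, 2, 9, 9], 1), ([2, 5, 9, 5, 2, 9, 9], 1), ([2, 6, 9, 6, 2, 9, 9], 1), ([2, 7, 9, 7, 2, 9, 9], 1), ([2, 8, 9, 8, 2, 9, 9], 1), ([9], 5), ([1, 9], 2), ([2, 9], 3), ([3, 9], 3), ([12, 12,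 6, 8], 1), ([13, 1, 12, 1], 1), ([13, 2, 12, 3], 1), ([13, 3, 12, 2], 1), ([13, 4, 12, 8, 6, 4, 2, 3], 1), ([13, 5, 12, 5, 6, 7, 8, 6, 7, 6, 4, 5, 2, 3], 1), ([13, 6, 12, 7, 8, 6, 7, 4, 2, 3], 1), ([13, 7, 12, 8, 5, 6, 4, 5, 2, 3], 1), ([13, 8, 12, 6, 7, 8, 6, 7, 6, 4, 2, 3], 1), ([12, 11, 4], 5), ([12, 9, 13, 10], 1)]

end Cfsg.Agent.HN
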