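import Cfsg.Agent.CosetEnum.Level
import Cfsg.Agent.CosetEnum.HN.T12R0

/-! Permutation table (generated data, owner: helper28). -/

set_option autoImplicit false
set_option maxRecDepth 1000000

namespace Cfsg.Agent.CosetEnum.HNT12

theorem st : letsB 11 iv lets RL = true := by decide +kernel

theorem tabOK : TabOK P 11 iv lets RL := ⟨st, Cov.of r0 rfl⟩

theorem covO : Cov (orbC P lets [] 0 P.m) 0 P.m := Cov.of o0 rfl

end Cfsg.Agent.CosetEnum.HNT12
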