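import Cfsg.Agent.CosetEnum.HN.T12Data

/-! Base and transversals (generated data, owner: helper28). -/

set_option autoImplicit false
set_option maxRecDepth 1000000

namespace Cfsg.Agent.CosetEnum.HNT12

def ls : List (Nat × List Nat) := [(0, [0x0, 0x9, 0x29, 0x2a, 0xa, 0x3, 0xb3, 0x4b3, 0x54b3, 0x654b3, 0x7654b3, 0x87654b3]), (1, [0x0, 0x2, 0x21, 0x1, 0x393, 0x9b3a, 0xa4b3a, 0x954b3a, 0x654b393, 0x76549b3a, 0x8765a4b3a]), (2, [0x0, 0x14, 0x9494, 0x23a23, 0x29b3a2, 0x24b3aa3, 0x9954b3aa, 0x6524b3aa3, 0x765429b3a2, 0x876524b3aa3]), (3, [0x0, 0x1a4a, 0x3923, 0x2ab392, 0x4b3923, 0x2a54b392, 0x654b3923, 0x76542ab392, 0x87654b3923]), (4, [0x0, 0xa439, 0xab39, 0x49b3a4, 0xa54b39, 0x654ba439, 0x7654ab39, 0x876454ab39]), (5, [0x0, 0xb4, 0x4b, 0x454b, 0x654b, 0x7654b4, 0x87654b]), (6, [0x0, 0x45, 0x54, 0x4654, 0x7654, 0x876454]), (7, [0x0, 0x56, 0x65, 0x5765, 0x8765]),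 (8, [0x0, 0x67, 0x76, 0x6876]), (9, [0x0, 0x78, 0x87]), (10, [0x0]), (11, [0x0])]

theorem chain : chainB P lets ls [] = true := by decide +kernel

end Cfsg.Agent.CosetEnum.HNT12
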