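import Cfsg.Agent.CosetEnum.Prime
import Cfsg.Agent.CosetEnum.Rename
import Cfsg.Agent.CosetEnum.HN.Rels
import Cfsg.Agent.CosetEnum.HN.L11
import Cfsg.Agent.CosetEnum.HN.M1
import Cfsg.Agent.CosetEnum.HN.M2
import Cfsg.Agent.CosetEnum.HN.M3
import Cfsg.Agent.CosetEnum.HN.M4
import Cfsg.Agent.CosetEnum.HN.M5
import Cfsg.Agent.CosetEnum.HN.M6
import Cfsg.Agent.CosetEnum.HN.M7
import Cfsg.Agent.CosetEnum.HN.M8
import Cfsg.Agent.CosetEnum.HN.M9
import Cfsg.Agent.CosetEnum.HN.M11
import Cfsg.Agent.CosetEnum.HN.T924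
import Cfsg.Agent.CosetEnum.HN.T12
import Cfsg.Agent.CosetEnum.HN.X12

/-!
The alternating group of degree 12 as a presented group (owner: helper66).
-/

set_option autoImplicit false
set_option maxRecDepth 1000000

namespace Cfsg.Agent.HN

open MulAction Cfsg.Agent.CosetEnum

/-- the presented alternating group of degree 12 -/
abbrev QA : Type := QG 11 HNT12.iv HNT12.RL

abbrev qa : ℕ → QA := qg 11 HNT12.iv HNT12.RL

theorem UA : Univ qa 11 HNT12.iv HNT12.RL := univ_qg _ _ _

/-- order of the letters adapted to the subgroup `M` -/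
def pl : List ℕ := [1, 2, 3, 11, 4, 5, 6, 7, 8, 9, 10]

/-- `M` is of order at most `161280` -/
theorem bdM {G : Type} [Group G] {g : ℕ → G} {iv9 : List (ℕ × ℕ)} {RL9 : List (List ℕ × ℕ)} (hg : Good g 9 iv9 RL9)
    (hiv : iv9 = HNM9.iv) (hRL : RL9 = HNM9.RL) : Bd (Cl g 9) 161280 := by
  subst hiv hRL
  have h1 := (Bd.zero g).cl (M := 2) HNM1.cert hg (by decide +kernel) (by decide +kernel) (by norm_num) rfl
  have h2 := h1.cl (M := 4) HNM2.cert hg (by decide +kernel) (by decide +kernel) (by norm_num) rfl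
  have h3 := h2.cl (M := 8) HNM3.cert hg (by decide +kernel) (by decide +kernel) (by norm_num) rfl
  have h4 := h3.cl (M := 24) HNM4.cert hg (by decide +kernel) (by decide +kernel) (by norm_num) rfl
  have h5 := h4.cl (M := 96) HNM5.cert hg (by decide +kernel) (by decide +kernel) (by norm_num) rfl
  have h6 := h5.cl (M := 480) HNM6.cert hg (by decide +kernel) (by decide +kernel) (by norm_num) rfl
  have h7 := h6.cl (M := 2880) HNM7.cert hg (by decide +kernel) (by decide +kernel) (by norm_num) rfl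
  have h8 := h7.cl (M := 20160) HNM8.cert hg (by decide +kernel) (by decide +kernel) (by norm_num) rfl
  exact h8.cl (M := 161280) HNM9.cert hg (by decide +kernel) (by decide +kernel) (by norm_num) rfl

theorem goodA2 : Good (ren qa 11 pl) 11 HNM11.iv HNM11.RL := UA.good.ren (by decide +kernel)

theorem bdA : Bd (⊤ : Subgroup QA) 239500800 := by
  have h0 : Good (CosetEnum.cut (ren qa 11 pl) 9) 9 HNM9.iv HNM9.RL := goodA2.cut (by decide +kernel)
  have h1 := bdM h0 rfl rfl
  rw [Cl_cut] at h1
  have h2 := h1.cl (M := 239500800) HNM11.cert goodA2 (by decide +kernel) (by decide +kernel) (by norm_num) rfl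
  have h3 : Cl (ren qa 11 pl) 11 = ⊤ := by
    rw [Cl_ren qa (k := 11) (pl := pl) rfl, ← UA.top]
    apply subB_ClL (l := HNT12.iv)
    decide +kernel
  rwa [h3] at h2

theorem faith_card : Faith qa HNT12.lets HNT12.P ∧
    ((∃ A : MulAction QA (Fin HNT12.P.m), @Acts QA _ HNT12.P A qa HNT12.lets) → Nat.card QA = 239500800) :=
  faith_of_chain HNT12.tabOK.subB UA.top HNT12.chain bdA (by decide +kernel)

theorem card_QA : Nat.card QA = 239500800 := by
  obtain ⟨A, hA, _⟩ := HNT12.tabOK.exists_action UA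
  exact faith_card.2 ⟨A, hA⟩

theorem finite_QA : Finite QA := by
  apply Nat.finite_of_card_ne_zero
  rw [card_QA]
  norm_num

/-- the action on the 924 subsets with 6 elements -/
theorem L924 : Lvl qa 11 HNT12.iv HNT924.lets HNT924.P 10 [37, 262, 662, 887, 923, 924] := by
  have h1 : HNT924.iv = HNT12.iv := by decide +kernel
  have h2 : HNT924.RL = HNT12.RL := by decide +kernel
  have T : TabOK HNT924.P 11 HNT12.iv HNT924.lets HNT12.RL := by
    rw [← h1, ← h2]
    exact HNT924.tabOK
  refine lvl_of UA T ?_ (by norm_num) HNT924.covO HNT924.orbs HNT924.last (show 1 < 924 by norm_num)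
    (HNL11.cert.cl UA.good (by decide +kernel) (by decide +kernel) (by norm_num))
  rw [← h1]
  exact HNT924.sk

/-- two words are equal on the 12 points -/
noncomputable def eqB (u v : List ℕ) : Bool :=
  (wOK 11 u && wOK 11 v) && allR (fun i => Nat.beq (actW HNT12.P u i) (actW HNT12.P v i)) 0 12

theorem eqA {u v : List ℕ} (h : eqB u v = true) : (u.map qa).prod = (v.map qa).prod := by
  unfold eqB at h
  simp only [Bool.and_eq_true] at h
  obtain ⟨⟨hu, hv⟩, h⟩ := h
  have h' := allR_sound h
  obtain ⟨A, hA, _⟩ := HNT12.tabOK.exists_action UA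
  have hF := faith_card.1 A hA
  have hl : ∀ u, wOK 11 u = true → ∀ x ∈ u, x ∈ HNT12.lets := by
    intro u hu x hx
    simp only [wOK, List.all_eq_true] at hu
    exact HNT12.tabOK.mem_iff.2 (hu x hx)
  have h1 : val (fun x => (qa x)⁻¹) u = val (fun x => (qa x)⁻¹) v := by
    apply hF
    ext i
    show ((val (fun x => (qa x)⁻¹) u • i : Fin HNT12.P.m) : ℕ) = ((val (fun x => (qa x)⁻¹) v • i : Fin HNT12.P.m) : ℕ)
    rw [hA.word (hl u hu), hA.word (hl v hv)]
    exact beq_true (h' i (Nat.zero_le _) i.2)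
  rw [val_inv, val_inv] at h1
  exact inv_injective h1

end Cfsg.Agent.HN
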