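import Cfsg.Agent.CosetEnum.HN.Cover

/-!
Index of `H` from the double cosets (owner: helper66).
-/

set_option autoImplicit false
set_option maxRecDepth 1000000

namespace Cfsg.Agent.HN

open MulAction Cfsg.Agent.CosetEnum

/-- the table of the words `ws` on the twelve points -/
noncomputable def tabB (P : Par) (ws : List (List ℕ)) : Bool :=
  allR (fun x => allR (fun i => Nat.beq (act P (Nat.succ x) i) (actW HNT12.P (ws.getD x []) i)) 0 12) 0 ws.length

section

variable {G : Type} [Group G] {g : ℕ → G} (hg : Good g 13 iv RL)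

/-- the coset of `x` -/
def pt (g : ℕ → G) (x : G) : G ⧸ Cl g 11 := QuotientGroup.mk x⁻¹

theorem pt_eq {x y : G} : pt g x = pt g y ↔ x * y⁻¹ ∈ Cl g 11 := by
  unfold pt
  rw [QuotientGroup.eq, inv_inv]

include hg

theorem smul_pt (a : QA) (x : G) : th hg a • pt g x = pt g (x * th hg a⁻¹) := by
  unfold pt
  rw [map_inv, mul_inv_rev, inv_inv]
  rfl

/-- lower bound of the stabiliser -/
theorem stab_ge {W : List ℕ} {ws : List (List ℕ)} (hws : All (fun s => Q g (W ++ s) W) ws)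
    (hok : ws.all (wOK 11) = true) {t : T} {rw_ rm : ℕ} {lets : List ℕ} (hlets : lets = (List.range ws.length).map (· + 1))
    (ht : tabB ⟨t, rw_, rm, 12, fun _ _ => false, .e⟩ ws = true) {ls : List (ℕ × List ℕ)}
    (hc : chainB ⟨t, rw_, rm, 12, fun _ _ => false, .e⟩ lets ls [] = true)
    (A : MulAction QA (G ⧸ Cl g 11)) (hA : ∀ (a : QA) (x : G ⧸ Cl g 11), a • x = th hg a • x) :
    (ls.map fun p => p.2.length).prod ≤ Nat.card (stabilizer QA (pt g (ev g W))) := by
  obtain ⟨B, hB, _⟩ := HNT12.tabOK.exists_action UA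
  have hfin := finite_QA
  have hl : ∀ u, wOK 11 u = true → ∀ x ∈ u, x ∈ HNT12.lets := by
    intro u hu x hx
    simp only [wOK, List.all_eq_true] at hu
    exact HNT12.tabOK.mem_iff.2 (hu x hx)
  let σ : ℕ → QA := fun x => ev qa (ws.getD (x - 1) [])
  have hok' : ∀ x, wOK 11 (ws.getD x []) = true := by
    intro x
    by_cases hx : x < ws.length
    · rw [List.getD_eq_getElem _ _ hx]
      simp only [List.all_eq_true] at hok
      exact hok _ (List.getElem_mem hx)
    · rw [List.getD_eq_default _ _ (by omega)]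
      rfl
  letI B' : MulAction QA (Fin (⟨t, rw_, rm, 12, fun _ _ => false, .e⟩ : Par).m) := B
  have hacts : Acts QA ⟨t, rw_, rm, 12, fun _ _ => false, .e⟩ σ lets := by
    intro x hx i
    rw [hlets, List.mem_map] at hx
    obtain ⟨y, hy, rfl⟩ := hx
    rw [List.mem_range] at hy
    have h1 := allR_sound (allR_sound ht y (Nat.zero_le _) (by simpa using hy)) i (Nat.zero_le _) (by simp)
    have h2 := beq_true h1
    have h3 := hB.word (hl _ (hok' y)) i
    rw [val_inv] at h3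
    show (((ev qa (ws.getD (y + 1 - 1) []))⁻¹ • i : Fin 12) : ℕ) = act _ (Nat.succ y) i
    rw [h2, Nat.add_sub_cancel]
    exact h3
  refine (card_ge hacts hc).trans ?_
  apply Nat.card_mono (Set.toFinite _)
  show ((Subgroup.closure (σ '' {x | x ∈ lets}) : Subgroup QA) : Set QA) ⊆ (stabilizer QA (pt g (ev g W)) : Set QA)
  have h4 : Subgroup.closure (σ '' {x | x ∈ lets}) ≤ stabilizer QA (pt g (ev g W)) := by
    rw [Subgroup.closure_le]
    rintro _ ⟨x, hx, rfl⟩
    have hx : x ∈ lets := hx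
    rw [hlets, List.mem_map] at hx
    obtain ⟨y, hy, rfl⟩ := hx
    rw [List.mem_range] at hy
    have h5 : Q g (W ++ ws.getD y []) W := by
      apply hws.mem
      rw [List.getD_eq_getElem _ _ hy]
      exact List.getElem_mem hy
    unfold Q at h5
    have h6 : (ev qa (ws.getD y []))⁻¹ • pt g (ev g W) = pt g (ev g W) := by
      rw [hA, smul_pt, inv_inv, th_word hg (hok' y), pt_eq, ← ev_app]
      exact h5
    show σ (y + 1) • pt g (ev g W) = pt g (ev g W)
    show ev qa (ws.getD (y + 1 - 1) []) • pt g (ev g W) = pt g (ev g W)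
    rw [Nat.add_sub_cancel]
    exact (inv_smul_eq_iff.1 h6).symm
  exact h4

/-- the double cosets cover the group -/
theorem cover {Ws : List (List ℕ)} (h0 : [] ∈ Ws) (hgd : ∀ W ∈ Ws, ∀ a, Gd hg Ws W a) (htop : Cl g 13 = ⊤) (x : G) :
    ∃ W ∈ Ws, ∃ a : QA, x * (ev g W * th hg a)⁻¹ ∈ Cl g 11 := by
  letI A : MulAction QA (G ⧸ Cl g 11) := MulAction.compHom _ (th hg)
  have hA : ∀ (a : QA) (x : G ⧸ Cl g 11), a • x = th hg a • x := fun _ _ => rfl
  have hcov : ∀ x : G, ∃ W ∈ Ws, pt g x ∈ orbit QA (pt g (ev g W)) := by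
    have hu : ∀ x : G, (∃ W ∈ Ws, pt g x ∈ orbit QA (pt g (ev g W))) →
        ∃ W ∈ Ws, pt g (x * g 12) ∈ orbit QA (pt g (ev g W)) := by
      rintro x ⟨W, hW, a, ha⟩
      have h1 : th hg a • pt g (ev g W) = pt g x := ha
      rw [smul_pt, eq_comm, pt_eq] at h1
      obtain ⟨W', hW', b, hb⟩ := hgd W hW a⁻¹
      refine ⟨W', hW', b⁻¹, ?_⟩
      show th hg b⁻¹ • pt g (ev g W') = pt g (x * g 12)
      rw [smul_pt, inv_inv, eq_comm, pt_eq]
      have h2 := Subgroup.mul_mem _ h1 hb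
      have h3 : x * (ev g W * th hg a⁻¹)⁻¹ * (ev g W * th hg a⁻¹ * g 12 * (ev g W' * th hg b)⁻¹) =
          x * g 12 * (ev g W' * th hg b)⁻¹ := by group
      rwa [h3] at h2
    have hq : ∀ (x y : G), (∃ W ∈ Ws, pt g x ∈ orbit QA (pt g (ev g W))) → (∃ c : QA, th hg c = y) →
        ∃ W ∈ Ws, pt g (x * y) ∈ orbit QA (pt g (ev g W)) := by
      rintro x y ⟨W, hW, a, ha⟩ ⟨c, rfl⟩
      have h1 : th hg a • pt g (ev g W) = pt g x := ha
      refine ⟨W, hW, c⁻¹ * a, ?_⟩
      show th hg (c⁻¹ * a) • pt g (ev g W) = pt g (x * th hg c)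
      rw [map_mul, mul_smul, h1, smul_pt, inv_inv]
    have h13 : ∀ z : G, (∃ W ∈ Ws, pt g z ∈ orbit QA (pt g (ev g W))) →
        ∃ W ∈ Ws, pt g (z * (g 12)⁻¹) ∈ orbit QA (pt g (ev g W)) := by
      intro z hz
      have h1 : (g 12)⁻¹ = g 12 * (g 6 * g 8) := by
        have h2 := hg.rel ([12, 12, 6, 8], 1) (by decide +kernel)
        have h4 : g 12 * (g 12 * (g 6 * g 8)) = 1 := by simpa using h2
        exact (eq_inv_of_mul_eq_one_right h4).symm
      rw [h1, ← mul_assoc]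
      refine hq _ _ (hu z hz) ⟨ev qa [6, 8], ?_⟩
      rw [th_word hg (by decide +kernel)]
      simp [ev]
    have hlet : ∀ y ∈ Cl g 13, ∀ x : G, (∃ W ∈ Ws, pt g x ∈ orbit QA (pt g (ev g W))) →
        (∃ W ∈ Ws, pt g (x * y) ∈ orbit QA (pt g (ev g W))) ∧
          ∃ W ∈ Ws, pt g (x * y⁻¹) ∈ orbit QA (pt g (ev g W)) := by
      intro y hy
      unfold Cl at hy
      induction hy using Subgroup.closure_induction with
      | mem y hy =>
        intro x hx
        obtain ⟨l, hl, rfl⟩ := hy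
        obtain ⟨h1, h2⟩ := isLet_iff.1 (show isLet 13 l = true from hl)
        rcases Nat.lt_or_ge l 12 with h3 | h3
        · have h5 := th_qa hg (isLet_iff.2 ⟨h1, (show l ≤ 11 by omega)⟩)
          exact ⟨hq x _ hx ⟨qa l, h5⟩, hq x _ hx ⟨(qa l)⁻¹, by rw [map_inv, h5]⟩⟩
        · rcases Nat.lt_or_ge l 13 with h4 | h4
          · have : l = 12 := by omega
            subst this
            exact ⟨hu x hx, h13 x hx⟩
          · have : l = 13 := by omega
            subst this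
            rw [g13 hg, inv_inv]
            exact ⟨h13 x hx, hu x hx⟩
      | one => intro x hx; rw [inv_one, mul_one]; exact ⟨hx, hx⟩
      | mul y z _ _ h1 h2 =>
        intro x hx
        rw [mul_inv_rev, ← mul_assoc, ← mul_assoc]
        exact ⟨(h2 _ (h1 _ hx).1).1, (h1 _ (h2 _ hx).2).2⟩
      | inv y _ h1 => intro x hx; rw [inv_inv]; exact ⟨(h1 x hx).2, (h1 x hx).1⟩
    intro x
    have h1 := (hlet x (by rw [htop]; exact Subgroup.mem_top _) 1 ⟨[], h0, ?_⟩).1
    · rwa [one_mul] at h1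
    · show pt g 1 ∈ orbit QA (pt g 1)
      exact mem_orbit_self _
  obtain ⟨W, hW, a, ha⟩ := hcov x
  have h1 : th hg a • pt g (ev g W) = pt g x := ha
  rw [smul_pt, eq_comm, pt_eq] at h1
  exact ⟨W, hW, a⁻¹, h1⟩

/-- upper bound of the index -/
theorem index_le {Ws : List (List ℕ)} {cs : List ℕ} (hlen : Ws.length = cs.length) (h0 : [] ∈ Ws)
    (hgd : ∀ W ∈ Ws, ∀ a, Gd hg Ws W a)
    (hst : ∀ (A : MulAction QA (G ⧸ Cl g 11)), (∀ (a : QA) (x : G ⧸ Cl g 11), a • x = th hg a • x) →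
      ∀ p ∈ Ws.zip cs, 239500800 ≤ p.2 * Nat.card (stabilizer QA (pt g (ev g p.1)))) (htop : Cl g 13 = ⊤) :
    Finite (G ⧸ Cl g 11) ∧ (Cl g 11).index ≤ cs.sum := by
  have hfin := finite_QA
  letI A : MulAction QA (G ⧸ Cl g 11) := MulAction.compHom _ (th hg)
  have hA : ∀ (a : QA) (x : G ⧸ Cl g 11), a • x = th hg a • x := fun _ _ => rfl
  have hst' := hst A hA
  have horb : ∀ p ∈ Ws.zip cs, (orbit QA (pt g (ev g p.1))).ncard ≤ p.2 := by
    intro p hp
    have h1 := hst' p hp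
    have h2 := (stabilizer QA (pt g (ev g p.1))).card_mul_index
    rw [index_stabilizer, card_QA] at h2
    rw [← h2, mul_comm] at h1
    exact Nat.le_of_mul_le_mul_right h1 Nat.card_pos
  have hcov : ∀ x : G, ∃ W ∈ Ws, pt g x ∈ orbit QA (pt g (ev g W)) := by
    have hu : ∀ x : G, (∃ W ∈ Ws, pt g x ∈ orbit QA (pt g (ev g W))) →
        ∃ W ∈ Ws, pt g (x * g 12) ∈ orbit QA (pt g (ev g W)) := by
      rintro x ⟨W, hW, a, ha⟩
      have h1 : th hg a • pt g (ev g W) = pt g x := ha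
      rw [smul_pt, eq_comm, pt_eq] at h1
      obtain ⟨W', hW', b, hb⟩ := hgd W hW a⁻¹
      refine ⟨W', hW', b⁻¹, ?_⟩
      show th hg b⁻¹ • pt g (ev g W') = pt g (x * g 12)
      rw [smul_pt, inv_inv, eq_comm, pt_eq]
      have h2 := Subgroup.mul_mem _ h1 hb
      have h3 : x * (ev g W * th hg a⁻¹)⁻¹ * (ev g W * th hg a⁻¹ * g 12 * (ev g W' * th hg b)⁻¹) =
          x * g 12 * (ev g W' * th hg b)⁻¹ := by group
      rwa [h3] at h2
    have hq : ∀ (x y : G), (∃ W ∈ Ws, pt g x ∈ orbit QA (pt g (ev g W))) → (∃ c : QA, th hg c = y) →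
        ∃ W ∈ Ws, pt g (x * y) ∈ orbit QA (pt g (ev g W)) := by
      rintro x y ⟨W, hW, a, ha⟩ ⟨c, rfl⟩
      have h1 : th hg a • pt g (ev g W) = pt g x := ha
      refine ⟨W, hW, c⁻¹ * a, ?_⟩
      show th hg (c⁻¹ * a) • pt g (ev g W) = pt g (x * th hg c)
      rw [map_mul, mul_smul, h1, smul_pt, inv_inv]
    have h13 : ∀ z : G, (∃ W ∈ Ws, pt g z ∈ orbit QA (pt g (ev g W))) →
        ∃ W ∈ Ws, pt g (z * (g 12)⁻¹) ∈ orbit QA (pt g (ev g W)) := by
      intro z hz
      have h1 : (g 12)⁻¹ = g 12 * (g 6 * g 8) := by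
        have h2 := hg.rel ([12, 12, 6, 8], 1) (by decide +kernel)
        have h4 : g 12 * (g 12 * (g 6 * g 8)) = 1 := by simpa using h2
        exact (eq_inv_of_mul_eq_one_right h4).symm
      rw [h1, ← mul_assoc]
      refine hq _ _ (hu z hz) ⟨ev qa [6, 8], ?_⟩
      rw [th_word hg (by decide +kernel)]
      simp [ev]
    have hlet : ∀ y ∈ Cl g 13, ∀ x : G, (∃ W ∈ Ws, pt g x ∈ orbit QA (pt g (ev g W))) →
        (∃ W ∈ Ws, pt g (x * y) ∈ orbit QA (pt g (ev g W))) ∧
          ∃ W ∈ Ws, pt g (x * y⁻¹) ∈ orbit QA (pt g (ev g W)) := by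
      intro y hy
      unfold Cl at hy
      induction hy using Subgroup.closure_induction with
      | mem y hy =>
        intro x hx
        obtain ⟨l, hl, rfl⟩ := hy
        obtain ⟨h1, h2⟩ := isLet_iff.1 (show isLet 13 l = true from hl)
        rcases Nat.lt_or_ge l 12 with h3 | h3
        · have h5 := th_qa hg (isLet_iff.2 ⟨h1, (show l ≤ 11 by omega)⟩)
          exact ⟨hq x _ hx ⟨qa l, h5⟩, hq x _ hx ⟨(qa l)⁻¹, by rw [map_inv, h5]⟩⟩
        · rcases Nat.lt_or_ge l 13 with h4 | h4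
          · have : l = 12 := by omega
            subst this
            exact ⟨hu x hx, h13 x hx⟩
          · have : l = 13 := by omega
            subst this
            rw [g13 hg, inv_inv]
            exact ⟨h13 x hx, hu x hx⟩
      | one => intro x hx; rw [inv_one, mul_one]; exact ⟨hx, hx⟩
      | mul y z _ _ h1 h2 =>
        intro x hx
        rw [mul_inv_rev, ← mul_assoc, ← mul_assoc]
        exact ⟨(h2 _ (h1 _ hx).1).1, (h1 _ (h2 _ hx).2).2⟩
      | inv y _ h1 => intro x hx; rw [inv_inv]; exact ⟨(h1 x hx).2, (h1 x hx).1⟩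
    intro x
    have h1 := (hlet x (by rw [htop]; exact Subgroup.mem_top _) 1 ⟨[], h0, ?_⟩).1
    · rwa [one_mul] at h1
    · show pt g 1 ∈ orbit QA (pt g 1)
      exact mem_orbit_self _
  have key : ∀ L : List (List ℕ × ℕ), (∀ p ∈ L, (orbit QA (pt g (ev g p.1))).ncard ≤ p.2) →
      {x : G ⧸ Cl g 11 | ∃ p ∈ L, x ∈ orbit QA (pt g (ev g p.1))}.Finite ∧
        {x : G ⧸ Cl g 11 | ∃ p ∈ L, x ∈ orbit QA (pt g (ev g p.1))}.ncard ≤ (L.map fun p => p.2).sum := by
    intro L hL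
    induction L with
    | nil => simp
    | cons p L ih =>
      obtain ⟨h1, h2⟩ := ih fun q hq => hL q (by simp [hq])
      have h3 : {x : G ⧸ Cl g 11 | ∃ q ∈ p :: L, x ∈ orbit QA (pt g (ev g q.1))} =
          orbit QA (pt g (ev g p.1)) ∪ {x : G ⧸ Cl g 11 | ∃ p ∈ L, x ∈ orbit QA (pt g (ev g p.1))} := by
        ext x
        simp
      have h4 : (orbit QA (pt g (ev g p.1))).Finite := Set.finite_range _
      rw [h3]
      refine ⟨h4.union h1, (Set.ncard_union_le _ _).trans ?_⟩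
      rw [List.map_cons, List.sum_cons]
      exact Nat.add_le_add (hL p (by simp)) h2
  obtain ⟨h1, h2⟩ := key _ horb
  have h3 : {x : G ⧸ Cl g 11 | ∃ p ∈ Ws.zip cs, x ∈ orbit QA (pt g (ev g p.1))} = Set.univ := by
    ext x
    simp only [Set.mem_univ, iff_true, Set.mem_ofPred_eq]
    obtain ⟨y, rfl⟩ := QuotientGroup.mk_surjective x
    obtain ⟨W, hW, h⟩ := hcov y⁻¹
    obtain ⟨i, hi, rfl⟩ := List.getElem_of_mem hW
    refine ⟨(Ws[i], cs[i]'(by omega)), ?_, ?_⟩
    · rw [List.mem_iff_getElem]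
      exact ⟨i, by simp; omega, by simp⟩
    · unfold pt at h ⊢
      rwa [inv_inv] at h
  have h4 : (Ws.zip cs).map (fun p => p.2) = cs := by
    apply List.ext_getElem
    · simp [hlen]
    · intro i h1 h2
      simp
  rw [h3] at h1 h2
  have h5 : Finite (G ⧸ Cl g 11) := Set.finite_univ_iff.1 h1
  refine ⟨h5, ?_⟩
  rw [Set.ncard_univ, h4] at h2
  exact h2

end

end Cfsg.Agent.HN
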