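import Cfsg.Agent.CosetEnum.HN.Base

/-!
Rules of a double coset enumeration: `Q g a b` says that the cosets `H a` and `H b` are equal (owner: helper66).
-/

set_option autoImplicit false
set_option maxRecDepth 1000000

namespace Cfsg.Agent.HN

open MulAction Cfsg.Agent.CosetEnum

section

variable {G : Type} [Group G] {g : ℕ → G}

/-- value of a word -/
def ev (g : ℕ → G) (u : List ℕ) : G := (u.map g).prod

theorem ev_nil : ev g [] = 1 := rfl

theorem ev_app (a b : List ℕ) : ev g (a ++ b) = ev g a * ev g b := by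
  unfold ev
  rw [List.map_append, List.prod_append]

theorem ev_cons (x : ℕ) (b : List ℕ) : ev g (x :: b) = g x * ev g b := by
  unfold ev
  rw [List.map_cons, List.prod_cons]

/-- the cosets of `a` and `b` are equal -/
def Q (g : ℕ → G) (a b : List ℕ) : Prop := ev g a * (ev g b)⁻¹ ∈ Cl g 11

theorem Q.refl (a : List ℕ) : Q g a a := by
  unfold Q
  rw [mul_inv_cancel]
  exact Subgroup.one_mem _

theorem Q.of_eq {a b : List ℕ} (h : ev g a = ev g b) : Q g a b := by
  unfold Q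
  rw [h, mul_inv_cancel]
  exact Subgroup.one_mem _

theorem Q.symm {a b : List ℕ} (h : Q g a b) : Q g b a := by
  unfold Q at h ⊢
  have := Subgroup.inv_mem _ h
  rwa [mul_inv_rev, inv_inv] at this

theorem Q.trans {a b c : List ℕ} (h : Q g a b) (h' : Q g b c) : Q g a c := by
  unfold Q at h h' ⊢
  have := Subgroup.mul_mem _ h h'
  rwa [mul_assoc, inv_mul_cancel_left] at this

theorem Q.app {a b : List ℕ} (h : Q g a b) (c : List ℕ) : Q g (a ++ c) (b ++ c) := by
  unfold Q at h ⊢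
  rw [ev_app, ev_app, mul_inv_rev, mul_assoc, mul_inv_cancel_left]
  exact h

theorem Q.comp {W s t : List ℕ} (hs : Q g (W ++ s) W) (ht : Q g (W ++ t) W) : Q g (W ++ (s ++ t)) W := by
  rw [← List.append_assoc]
  exact (hs.app t).trans ht

/-- the inverse of a word -/
def iw (u : List ℕ) : List ℕ := invW [(9, 10), (12, 13)] u

variable (hg : Good g 13 iv RL)

include hg

theorem ev_iw (u : List ℕ) : ev g (iw u) = (ev g u)⁻¹ := prod_invW hg.inv u

theorem Q.inv {W s : List ℕ} (hs : Q g (W ++ s) W) : Q g (W ++ iw s) W := by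
  have h := hs.symm.app (iw s)
  refine h.trans (Q.of_eq ?_)
  rw [ev_app, ev_app, ev_iw hg]
  group

theorem goodA : Good (CosetEnum.cut g 11) 11 HNT12.iv HNT12.RL := hg.cut (by decide +kernel)

/-- words that agree on the points are equal -/
theorem eqW {u v : List ℕ} (h : eqB u v = true) : ev g u = ev g v := by
  obtain ⟨φ, hφ⟩ := UA.univ _ _ (goodA hg)
  have h1 := eqA h
  have h2 : ∀ u, wOK 11 u = true → φ (u.map qa).prod = ev g u := by
    intro u hu
    rw [map_list_prod, List.map_map]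
    unfold ev
    congr 1
    apply List.map_congr_left
    intro x hx
    simp only [wOK, List.all_eq_true] at hu
    rw [Function.comp, hφ, CosetEnum.cut, if_pos (hu x hx)]
  unfold eqB at h
  simp only [Bool.and_eq_true] at h
  rw [← h2 u h.1.1, ← h2 v h.1.2, h1]

/-- images of the letters under `u` -/
def al1 : ℕ → List ℕ
  | 1 => [1]
  | 2 => [3]
  | 3 => [2]
  | 4 => [3, 2, 4, 6, 8]
  | 5 => [3, 2, 5, 4, 6, 7, 6, 8, 7, 6, 5]
  | 6 => [3, 2, 4, 7, 6, 8, 7]
  | 7 => [3, 2, 5, 4, 6, 5, 8]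
  | 8 => [3, 2, 4, 6, 7, 6, 8, 7, 6]
  | 9 => [9]
  | 10 => [10]
  | _ => []

/-- conjugation by `u` -/
def al (v : List ℕ) : List ℕ := v.flatMap al1

/-- the relation `u⁻¹ x u = al1 x` is in the list -/
def alB (x : ℕ) : Bool :=
  RL.contains ([13, x, 12] ++ iw (al1 x), 1) || RL.contains ([13, x, 12] ++ (al1 x).reverse, 1)

omit hg in
theorem ev_one {x : ℕ} (h : g x = 1) (u : List ℕ) : ev g (x :: u) = ev g u := by
  rw [ev_cons, h, one_mul]

theorem g13 : g 13 = (g 12)⁻¹ := hg.inv 12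

theorem inv_self {x : ℕ} (hx : ivL iv x = x) : (g x)⁻¹ = g x := by
  rw [← hg.inv, hx]

theorem al_letter {x : ℕ} (h1 : 1 ≤ x) (h2 : x ≤ 10) : g x * g 12 = g 12 * ev g (al1 x) := by
  have hr := hg.rel
  have key : ∀ (z : List ℕ), (((([13, x, 12] ++ z).map g).prod) ^ 1 = 1) → ev g (iw (al1 x)) = ev g z →
      g x * g 12 = g 12 * ev g (al1 x) := by
    intro z hz hz'
    rw [pow_one, List.map_append, List.prod_append] at hz
    simp only [List.map_cons, List.map_nil, List.prod_cons, List.prod_nil, mul_one] at hz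
    rw [g13 hg] at hz
    rw [ev_iw hg] at hz'
    have h3 : (z.map g).prod = (ev g (al1 x))⁻¹ := hz'.symm
    rw [h3, mul_inv_eq_one, inv_mul_eq_iff_eq_mul] at hz
    exact hz
  interval_cases x
  · have h3 := hg.rel ([13, 1, 12, 1], 1) (by decide +kernel)
    exact key [1] h3 (eqW hg (by decide +kernel))
  · have h3 := hg.rel ([13, 2, 12, 3], 1) (by decide +kernel)
    exact key [3] h3 (eqW hg (by decide +kernel))
  · have h3 := hg.rel ([13, 3, 12, 2], 1) (by decide +kernel)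
    exact key [2] h3 (eqW hg (by decide +kernel))
  · have h3 := hg.rel ([13, 4, 12, 8, 6, 4, 2, 3], 1) (by decide +kernel)
    exact key _ h3 (eqW hg (by decide +kernel))
  · have h3 := hg.rel ([13, 5, 12, 5, 6, 7, 8, 6, 7, 6, 4, 5, 2, 3], 1) (by decide +kernel)
    exact key _ h3 (eqW hg (by decide +kernel))
  · have h3 := hg.rel ([13, 6, 12, 7, 8, 6, 7, 4, 2, 3], 1) (by decide +kernel)
    exact key _ h3 (eqW hg (by decide +kernel))
  · have h3 := hg.rel ([13, 7, 12, 8, 5, 6, 4, 5, 2, 3], 1) (by decide +kernel)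
    exact key _ h3 (eqW hg (by decide +kernel))
  · have h3 := hg.rel ([13, 8, 12, 6, 7, 8, 6, 7, 6, 4, 2, 3], 1) (by decide +kernel)
    exact key _ h3 (eqW hg (by decide +kernel))
  · have h3 := hg.rel ([12, 9, 13, 10], 1) (by decide +kernel)
    simp only [pow_one, List.map_cons, List.map_nil, List.prod_cons, List.prod_nil, mul_one] at h3
    have h4 : g 10 = (g 9)⁻¹ := hg.inv 9
    rw [g13 hg, h4] at h3
    show g 9 * g 12 = g 12 * (g 9 * 1)
    rw [mul_one]
    have h5 : g 12 * g 9 = g 9 * g 12 := by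
      have : g 12 * g 9 * (g 9 * g 12)⁻¹ = 1 := by
        rw [mul_inv_rev, ← h3]
        group
      exact mul_inv_eq_one.1 this
    exact h5.symm
  · have h3 := hg.rel ([12, 9, 13, 10], 1) (by decide +kernel)
    simp only [pow_one, List.map_cons, List.map_nil, List.prod_cons, List.prod_nil, mul_one] at h3
    have h4 : g 10 = (g 9)⁻¹ := hg.inv 9
    rw [g13 hg, h4] at h3
    show g 10 * g 12 = g 12 * (g 10 * 1)
    rw [mul_one, h4]
    have h5 : g 12 * g 9 = g 9 * g 12 := by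
      have : g 12 * g 9 * (g 9 * g 12)⁻¹ = 1 := by
        rw [mul_inv_rev, ← h3]
        group
      exact mul_inv_eq_one.1 this
    rw [inv_mul_eq_iff_eq_mul, ← mul_assoc, ← h5]
    group

theorem al_word {v : List ℕ} (hv : wOK 10 v = true) : ev g v * g 12 = g 12 * ev g (al v) := by
  induction v with
  | nil => simp [ev, al]
  | cons x v ih =>
    simp only [wOK, List.all_cons, Bool.and_eq_true] at hv
    obtain ⟨h1, h2⟩ := isLet_iff.1 hv.1
    have h3 : al (x :: v) = al1 x ++ al v := by simp [al]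
    rw [h3, ev_cons, ev_app, mul_assoc, ih hv.2, ← mul_assoc, al_letter hg h1 h2, mul_assoc]

/-- a step with `u` -/
theorem mv {W Wj sp a a' b v : List ℕ} (hu : Q g (W ++ a ++ [12]) (Wj ++ b)) (hs : Q g (W ++ sp) W)
    (hv : wOK 10 v = true) (he : eqB a' (sp ++ a ++ v) = true) : Q g (W ++ a' ++ [12]) (Wj ++ (b ++ al v)) := by
  have h1 : ev g (W ++ a' ++ [12]) = ev g (W ++ sp ++ a ++ ([12] ++ al v)) := by
    simp only [ev_app, eqW hg he]
    have h2 := al_word hg hv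
    have h3 : ev g [12] = g 12 := by simp [ev]
    rw [h3]
    simp only [mul_assoc]
    rw [h2]
  have h2 : Q g (W ++ sp ++ a ++ ([12] ++ al v)) (W ++ a ++ ([12] ++ al v)) := by
    have := hs.app (a ++ ([12] ++ al v))
    simpa only [List.append_assoc] using this
  have h3 : Q g (W ++ a ++ ([12] ++ al v)) (Wj ++ (b ++ al v)) := by
    have := hu.app (al v)
    simpa only [List.append_assoc] using this
  exact (Q.of_eq h1).trans (h2.trans h3)

/-- two descriptions of the same step give an element of the stabiliser -/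
theorem df {W Wj sp a1 a2 b1 b2 v s : List ℕ} (h1 : Q g (W ++ a1 ++ [12]) (Wj ++ b1))
    (h2 : Q g (W ++ a2 ++ [12]) (Wj ++ b2)) (hs : Q g (W ++ sp) W)
    (hv : wOK 10 v = true) (he : eqB a2 (sp ++ a1 ++ v) = true) (he' : eqB s (b1 ++ al v ++ iw b2) = true) :
    Q g (Wj ++ s) Wj := by
  have h3 := (mv hg h1 hs hv he).symm.trans h2
  have h4 := h3.app (iw b2)
  have h5 : ev g (Wj ++ s) = ev g (Wj ++ (b1 ++ al v) ++ iw b2) := by
    simp only [ev_app, eqW hg he', mul_assoc]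
  have h6 : ev g (Wj ++ b2 ++ iw b2) = ev g Wj := by
    simp only [ev_app, ev_iw hg, mul_assoc, mul_inv_cancel, mul_one]
  exact (Q.of_eq h5).trans (h4.trans (Q.of_eq h6))

theorem usq : ev g [12, 12] = ev g [6, 8] := by
  have h := hg.rel ([12, 12, 6, 8], 1) (by decide +kernel)
  have h1 : ev g [12, 12] * ev g [6, 8] = 1 := by
    rw [← ev_app]
    simpa [ev] using h
  have h2 : ev g [6, 8] * ev g [6, 8] = 1 := by
    rw [← ev_app]
    exact eqW hg (v := []) (by decide +kernel)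
  rw [mul_eq_one_iff_eq_inv] at h1 h2
  rw [h1]
  exact h2.symm

theorem rv {W Wj a b a' b' : List ℕ} (h : Q g (W ++ a ++ [12]) (Wj ++ b)) (he : eqB b' b = true)
    (he' : eqB a' (a ++ [6, 8]) = true) : Q g (Wj ++ b' ++ [12]) (W ++ a') := by
  have h1 := h.symm.app [12]
  refine (Q.of_eq ?_).trans (h1.trans (Q.of_eq ?_))
  · simp only [ev_app, eqW hg he]
  · have h2 : ev g (W ++ a ++ [12] ++ [12]) = ev g (W ++ a) * ev g [12, 12] := by
      rw [← ev_app]
      simp
    rw [h2, usq hg]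
    simp only [ev_app, eqW hg he', mul_assoc]

theorem pentR : ev g [12] = ev g ([4, 11] ++ [12] ++ [6, 8, 4, 11] ++ [12] ++ [6, 8, 4, 11] ++ [12] ++ [6, 8, 4, 11] ++
    [12] ++ [6, 8, 4, 11]) := by
  have h := hg.rel ([12, 11, 4], 5) (by decide +kernel)
  have h0 : ((([12, 11, 4] : List ℕ).map g).prod) = g 12 * ev g [11, 4] := by simp [ev]
  rw [h0] at h
  have hu := usq hg
  have e1 : ev g [12, 12] = g 12 * g 12 := by simp [ev]
  have e2 : ev g [6, 8] = g 6 * g 8 := by simp [ev]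
  have e3 : ev g [6, 8] * ev g [6, 8] = 1 := by
    rw [← ev_app]
    exact eqW hg (v := []) (by decide +kernel)
  have e4 : ev g [11, 4] * ev g [4, 11] = 1 := by
    rw [← ev_app]
    exact eqW hg (v := []) (by decide +kernel)
  rw [e1, e2] at hu
  rw [e2] at e3
  set u := g 12
  set m := ev g [11, 4]
  set k := g 6 * g 8
  have e5 : ev g [4, 11] = m⁻¹ := (inv_eq_of_mul_eq_one_right e4).symm
  have e6 : ev g [6, 8, 4, 11] = k * m⁻¹ := by
    rw [← e5]
    simp [ev, k, mul_assoc]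
  have e7 : u * k = u⁻¹ := by
    rw [eq_inv_iff_mul_eq_one]
    have : u * k = k * u := by rw [← hu]; group
    rw [this, mul_assoc, hu, e3]
  have e8 : ev g [12] = u := by simp [ev, u]
  simp only [ev_app, e8, e5, e6]
  have e9 : m⁻¹ * u * (k * m⁻¹) * u * (k * m⁻¹) * u * (k * m⁻¹) * u * (k * m⁻¹) =
      m⁻¹ * (u * k) * m⁻¹ * (u * k) * m⁻¹ * (u * k) * m⁻¹ * (u * k) * m⁻¹ := by group
  rw [e9, e7]
  have h' : u * m * (u * m) * (u * m) * (u * m) * (u * m) = 1 := by
    have : (u * m) ^ 5 = 1 := h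
    rw [← this]
    simp only [pow_succ, pow_zero, one_mul]
  have e10 : m⁻¹ * u⁻¹ * m⁻¹ * u⁻¹ * m⁻¹ * u⁻¹ * m⁻¹ * u⁻¹ * m⁻¹ =
      (u * m * (u * m) * (u * m) * (u * m) * (u * m))⁻¹ * u := by group
  rw [e10, h', inv_one, one_mul]

theorem pent {W W1 W2 W3 W4 a b c1 c2 c3 c4 : List ℕ}
    (m1 : Q g (W ++ (a ++ [4, 11]) ++ [12]) (W1 ++ c1))
    (m2 : Q g (W1 ++ (c1 ++ [6, 8, 4, 11]) ++ [12]) (W2 ++ c2))
    (m3 : Q g (W2 ++ (c2 ++ [6, 8, 4, 11]) ++ [12]) (W3 ++ c3))
    (m4 : Q g (W3 ++ (c3 ++ [6, 8, 4, 11]) ++ [12]) (W4 ++ c4))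
    (he : eqB b (c4 ++ [6, 8, 4, 11]) = true) : Q g (W ++ a ++ [12]) (W4 ++ b) := by
  have h1 : ev g (W ++ a ++ [12]) = ev g (W ++ (a ++ [4, 11]) ++ [12] ++ ([6, 8, 4, 11] ++ [12] ++ [6, 8, 4, 11] ++ [12] ++
      [6, 8, 4, 11] ++ [12] ++ [6, 8, 4, 11])) := by
    rw [ev_app _ [12], pentR hg]
    simp only [ev_app, mul_assoc]
  have h2 := m1.app ([6, 8, 4, 11] ++ [12] ++ [6, 8, 4, 11] ++ [12] ++ [6, 8, 4, 11] ++ [12] ++ [6, 8, 4, 11])
  have h3 := m2.app ([6, 8, 4, 11] ++ [12] ++ [6, 8, 4, 11] ++ [12] ++ [6, 8, 4, 11])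
  have h4 := m3.app ([6, 8, 4, 11] ++ [12] ++ [6, 8, 4, 11])
  have h5 := m4.app [6, 8, 4, 11]
  have h6 : ev g (W4 ++ b) = ev g (W4 ++ c4 ++ [6, 8, 4, 11]) := by
    simp only [ev_app, eqW hg he, mul_assoc]
  refine (Q.of_eq h1).trans ?_
  refine h2.trans ?_
  have a1 : W1 ++ c1 ++ ([6, 8, 4, 11] ++ [12] ++ [6, 8, 4, 11] ++ [12] ++ [6, 8, 4, 11] ++ [12] ++ [6, 8, 4, 11]) =
      W1 ++ (c1 ++ [6, 8, 4, 11]) ++ [12] ++ ([6, 8, 4, 11] ++ [12] ++ [6, 8, 4, 11] ++ [12] ++ [6, 8, 4, 11]) := by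
    simp only [List.append_assoc]
  have a2 : W2 ++ c2 ++ ([6, 8, 4, 11] ++ [12] ++ [6, 8, 4, 11] ++ [12] ++ [6, 8, 4, 11]) =
      W2 ++ (c2 ++ [6, 8, 4, 11]) ++ [12] ++ ([6, 8, 4, 11] ++ [12] ++ [6, 8, 4, 11]) := by
    simp only [List.append_assoc]
  have a3 : W3 ++ c3 ++ ([6, 8, 4, 11] ++ [12] ++ [6, 8, 4, 11]) =
      W3 ++ (c3 ++ [6, 8, 4, 11]) ++ [12] ++ [6, 8, 4, 11] := by
    simp only [List.append_assoc]
  rw [a1]
  refine h3.trans ?_
  rw [a2]
  refine h4.trans ?_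
  rw [a3]
  exact h5.trans (Q.of_eq h6.symm)

end

end Cfsg.Agent.HN
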