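import Cfsg.Agent.CosetEnum.HN.Dce

/-! Facts of the double coset enumeration (generated, owner: helper66). -/

set_option autoImplicit false
set_option maxRecDepth 1000000

namespace Cfsg.Agent.HN

open Cfsg.Agent.CosetEnum

/-- double coset 0, stabiliser of order 239500800 -/
def W0 : List ℕ := []

/-- double coset 1, stabiliser of order 518400 -/
def W1 : List ℕ := [12]

/-- double coset 2, stabiliser of order 14400 -/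
def W2 : List ℕ := [12, 11, 12]

/-- double coset 3, stabiliser of order 23040 -/
def W3 : List ℕ := [12, 11, 3, 4, 11, 12]

/-- double coset 4, stabiliser of order 7776 -/
def W4 : List ℕ := [12, 11, 3, 4, 11, 5, 4, 9, 3, 11, 12]

/-- double coset 5, stabiliser of order 768 -/
def W5 : List ℕ := [12, 11, 12, 11, 3, 4, 11, 12]

/-- double coset 6, stabiliser of order 1440 -/
def W6 : List ℕ := [12, 11, 12, 11, 3, 4, 11, 5, 4, 9, 3, 11, 12]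

/-- double coset 7, stabiliser of order 1440 -/
def W7 : List ℕ := [12, 11, 12, 2, 11, 3, 4, 11, 5, 4, 9, 3, 11, 12]

/-- double coset 8, stabiliser of order 3456 -/
def W8 : List ℕ := [12, 11, 3, 4, 11, 12, 11, 5, 4, 9, 3, 11, 12]

/-- double coset 9, stabiliser of order 660 -/
def W9 : List ℕ := [12, 11, 12, 11, 3, 4, 11, 12, 5, 4, 9, 3, 11, 12]

/-- double coset 10, stabiliser of order 95040 -/
def W10 : List ℕ := [12, 11, 12, 11, 3, 4, 11, 5, 4, 9, 3, 11, 12, 2, 4, 11, 5, 4, 10, 3, 11, 12]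

/-- double coset 11, stabiliser of order 95040 -/
def W11 : List ℕ := [12, 11, 12, 2, 11, 3, 4, 11, 5, 4, 9, 3, 11, 12, 4, 9, 3, 11, 5, 4, 9, 3, 11, 12]

variable {G : Type} [Group G] {g : ℕ → G}

theorem Q.triv (W : List ℕ) : Q g (W ++ []) W := by
  rw [List.append_nil]
  exact Q.refl W

theorem q0 {s : List ℕ} (h : wOK 11 s = true) : Q g (W0 ++ s) W0 := by
  unfold Q
  show ev g s * (ev g [])⁻¹ ∈ Cl g 11
  rw [ev_nil, inv_one, mul_one]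
  exact word_mem_Cl g h

theorem qd {W W' a : List ℕ} (h : W' = W ++ a ++ [12]) : Q g (W ++ a ++ [12]) (W' ++ []) := by
  rw [List.append_nil, h]
  exact Q.refl _

variable (hg : Good g 13 iv RL)

include hg

theorem s0_0 : Q g (W0 ++ [1]) W0 :=
  have _ := hg
  q0 (by decide +kernel)

theorem s0_1 : Q g (W0 ++ [2]) W0 :=
  have _ := hg
  q0 (by decide +kernel)

theorem s0_2 : Q g (W0 ++ [3]) W0 :=
  have _ := hg
  q0 (by decide +kernel)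

theorem s0_3 : Q g (W0 ++ [11]) W0 :=
  have _ := hg
  q0 (by decide +kernel)

theorem s0_4 : Q g (W0 ++ [4]) W0 :=
  have _ := hg
  q0 (by decide +kernel)

theorem s0_5 : Q g (W0 ++ [5]) W0 :=
  have _ := hg
  q0 (by decide +kernel)

theorem s0_6 : Q g (W0 ++ [6]) W0 :=
  have _ := hg
  q0 (by decide +kernel)

theorem s0_7 : Q g (W0 ++ [7]) W0 :=
  have _ := hg
  q0 (by decide +kernel)

theorem s0_8 : Q g (W0 ++ [8]) W0 :=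
  have _ := hg
  q0 (by decide +kernel)

theorem s0_9 : Q g (W0 ++ [9]) W0 :=
  have _ := hg
  q0 (by decide +kernel)

theorem s0_10 : Q g (W0 ++ [10]) W0 :=
  have _ := hg
  q0 (by decide +kernel)

theorem u0 : Q g (W0 ++ [] ++ [12]) (W1 ++ []) :=
  have _ := hg
  qd rfl

theorem u1 : Q g (W1 ++ [] ++ [12]) (W0 ++ [6, 8]) :=
  rv hg (u0 hg) (by decide +kernel) (by decide +kernel)

theorem u2 : Q g (W1 ++ [11] ++ [12]) (W2 ++ []) :=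
  have _ := hg
  qd rfl

theorem u3 : Q g (W2 ++ [] ++ [12]) (W1 ++ [11, 6, 8]) :=
  rv hg (u2 hg) (by decide +kernel) (by decide +kernel)

theorem u5 : Q g (W1 ++ [11, 3, 4, 11] ++ [12]) (W3 ++ []) :=
  have _ := hg
  qd rfl

theorem u6 : Q g (W3 ++ [] ++ [12]) (W1 ++ [11, 3, 4, 11, 6, 8]) :=
  rv hg (u5 hg) (by decide +kernel) (by decide +kernel)

theorem u7 : Q g (W1 ++ [11, 3, 4, 11, 5, 4, 9, 3, 11] ++ [12]) (W4 ++ []) :=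
  have _ := hg
  qd rfl

theorem u8 : Q g (W4 ++ [] ++ [12]) (W1 ++ [11, 3, 4, 11, 5, 4, 9, 3, 11, 6, 8]) :=
  rv hg (u7 hg) (by decide +kernel) (by decide +kernel)

theorem u9 : Q g (W2 ++ [11, 3, 4, 11] ++ [12]) (W5 ++ []) :=
  have _ := hg
  qd rfl

theorem u10 : Q g (W5 ++ [] ++ [12]) (W2 ++ [11, 3, 4, 11, 6, 8]) :=
  rv hg (u9 hg) (by decide +kernel) (by decide +kernel)

theorem u17 : Q g (W2 ++ [11, 3, 4, 11, 5, 4, 9, 3, 11] ++ [12]) (W6 ++ []) :=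
  have _ := hg
  qd rfl

theorem u18 : Q g (W6 ++ [] ++ [12]) (W2 ++ [11, 3, 4, 11, 5, 4, 9, 3, 11, 6, 8]) :=
  rv hg (u17 hg) (by decide +kernel) (by decide +kernel)

theorem u19 : Q g (W2 ++ [2, 11, 3, 4, 11, 5, 4, 9, 3, 11] ++ [12]) (W7 ++ []) :=
  have _ := hg
  qd rfl

theorem u20 : Q g (W7 ++ [] ++ [12]) (W2 ++ [2, 11, 3, 4, 11, 5, 4, 9, 3, 11, 6, 8]) :=
  rv hg (u19 hg) (by decide +kernel) (by decide +kernel)

theorem u46 : Q g (W3 ++ [11, 5, 4, 9, 3, 11] ++ [12]) (W8 ++ []) :=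
  have _ := hg
  qd rfl

theorem u47 : Q g (W8 ++ [] ++ [12]) (W3 ++ [11, 5, 4, 9, 3, 11, 6, 8]) :=
  rv hg (u46 hg) (by decide +kernel) (by decide +kernel)

theorem u56 : Q g (W5 ++ [5, 4, 9, 3, 11] ++ [12]) (W9 ++ []) :=
  have _ := hg
  qd rfl

theorem u57 : Q g (W9 ++ [] ++ [12]) (W5 ++ [5, 4, 9, 3, 11, 6, 8]) :=
  rv hg (u56 hg) (by decide +kernel) (by decide +kernel)

theorem u74 : Q g (W6 ++ [2, 4, 11, 5, 4, 10, 3, 11] ++ [12]) (W10 ++ []) :=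
  have _ := hg
  qd rfl

theorem u75 : Q g (W10 ++ [] ++ [12]) (W6 ++ [2, 4, 11, 5, 4, 10, 3, 11, 6, 8]) :=
  rv hg (u74 hg) (by decide +kernel) (by decide +kernel)

theorem u78 : Q g (W7 ++ [4, 9, 3, 11, 5, 4, 9, 3, 11] ++ [12]) (W11 ++ []) :=
  have _ := hg
  qd rfl

theorem u79 : Q g (W11 ++ [] ++ [12]) (W7 ++ [4, 9, 3, 11, 5, 4, 9, 3, 11, 6, 8]) :=
  rv hg (u78 hg) (by decide +kernel) (by decide +kernel)

theorem s1_0 : Q g (W1 ++ [1]) W1 :=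
  df hg (u0 hg) (u0 hg) (s0_0 hg) (v := [1]) (by decide +kernel) (by decide +kernel) (by decide +kernel)

theorem s1_1 : Q g (W1 ++ [3]) W1 :=
  df hg (u0 hg) (u0 hg) (s0_1 hg) (v := [2]) (by decide +kernel) (by decide +kernel) (by decide +kernel)

theorem s1_2 : Q g (W1 ++ [2]) W1 :=
  df hg (u0 hg) (u0 hg) (s0_2 hg) (v := [3]) (by decide +kernel) (by decide +kernel) (by decide +kernel)

theorem s1_3 : Q g (W1 ++ [3, 2, 4, 6, 8]) W1 :=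
  df hg (u0 hg) (u0 hg) (s0_4 hg) (v := [4]) (by decide +kernel) (by decide +kernel) (by decide +kernel)

theorem s1_4 : Q g (W1 ++ [3, 2, 5, 4, 6, 7, 6, 8, 7, 6, 5]) W1 :=
  df hg (u0 hg) (u0 hg) (s0_5 hg) (v := [5]) (by decide +kernel) (by decide +kernel) (by decide +kernel)

theorem s1_5 : Q g (W1 ++ [3, 2, 4, 7, 6, 8, 7]) W1 :=
  df hg (u0 hg) (u0 hg) (s0_6 hg) (v := [6]) (by decide +kernel) (by decide +kernel) (by decide +kernel)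

theorem s1_6 : Q g (W1 ++ [3, 2, 5, 4, 6, 5, 8]) W1 :=
  df hg (u0 hg) (u0 hg) (s0_7 hg) (v := [7]) (by decide +kernel) (by decide +kernel) (by decide +kernel)

theorem s1_7 : Q g (W1 ++ [3, 2, 4, 6, 7, 6, 8, 7, 6]) W1 :=
  df hg (u0 hg) (u0 hg) (s0_8 hg) (v := [8]) (by decide +kernel) (by decide +kernel) (by decide +kernel)

theorem s1_8 : Q g (W1 ++ [10]) W1 :=
  df hg (u0 hg) (u0 hg) (s0_9 hg) (v := [10]) (by decide +kernel) (by decide +kernel) (by decide +kernel)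

theorem s2_0 : Q g (W2 ++ [1]) W2 :=
  df hg (u2 hg) (u2 hg) (s1_0 hg) (v := [1]) (by decide +kernel) (by decide +kernel) (by decide +kernel)

theorem s2_1 : Q g (W2 ++ [1, 3]) W2 :=
  df hg (u2 hg) (u2 hg) (s1_2 hg) (v := [1, 2]) (by decide +kernel) (by decide +kernel) (by decide +kernel)

theorem s2_2 : Q g (W2 ++ [4, 6]) W2 :=
  df hg (u2 hg) (u2 hg) (((s1_3 hg).inv hg).comp (s1_5 hg)) (v := [6, 7, 6, 8, 7, 6]) (by decide +kernel) (by decide +kernel) (by decide +kernel)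

theorem s2_3 : Q g (W2 ++ [6, 5, 7, 8, 7, 6]) W2 :=
  df hg (u2 hg) (u2 hg) (((s1_4 hg).inv hg).comp (s1_6 hg)) (v := [5, 7, 6, 5, 8, 7]) (by decide +kernel) (by decide +kernel) (by decide +kernel)

theorem s2_4 : Q g (W2 ++ [4, 8]) W2 :=
  df hg (u2 hg) (u2 hg) (((s1_3 hg).inv hg).comp (s1_7 hg)) (v := [7, 6, 8, 7]) (by decide +kernel) (by decide +kernel) (by decide +kernel)

theorem s2_5 : Q g (W2 ++ [3, 10, 10, 3]) W2 :=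
  df hg (u2 hg) (u2 hg) (s1_8 hg) (v := [4, 9, 4]) (by decide +kernel) (by decide +kernel) (by decide +kernel)

theorem s2_6 : Q g (W2 ++ [2, 4, 6, 7, 8, 7, 6, 5]) W2 :=
  df hg (u2 hg) (u2 hg) (((s1_1 hg).inv hg).comp (((s1_4 hg).inv hg).comp (((s1_5 hg).inv hg).comp ((s1_4 hg).comp ((s1_6 hg).comp (s1_3 hg)))))) (v := [2, 5, 6, 5, 7, 6, 5, 8, 7, 6]) (by decide +kernel) (by decide +kernel) (by decide +kernel)

theorem s3_0 : Q g (W3 ++ [1]) W3 :=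
  df hg (u5 hg) (u5 hg) (((s1_8 hg).inv hg).comp ((s1_0 hg).comp ((s1_8 hg).inv hg))) (v := [1]) (by decide +kernel) (by decide +kernel) (by decide +kernel)

theorem s3_1 : Q g (W3 ++ [4, 6]) W3 :=
  df hg (u5 hg) (u5 hg) ((s1_8 hg).comp (((s1_3 hg).inv hg).comp ((s1_5 hg).comp ((s1_8 hg).inv hg)))) (v := [6, 7, 6, 8, 7, 6]) (by decide +kernel) (by decide +kernel) (by decide +kernel)

theorem s3_2 : Q g (W3 ++ [4, 8]) W3 :=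
  df hg (u5 hg) (u5 hg) ((s1_8 hg).comp (((s1_3 hg).inv hg).comp ((s1_7 hg).comp ((s1_8 hg).inv hg)))) (v := [7, 6, 8, 7]) (by decide +kernel) (by decide +kernel) (by decide +kernel)

theorem s3_3 : Q g (W3 ++ [6, 10, 2, 3, 8, 9]) W3 :=
  df hg (u5 hg) (u5 hg) (((s1_8 hg).inv hg).comp (((s1_3 hg).inv hg).comp ((s1_1 hg).comp ((s1_2 hg).comp ((s1_8 hg).inv hg))))) (v := [3, 6, 10, 8, 10]) (by decide +kernel) (by decide +kernel) (by decide +kernel)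

theorem s3_4 : Q g (W3 ++ [4, 6, 9, 3, 2, 8, 9]) W3 :=
  df hg (u5 hg) (u5 hg) (((s1_4 hg).inv hg).comp ((s1_8 hg).comp (((s1_1 hg).inv hg).comp ((s1_4 hg).comp ((s1_2 hg).comp ((s1_8 hg).inv hg)))))) (v := [9, 4, 9]) (by decide +kernel) (by decide +kernel) (by decide +kernel)

theorem s3_5 : Q g (W3 ++ [10, 3, 9, 9]) W3 :=
  df hg (u5 hg) (u5 hg) ((s1_8 hg).comp ((s1_8 hg).comp ((s1_2 hg).comp ((s1_8 hg).inv hg)))) (v := [10, 2, 9, 9]) (by decide +kernel) (by decide +kernel) (by decide +kernel)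

theorem s3_6 : Q g (W3 ++ [1, 3, 5, 4, 6, 5, 8]) W3 :=
  df hg (u5 hg) (u5 hg) (((s1_4 hg).inv hg).comp (((s1_3 hg).inv hg).comp (((s1_6 hg).inv hg).comp ((s1_8 hg).comp (((s1_5 hg).inv hg).comp ((s1_6 hg).comp (((s1_8 hg).inv hg).comp ((s1_5 hg).comp ((s1_6 hg).comp (s1_4 hg)))))))))) (v := [3, 7]) (by decide +kernel) (by decide +kernel) (by decide +kernel)

theorem s3_7 : Q g (W3 ++ [1, 3, 4, 6, 7, 6, 8, 7, 6]) W3 :=
  df hg (u5 hg) (u5 hg) (((s1_4 hg).inv hg).comp (((s1_6 hg).inv hg).comp (((s1_5 hg).inv hg).comp ((s1_8 hg).comp (((s1_4 hg).inv hg).comp ((s1_7 hg).comp (((s1_8 hg).inv hg).comp ((s1_5 hg).comp ((s1_6 hg).comp (s1_4 hg)))))))))) (v := [3, 8]) (by decide +kernel) (by decide +kernel) (by decide +kernel)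

theorem s4_0 : Q g (W4 ++ [4, 6, 10, 2, 3, 8, 9]) W4 :=
  df hg (u7 hg) (u7 hg) ((s1_8 hg).comp ((s1_2 hg).comp ((s1_8 hg).inv hg))) (v := [1, 9, 4, 9]) (by decide +kernel) (by decide +kernel) (by decide +kernel)

theorem s4_1 : Q g (W4 ++ [2, 4, 6, 9, 3, 10, 10, 8]) W4 :=
  df hg (u7 hg) (u7 hg) (((s1_0 hg).inv hg).comp (((s1_2 hg).inv hg).comp (((s1_8 hg).inv hg).comp ((s1_2 hg).comp (((s1_8 hg).inv hg).comp (s1_2 hg)))))) (v := [4, 10, 2, 9, 9]) (by decide +kernel) (by decide +kernel) (by decide +kernel)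

theorem s4_2 : Q g (W4 ++ [5, 4, 6, 7, 6, 8, 7, 6, 10, 2, 3, 5, 9]) W4 :=
  df hg (u7 hg) (u7 hg) (((s1_0 hg).inv hg).comp (s1_1 hg)) (v := [1, 9, 5, 9]) (by decide +kernel) (by decide +kernel) (by decide +kernel)

theorem s4_3 : Q g (W4 ++ [2, 3, 5, 4, 6, 7, 6, 8, 7, 6, 5, 9, 3, 10]) W4 :=
  df hg (u7 hg) (u7 hg) (((s1_5 hg).inv hg).comp (((s1_8 hg).inv hg).comp (((s1_7 hg).inv hg).comp ((s1_3 hg).comp ((s1_8 hg).comp ((s1_2 hg).comp (s1_0 hg))))))) (v := [1, 5, 9, 2, 10]) (by decide +kernel) (by decide +kernel) (by decide +kernel)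

theorem s4_4 : Q g (W4 ++ [2, 3, 4, 6, 7, 6, 8, 7, 6, 9, 3, 10]) W4 :=
  df hg (u7 hg) (u7 hg) (((s1_0 hg).inv hg).comp (((s1_2 hg).inv hg).comp (((s1_6 hg).inv hg).comp ((s1_8 hg).comp (((s1_5 hg).inv hg).comp ((s1_7 hg).comp (((s1_8 hg).inv hg).comp ((s1_6 hg).comp ((s1_2 hg).comp (s1_0 hg)))))))))) (v := [1, 8, 9, 2, 10]) (by decide +kernel) (by decide +kernel) (by decide +kernel)

theorem s4_5 : Q g (W4 ++ [3, 4, 5, 4, 6, 5, 4, 7, 6, 8, 9, 3, 7, 9]) W4 :=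
  df hg (u7 hg) (u7 hg) (((s1_3 hg).inv hg).comp (((s1_4 hg).inv hg).comp ((s1_8 hg).comp (((s1_6 hg).inv hg).comp ((s1_5 hg).comp (((s1_8 hg).inv hg).comp ((s1_6 hg).comp (s1_3 hg)))))))) (v := [3, 7, 10, 3, 8, 9]) (by decide +kernel) (by decide +kernel) (by decide +kernel)

theorem s5_0 : Q g (W5 ++ [1]) W5 :=
  df hg (u9 hg) (u9 hg) (((s2_5 hg).inv hg).comp (((s2_5 hg).inv hg).comp (((s2_1 hg).inv hg).comp ((s2_0 hg).comp ((s2_1 hg).comp (((s2_5 hg).inv hg).comp ((s2_5 hg).inv hg))))))) (v := [1]) (by decide +kernel) (by decide +kernel) (by decide +kernel)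

theorem s5_1 : Q g (W5 ++ [1, 3, 4, 7, 6, 8, 7]) W5 :=
  df hg (u9 hg) (u9 hg) ((s2_5 hg).comp ((s2_5 hg).comp (((s2_1 hg).inv hg).comp ((s2_2 hg).comp ((s2_1 hg).comp (((s2_5 hg).inv hg).comp ((s2_5 hg).inv hg))))))) (v := [3, 6]) (by decide +kernel) (by decide +kernel) (by decide +kernel)

theorem s5_2 : Q g (W5 ++ [1, 3, 4, 6, 7, 6, 8, 7, 6]) W5 :=
  df hg (u9 hg) (u9 hg) ((s2_5 hg).comp ((s2_5 hg).comp (((s2_1 hg).inv hg).comp ((s2_4 hg).comp ((s2_1 hg).comp (((s2_5 hg).inv hg).comp ((s2_5 hg).inv hg))))))) (v := [3, 8]) (by decide +kernel) (by decide +kernel) (by decide +kernel)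

theorem s5_3 : Q g (W5 ++ [3, 2, 4, 6, 8]) W5 :=
  df hg (u9 hg) (u9 hg) (((s2_5 hg).inv hg).comp (((s2_5 hg).inv hg).comp (((s2_1 hg).inv hg).comp ((s2_5 hg).comp ((s2_5 hg).comp ((s2_1 hg).comp (((s2_5 hg).inv hg).comp ((s2_5 hg).inv hg)))))))) (v := [4]) (by decide +kernel) (by decide +kernel) (by decide +kernel)

theorem s5_4 : Q g (W5 ++ [3, 2, 4, 8]) W5 :=
  df hg (u9 hg) (u9 hg) (((s2_3 hg).inv hg).comp (((s2_4 hg).inv hg).comp (((s2_5 hg).inv hg).comp (((s2_1 hg).inv hg).comp ((s2_2 hg).comp ((s2_1 hg).comp ((s2_5 hg).comp ((s2_6 hg).inv hg)))))))) (v := [2, 3, 7, 6, 8, 7]) (by decide +kernel) (by decide +kernel) (by decide +kernel)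

theorem s6_0 : Q g (W6 ++ [2, 3, 4, 6, 7, 6, 8, 7, 6, 9, 3, 10]) W6 :=
  df hg (u17 hg) (u17 hg) (((s2_0 hg).inv hg).comp (((s2_5 hg).inv hg).comp (((s2_1 hg).inv hg).comp ((s2_4 hg).comp ((s2_1 hg).comp ((s2_5 hg).comp (s2_0 hg))))))) (v := [1, 8, 9, 2, 10]) (by decide +kernel) (by decide +kernel) (by decide +kernel)

theorem s6_1 : Q g (W6 ++ [4, 5, 6, 5, 4, 7, 6, 5, 8, 10, 3, 9, 9, 7]) W6 :=
  df hg (u17 hg) (u17 hg) (((s2_5 hg).inv hg).comp (((s2_1 hg).inv hg).comp ((s2_5 hg).comp ((s2_1 hg).comp ((s2_5 hg).comp (s2_0 hg)))))) (v := [10, 4, 10, 5]) (by decide +kernel) (by decide +kernel) (by decide +kernel)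

theorem s6_2 : Q g (W6 ++ [5, 4, 6, 7, 6, 8, 7, 6, 10, 2, 3, 5, 9]) W6 :=
  df hg (u17 hg) (u17 hg) (s2_1 hg) (v := [1, 9, 5, 9]) (by decide +kernel) (by decide +kernel) (by decide +kernel)

theorem s6_3 : Q g (W6 ++ [1, 5, 4, 6, 5, 4, 7, 6, 5, 4, 8, 7, 6, 9, 3, 5, 9]) W6 :=
  df hg (u17 hg) (u17 hg) (((s2_0 hg).inv hg).comp (((s2_2 hg).inv hg).comp (((s2_5 hg).inv hg).comp (((s2_1 hg).inv hg).comp ((s2_3 hg).comp ((s2_1 hg).comp ((s2_5 hg).comp ((s2_2 hg).comp (s2_0 hg))))))))) (v := [7, 8, 10, 3, 7, 9]) (by decide +kernel) (by decide +kernel) (by decide +kernel)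

theorem s7_0 : Q g (W7 ++ [2, 3, 4, 6, 7, 6, 8, 7, 6, 9, 3, 10]) W7 :=
  df hg (u19 hg) (u19 hg) ((s2_5 hg).comp (((s2_1 hg).inv hg).comp ((s2_4 hg).comp ((s2_1 hg).comp ((s2_5 hg).inv hg))))) (v := [1, 8, 9, 2, 10]) (by decide +kernel) (by decide +kernel) (by decide +kernel)

theorem s7_1 : Q g (W7 ++ [2, 4, 6, 5, 4, 7, 6, 5, 4, 8, 7, 9, 3, 10, 10, 6]) W7 :=
  df hg (u19 hg) (u19 hg) ((s2_5 hg).comp ((s2_5 hg).comp (((s2_1 hg).inv hg).comp ((s2_0 hg).comp ((s2_1 hg).comp (((s2_5 hg).inv hg).comp ((s2_5 hg).inv hg))))))) (v := [1, 4, 10, 5, 10, 4]) (by decide +kernel) (by decide +kernel) (by decide +kernel)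

theorem s7_2 : Q g (W7 ++ [4, 5, 6, 5, 4, 7, 6, 5, 8, 10, 10, 3, 9, 7]) W7 :=
  df hg (u19 hg) (u19 hg) (((s2_0 hg).inv hg).comp (((s2_5 hg).inv hg).comp (((s2_1 hg).inv hg).comp ((s2_5 hg).comp ((s2_5 hg).comp ((s2_1 hg).comp (((s2_5 hg).inv hg).comp ((s2_5 hg).inv hg)))))))) (v := [4, 9, 5, 9]) (by decide +kernel) (by decide +kernel) (by decide +kernel)

theorem s7_3 : Q g (W7 ++ [1, 5, 4, 6, 5, 4, 7, 6, 5, 4, 8, 7, 6, 9, 3, 5, 9]) W7 :=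
  df hg (u19 hg) (u19 hg) (((s2_2 hg).inv hg).comp ((s2_5 hg).comp (((s2_1 hg).inv hg).comp ((s2_3 hg).comp ((s2_1 hg).comp (((s2_5 hg).inv hg).comp (s2_2 hg))))))) (v := [7, 8, 10, 3, 7, 9]) (by decide +kernel) (by decide +kernel) (by decide +kernel)

theorem s8_0 : Q g (W8 ++ [3, 7, 6, 8, 7]) W8 :=
  df hg (u46 hg) (u46 hg) (((s3_4 hg).inv hg).comp ((s3_1 hg).comp (s3_0 hg))) (v := [2, 4, 8]) (by decide +kernel) (by decide +kernel) (by decide +kernel)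

theorem s8_2 : Q g (W8 ++ [4, 6, 9, 2, 3, 8, 10]) W8 :=
  df hg (u46 hg) (u46 hg) (((s3_1 hg).inv hg).comp ((s3_3 hg).comp ((s3_5 hg).comp ((s3_2 hg).comp ((s3_0 hg).comp ((s3_5 hg).inv hg)))))) (v := [1, 10, 4, 10]) (by decide +kernel) (by decide +kernel) (by decide +kernel)

theorem s8_3 : Q g (W8 ++ [6, 10, 3, 2, 8, 10]) W8 :=
  df hg (u46 hg) (u46 hg) (((s3_0 hg).inv hg).comp (((s3_6 hg).inv hg).comp ((s3_5 hg).comp ((s3_0 hg).comp ((s3_5 hg).inv hg))))) (v := [1, 3, 6, 9, 8, 9]) (by decide +kernel) (by decide +kernel) (by decide +kernel)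

theorem s9_0 : Q g (W9 ++ [4, 6, 7, 6, 8, 7, 10, 2, 3, 6, 9]) W9 :=
  df hg (u56 hg) (u56 hg) (((s5_2 hg).inv hg).comp (((s5_3 hg).inv hg).comp ((s5_1 hg).comp ((s5_4 hg).inv hg)))) (v := [1, 9, 8, 9]) (by decide +kernel) (by decide +kernel) (by decide +kernel)

theorem s10_0 : Q g (W10 ++ [2, 5, 4, 6, 5, 9, 3, 10, 10]) W10 :=
  df hg (u74 hg) (u74 hg) (((s6_0 hg).inv hg).comp (s6_2 hg)) (v := [1, 3, 4, 6, 7, 8, 9, 7, 9, 6]) (by decide +kernel) (by decide +kernel) (by decide +kernel)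

theorem s10_2 : Q g (W10 ++ [6, 7, 6, 5, 4, 8, 7, 6, 5, 4, 9, 9, 3, 10]) W10 :=
  df hg (u74 hg) (u74 hg) (((s6_3 hg).inv hg).comp ((s6_1 hg).comp ((s6_1 hg).comp (s6_0 hg)))) (v := [1, 7, 8, 7, 9, 6, 9]) (by decide +kernel) (by decide +kernel) (by decide +kernel)

theorem s11_0 : Q g (W11 ++ [2, 4, 5, 4, 6, 5, 7, 6, 5, 4, 8, 7, 6, 5, 4, 9, 3, 10, 10]) W11 :=
  df hg (u78 hg) (u78 hg) (((s7_1 hg).inv hg).comp (s7_3 hg)) (v := [1, 3, 4, 7, 9, 8, 9, 7]) (by decide +kernel) (by decide +kernel) (by decide +kernel)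

theorem u4 : Q g (W2 ++ [2, 4, 11, 4] ++ [12]) (W2 ++ [3, 4, 11]) :=
  pent hg
    (mv hg (u3 hg) (Q.triv (W2)) (v := [2, 4]) (by decide +kernel) (by decide +kernel))
    (mv hg (u1 hg) (Q.triv (W1)) (v := [6, 2, 8]) (by decide +kernel) (by decide +kernel))
    (mv hg (u0 hg) ((s0_4 hg).comp ((s0_2 hg).comp (s0_3 hg))) (v := [1, 6, 8]) (by decide +kernel) (by decide +kernel))
    (mv hg (u2 hg) ((s1_3 hg).comp (s1_1 hg)) (v := [2, 6, 8]) (by decide +kernel) (by decide +kernel))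
    (by decide +kernel)

theorem u11 : Q g (W2 ++ [2, 11, 3, 4, 11] ++ [12]) (W5 ++ [3, 6, 8, 11]) :=
  pent hg
    (mv hg (u4 hg) ((s2_2 hg).comp (s2_1 hg)) (v := [3, 6]) (by decide +kernel) (by decide +kernel))
    (mv hg (u4 hg) (Q.triv (W2)) (v := [2, 3, 4, 6, 7, 6, 8, 7, 6]) (by decide +kernel) (by decide +kernel))
    (mv hg (u4 hg) ((s2_2 hg).comp (s2_1 hg)) (v := [1, 2]) (by decide +kernel) (by decide +kernel))
    (mv hg (u9 hg) (Q.triv (W2)) (v := [1, 3, 4, 6, 8]) (by decide +kernel) (by decide +kernel))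
    (by decide +kernel)

theorem u12 : Q g (W5 ++ [3, 6, 8, 11] ++ [12]) (W2 ++ [2, 11, 3, 4, 11, 6, 8]) :=
  rv hg (u11 hg) (by decide +kernel) (by decide +kernel)

theorem u13 : Q g (W3 ++ [5, 4, 7, 11, 4] ++ [12]) (W5 ++ [6, 2, 5, 7, 6, 5, 8, 7, 6, 11]) :=
  pent hg
    (mv hg (u6 hg) (Q.triv (W3)) (v := [5, 4, 7]) (by decide +kernel) (by decide +kernel))
    (mv hg (u2 hg) ((s1_3 hg).comp (s1_1 hg)) (v := [3, 4, 5, 7, 6, 5, 8, 7]) (by decide +kernel) (by decide +kernel))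
    (mv hg (u4 hg) (((s2_6 hg).inv hg).comp ((s2_2 hg).comp (s2_1 hg))) (v := [1, 4, 7, 6, 8, 7, 6, 5]) (by decide +kernel) (by decide +kernel))
    (mv hg (u9 hg) ((s2_2 hg).comp (s2_3 hg)) (v := [4, 2, 6, 5, 7, 6, 5, 8, 7, 6]) (by decide +kernel) (by decide +kernel))
    (by decide +kernel)

theorem u14 : Q g (W5 ++ [6, 2, 5, 7, 6, 5, 8, 7, 6, 11] ++ [12]) (W3 ++ [5, 4, 7, 11, 4, 6, 8]) :=
  rv hg (u13 hg) (by decide +kernel) (by decide +kernel)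

theorem u16 : Q g (W5 ++ [9, 3, 11, 4] ++ [12]) (W5 ++ [3, 2, 4, 7, 6, 8, 10, 3, 7, 11]) :=
  pent hg
    (mv hg (u10 hg) (Q.triv (W5)) (v := [9, 3]) (by decide +kernel) (by decide +kernel))
    (mv hg (u4 hg) ((s2_2 hg).comp (s2_1 hg)) (v := [3, 9, 9, 6]) (by decide +kernel) (by decide +kernel))
    (mv hg (u4 hg) ((s2_5 hg).comp (s2_5 hg)) (v := [3, 4, 6, 7, 6, 8, 10, 7, 10, 6]) (by decide +kernel) (by decide +kernel))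
    (mv hg (u9 hg) (((s2_5 hg).inv hg).comp ((s2_5 hg).inv hg)) (v := [1, 3, 4, 10, 10, 6]) (by decide +kernel) (by decide +kernel))
    (by decide +kernel)

theorem u21 : Q g (W6 ++ [2, 7, 11, 4] ++ [12]) (W7 ++ [3, 4, 5, 4, 6, 5, 4, 7, 6, 5, 11]) :=
  pent hg
    (mv hg (u18 hg) (Q.triv (W6)) (v := [2, 7]) (by decide +kernel) (by decide +kernel))
    (mv hg (u9 hg) (((s2_5 hg).inv hg).comp ((s2_5 hg).inv hg)) (v := [5, 4, 6, 5, 10, 3, 2, 8]) (by decide +kernel) (by decide +kernel))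
    (mv hg (u12 hg) (s5_1 hg) (v := [1, 7, 6, 10, 8]) (by decide +kernel) (by decide +kernel))
    (mv hg (u19 hg) (Q.triv (W2)) (v := [2, 6, 5]) (by decide +kernel) (by decide +kernel))
    (by decide +kernel)

theorem u22 : Q g (W7 ++ [3, 4, 5, 4, 6, 5, 4, 7, 6, 5, 11] ++ [12]) (W6 ++ [2, 7, 11, 4, 6, 8]) :=
  rv hg (u21 hg) (by decide +kernel) (by decide +kernel)

theorem u48 : Q g (W6 ++ [4, 11, 4] ++ [12]) (W8 ++ [4, 5, 4, 6, 7, 6, 11]) :=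
  pent hg
    (mv hg (u18 hg) (Q.triv (W6)) (v := [4]) (by decide +kernel) (by decide +kernel))
    (mv hg (u9 hg) ((s2_6 hg).inv hg) (v := [3, 6, 5, 8, 7, 6, 5, 4, 10, 10, 3]) (by decide +kernel) (by decide +kernel))
    (mv hg (u14 hg) (s5_1 hg) (v := [1, 5, 6, 5, 8, 7, 6, 9, 5]) (by decide +kernel) (by decide +kernel))
    (mv hg (u46 hg) ((s3_2 hg).comp (s3_0 hg)) (v := [3, 2, 6, 5, 7, 6, 8]) (by decide +kernel) (by decide +kernel))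
    (by decide +kernel)

theorem u49 : Q g (W8 ++ [4, 5, 4, 6, 7, 6, 11] ++ [12]) (W6 ++ [4, 11, 4, 6, 8]) :=
  rv hg (u48 hg) (by decide +kernel) (by decide +kernel)

theorem s3_8 : Q g (W3 ++ [1, 5, 4, 6, 5, 8, 11, 3, 4, 11, 5, 4, 6, 5]) W3 :=
  df hg (u14 hg) (u14 hg) (((s5_1 hg).inv hg).comp (s5_3 hg)) (v := [6, 2, 5, 7, 8, 7, 6]) (by decide +kernel) (by decide +kernel) (by decide +kernel)

theorem s5_5 : Q g (W5 ++ [3, 6, 8, 11, 3]) W5 :=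
  df hg (u9 hg) (u11 hg) (Q.triv (W2)) (v := [2]) (by decide +kernel) (by decide +kernel) (by decide +kernel)

theorem s5_7 : Q g (W5 ++ [1, 6, 7, 6, 8, 7, 6, 9, 3, 10, 11, 3, 4, 11, 10, 3, 9]) W5 :=
  df hg (u16 hg) (u16 hg) (((s5_1 hg).inv hg).comp (((s5_4 hg).inv hg).comp ((s5_0 hg).comp ((s5_3 hg).comp (s5_1 hg))))) (v := [8, 9, 2, 10, 10]) (by decide +kernel) (by decide +kernel) (by decide +kernel)

theorem s8_1 : Q g (W8 ++ [1, 4, 5, 4, 6, 5, 4, 7, 6, 5, 10, 10, 4]) W8 :=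
  df hg (u46 hg) (u46 hg) (((s3_0 hg).inv hg).comp ((s3_8 hg).comp (s3_0 hg))) (v := [1, 3, 5, 6, 5, 8, 10, 3]) (by decide +kernel) (by decide +kernel) (by decide +kernel)

theorem u15 : Q g (W5 ++ [5, 4, 11] ++ [12]) (W5 ++ [1, 3, 4, 6, 5, 4, 7, 6, 5, 8, 11]) :=
  pent hg
    (mv hg (u14 hg) (Q.triv (W5)) (v := [2, 6, 5, 7, 6, 5, 8, 7, 6, 5, 4]) (by decide +kernel) (by decide +kernel))
    (mv hg (u13 hg) ((s3_1 hg).comp ((s3_8 hg).comp (s3_7 hg))) (v := [7, 8, 7, 6, 5, 4]) (by decide +kernel) (by decide +kernel))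
    (mv hg (u10 hg) (Q.triv (W5)) (v := [5, 2, 6, 7, 8, 7, 6, 5]) (by decide +kernel) (by decide +kernel))
    (mv hg (u9 hg) ((s2_6 hg).inv hg) (v := [3, 4, 5, 7, 6, 5, 4, 8, 7, 6, 5, 4]) (by decide +kernel) (by decide +kernel))
    (by decide +kernel)

theorem u23 : Q g (W5 ++ [5, 7, 6, 8, 7, 10, 3, 11, 3, 4, 11, 5, 4, 6, 7, 8] ++ [12]) (W6 ++ [1, 6, 7, 6, 5, 8, 10, 7, 10, 11, 3, 4, 11, 5, 6, 9, 2]) :=
  pent hg
    (mv hg (u16 hg) (Q.triv (W5)) (v := [3, 5, 4, 6, 7, 6, 5, 8, 7, 10, 6, 10]) (by decide +kernel) (by decide +kernel))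
    (mv hg (u10 hg) (s5_7 hg) (v := [3, 4, 5, 6, 5, 8, 7, 6, 10, 10, 3, 5]) (by decide +kernel) (by decide +kernel))
    (mv hg (u19 hg) (s2_2 hg) (v := [1, 6, 7, 6, 5, 8, 7, 10, 6, 10, 5]) (by decide +kernel) (by decide +kernel))
    (mv hg (u22 hg) ((s7_3 hg).comp ((s7_2 hg).comp (s7_0 hg))) (v := [5, 6, 5, 7, 6, 5, 8, 7, 6, 9, 2, 5]) (by decide +kernel) (by decide +kernel))
    (by decide +kernel)

theorem u24 : Q g (W6 ++ [1, 6, 7, 6, 5, 8, 10, 7, 10, 11, 3, 4, 11, 5, 6, 9, 2] ++ [12]) (W5 ++ [5, 7, 6, 8, 7, 10, 3, 11, 3, 4, 11, 5, 4, 6, 7, 8, 6, 8]) :=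
  rv hg (u23 hg) (by decide +kernel) (by decide +kernel)

theorem u25 : Q g (W4 ++ [11, 4] ++ [12]) (W6 ++ [1, 3, 6, 5, 7, 6, 5, 4, 8, 7, 10, 6, 10, 11, 3, 4, 11, 5, 4, 6, 5, 7, 8, 10, 3, 11]) :=
  pent hg
    (mv hg (u8 hg) (Q.triv (W4)) (v := []) (by decide +kernel) (by decide +kernel))
    (mv hg (u5 hg) ((s1_8 hg).inv hg) (v := [3, 5, 10, 3, 4, 9]) (by decide +kernel) (by decide +kernel))
    (mv hg (u13 hg) ((s3_3 hg).comp (s3_1 hg)) (v := [4, 5, 6, 5, 7, 8, 10, 10, 7]) (by decide +kernel) (by decide +kernel))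
    (mv hg (u23 hg) ((s5_5 hg).comp (s5_0 hg)) (v := [4, 5, 6, 5, 7, 8, 7, 6, 9, 5, 9, 4, 9]) (by decide +kernel) (by decide +kernel))
    (by decide +kernel)

theorem u26 : Q g (W6 ++ [1, 3, 6, 5, 7, 6, 5, 4, 8, 7, 10, 6, 10, 11, 3, 4, 11, 5, 4, 6, 5, 7, 8, 10, 3, 11] ++ [12]) (W4 ++ [11, 4, 6, 8]) :=
  rv hg (u25 hg) (by decide +kernel) (by decide +kernel)

theorem u27 : Q g (W5 ++ [2, 5, 6, 7, 10, 3, 6, 11, 3, 4, 11, 5, 4, 6, 7, 9] ++ [12]) (W7 ++ [3, 5, 4, 6, 5, 4, 8, 10, 7, 10, 11, 3, 4, 11, 5, 6, 10, 2]) :=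
  pent hg
    (mv hg (u16 hg) ((s5_3 hg).comp (s5_1 hg)) (v := [3, 6, 5, 4, 7, 6, 5, 8, 7, 6, 5, 10, 4]) (by decide +kernel) (by decide +kernel))
    (mv hg (u10 hg) (s5_7 hg) (v := [4, 7, 6, 5, 8, 10, 7, 9, 3, 10]) (by decide +kernel) (by decide +kernel))
    (mv hg (u17 hg) ((s2_4 hg).comp ((s2_6 hg).comp (s2_0 hg))) (v := [1, 3, 7, 6, 5, 8, 7, 6, 9, 5, 10]) (by decide +kernel) (by decide +kernel))
    (mv hg (u21 hg) ((s6_1 hg).inv hg) (v := [4, 5, 6, 5, 8, 7, 6, 10, 2, 5]) (by decide +kernel) (by decide +kernel))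
    (by decide +kernel)

theorem u28 : Q g (W7 ++ [3, 5, 4, 6, 5, 4, 8, 10, 7, 10, 11, 3, 4, 11, 5, 6, 10, 2] ++ [12]) (W5 ++ [2, 5, 6, 7, 10, 3, 6, 11, 3, 4, 11, 5, 4, 6, 7, 9, 6, 8]) :=
  rv hg (u27 hg) (by decide +kernel) (by decide +kernel)

theorem u64 : Q g (W8 ++ [11, 4] ++ [12]) (W9 ++ [2, 4, 5, 6, 7, 10, 3, 9, 11]) :=
  pent hg
    (mv hg (u47 hg) (Q.triv (W8)) (v := []) (by decide +kernel) (by decide +kernel))
    (mv hg (u13 hg) ((s3_3 hg).comp (s3_6 hg)) (v := [4, 5, 4, 7, 10, 3, 2, 6]) (by decide +kernel) (by decide +kernel))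
    (mv hg (u15 hg) (Q.triv (W5)) (v := [2, 4, 6, 7, 6, 5, 8, 10, 7]) (by decide +kernel) (by decide +kernel))
    (mv hg (u56 hg) (s5_5 hg) (v := [5, 6, 5, 8, 10, 3, 7, 9, 2]) (by decide +kernel) (by decide +kernel))
    (by decide +kernel)

theorem u65 : Q g (W9 ++ [2, 4, 5, 6, 7, 10, 3, 9, 11] ++ [12]) (W8 ++ [11, 4, 6, 8]) :=
  rv hg (u64 hg) (by decide +kernel) (by decide +kernel)

theorem s5_6 : Q g (W5 ++ [3, 2, 4, 5, 4, 6, 5, 4, 7, 6, 5, 4, 8, 7, 6, 11, 3, 4, 11, 5, 4, 6, 5, 7, 6]) W5 :=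
  df hg (u15 hg) (u15 hg) (((s5_2 hg).inv hg).comp (((s5_3 hg).inv hg).comp ((s5_1 hg).comp (s5_4 hg)))) (v := [8]) (by decide +kernel) (by decide +kernel) (by decide +kernel)

theorem s6_4 : Q g (W6 ++ [6, 2, 7, 6, 5, 4, 9, 3, 11, 3, 4, 11, 5, 4, 6, 5, 7, 6, 9, 3, 11, 4, 10, 3, 11]) W6 :=
  df hg (u23 hg) (u23 hg) ((s5_4 hg).comp (((s5_7 hg).inv hg).comp ((s5_2 hg).comp ((s5_7 hg).comp (s5_2 hg))))) (v := [1, 5, 4, 6, 9, 5]) (by decide +kernel) (by decide +kernel) (by decide +kernel)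

theorem s6_5 : Q g (W6 ++ [2, 3, 4, 6, 5, 4, 7, 6, 8, 7, 11, 3, 4, 11, 5, 4, 6]) W6 :=
  df hg (u23 hg) (u23 hg) (((s5_0 hg).inv hg).comp (((s5_7 hg).inv hg).comp (((s5_2 hg).inv hg).comp ((s5_4 hg).comp ((s5_7 hg).comp (s5_2 hg)))))) (v := [4, 9, 5, 2, 4, 9]) (by decide +kernel) (by decide +kernel) (by decide +kernel)

theorem s7_5 : Q g (W7 ++ [3, 4, 6, 5, 4, 7, 6, 5, 8, 10, 2, 7, 11, 3, 4, 11, 5, 4, 6, 5, 7, 6, 9, 3]) W7 :=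
  df hg (u21 hg) (u21 hg) (((s6_5 hg).inv hg).comp (((s6_0 hg).inv hg).comp (((s6_1 hg).inv hg).comp (((s6_3 hg).inv hg).comp ((s6_5 hg).comp ((s6_0 hg).comp ((s6_3 hg).comp ((s6_1 hg).comp (s6_0 hg))))))))) (v := [4, 7, 6, 8, 7, 6, 10, 3, 2, 9]) (by decide +kernel) (by decide +kernel) (by decide +kernel)

theorem s8_4 : Q g (W8 ++ [1, 3, 4, 5, 4, 6, 5, 8, 9, 7, 9, 6, 11, 3, 4, 11, 5, 9, 2]) W8 :=
  df hg (u48 hg) (u48 hg) (((s6_5 hg).inv hg).comp ((s6_1 hg).comp (s6_0 hg))) (v := [1, 7, 6, 5, 8, 7, 6, 5, 9, 3]) (by decide +kernel) (by decide +kernel) (by decide +kernel)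

theorem s10_1 : Q g (W10 ++ [4, 2, 5, 4, 7, 8, 7, 9, 3, 6, 9]) W10 :=
  df hg (u74 hg) (u74 hg) (((s6_3 hg).inv hg).comp (s6_5 hg)) (v := [3, 5, 6, 5, 4, 7, 8, 10, 3, 7, 9]) (by decide +kernel) (by decide +kernel) (by decide +kernel)

theorem s11_2 : Q g (W11 ++ [1, 4, 6, 5, 4, 7, 6, 10]) W11 :=
  df hg (u78 hg) (u78 hg) (((s7_2 hg).inv hg).comp ((s7_5 hg).comp ((s7_2 hg).comp (s7_0 hg)))) (v := [1, 5, 7, 8, 7, 10]) (by decide +kernel) (by decide +kernel) (by decide +kernel)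

theorem s2_7 : Q g (W2 ++ [4, 5, 4, 8, 7, 9, 6, 2, 5, 9, 11, 3, 4, 11, 5, 4, 6, 5, 7, 6, 8, 7, 9, 3, 11, 4, 5, 6, 10, 3, 11, 4, 5, 10, 3, 11, 4, 9, 3, 11]) W2 :=
  df hg (u18 hg) (u18 hg) (((s6_5 hg).inv hg).comp ((s6_1 hg).comp (((s6_3 hg).inv hg).comp ((s6_5 hg).comp ((s6_3 hg).comp ((s6_1 hg).comp (s6_5 hg))))))) (v := [6, 7, 6, 5, 4, 8, 7, 9, 6, 10, 3, 2]) (by decide +kernel) (by decide +kernel) (by decide +kernel)

theorem s4_6 : Q g (W4 ++ [5, 2, 7, 6, 8, 9, 7, 10]) W4 :=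
  df hg (u26 hg) (u26 hg) (((s6_0 hg).inv hg).comp (((s6_1 hg).inv hg).comp (((s6_3 hg).inv hg).comp ((s6_0 hg).comp ((s6_5 hg).comp ((s6_1 hg).comp (s6_0 hg))))))) (v := [3, 4, 5, 6, 5, 4, 7, 6, 5, 8, 9, 3, 7, 9, 6]) (by decide +kernel) (by decide +kernel) (by decide +kernel)

theorem s7_4 : Q g (W7 ++ [2, 6, 7, 6, 5, 4, 8, 7, 10, 3, 6, 10, 10]) W7 :=
  df hg (u19 hg) (u19 hg) (((s2_3 hg).inv hg).comp (((s2_7 hg).inv hg).comp ((s2_6 hg).comp ((s2_5 hg).comp ((s2_1 hg).comp ((s2_5 hg).inv hg)))))) (v := [3, 4, 6, 5, 4, 7, 6, 5, 8, 7, 6, 9, 9, 3, 5, 9, 4]) (by decide +kernel) (by decide +kernel) (by decide +kernel)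

theorem s11_1 : Q g (W11 ++ [4, 7, 6, 8, 10, 2, 3, 7, 9]) W11 :=
  df hg (u78 hg) (u78 hg) (((s7_0 hg).inv hg).comp (s7_4 hg)) (v := [1, 9, 6, 9]) (by decide +kernel) (by decide +kernel) (by decide +kernel)

theorem u29 : Q g (W4 ++ [3, 11] ++ [12]) (W7 ++ [1, 3, 4, 5, 4, 6, 5, 4, 10, 7, 10, 11, 3, 4, 11, 5, 4, 10, 3, 11, 10]) :=
  pent hg
    (mv hg (u25 hg) (((s4_6 hg).inv hg).comp (s4_2 hg)) (v := [2, 4, 5, 4, 6, 10, 8, 9]) (by decide +kernel) (by decide +kernel))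
    (mv hg (u24 hg) ((s6_3 hg).comp (((s6_1 hg).inv hg).comp ((s6_0 hg).comp ((s6_5 hg).comp (s6_1 hg))))) (v := [4, 5, 4, 6, 5, 7, 6, 5, 10, 3, 9]) (by decide +kernel) (by decide +kernel))
    (mv hg (u16 hg) (Q.triv (W5)) (v := [1, 3, 4, 5, 4, 6, 7, 6, 8, 10]) (by decide +kernel) (by decide +kernel))
    (mv hg (u27 hg) (s5_1 hg) (v := [4, 5, 7, 6, 10, 5, 10]) (by decide +kernel) (by decide +kernel))
    (by decide +kernel)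

theorem u30 : Q g (W7 ++ [1, 3, 4, 5, 4, 6, 5, 4, 10, 7, 10, 11, 3, 4, 11, 5, 4, 10, 3, 11, 10] ++ [12]) (W4 ++ [3, 11, 6, 8]) :=
  rv hg (u29 hg) (by decide +kernel) (by decide +kernel)

theorem u31 : Q g (W4 ++ [3, 11, 3, 4, 9, 11] ++ [12]) (W5 ++ [5, 6, 7, 6, 8, 7, 9, 9, 11, 3, 4, 11, 5, 4, 6, 7, 8, 10, 3, 11, 10]) :=
  pent hg
    (mv hg (u25 hg) (Q.triv (W4)) (v := [3, 4, 9, 4]) (by decide +kernel) (by decide +kernel))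
    (mv hg (u24 hg) ((s6_4 hg).comp ((s6_1 hg).comp (s6_0 hg))) (v := [3, 6, 5, 8, 7, 6, 5, 9, 4, 10]) (by decide +kernel) (by decide +kernel))
    (mv hg (u27 hg) ((s5_2 hg).comp ((s5_7 hg).comp (s5_0 hg))) (v := [3, 4, 5, 6, 5, 7, 8, 10, 3, 7]) (by decide +kernel) (by decide +kernel))
    (mv hg (u28 hg) ((s7_4 hg).comp (s7_0 hg)) (v := [6, 2, 5, 4, 7, 8, 7, 9, 3, 6]) (by decide +kernel) (by decide +kernel))
    (by decide +kernel)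

theorem u32 : Q g (W5 ++ [5, 6, 7, 6, 8, 7, 9, 9, 11, 3, 4, 11, 5, 4, 6, 7, 8, 10, 3, 11, 10] ++ [12]) (W4 ++ [3, 11, 3, 4, 9, 11, 6, 8]) :=
  rv hg (u31 hg) (by decide +kernel) (by decide +kernel)

theorem u33 : Q g (W4 ++ [11, 3, 4, 11, 5, 4, 6, 5, 9, 3, 11, 4, 8] ++ [12]) (W5 ++ [5, 6, 7, 8, 9, 2, 7, 11, 3, 4, 11, 5, 4, 6, 5, 7, 6, 8, 9, 3, 11, 9, 9]) :=
  pent hg
    (mv hg (u31 hg) (Q.triv (W4)) (v := [3, 4, 5, 4, 6, 5, 8]) (by decide +kernel) (by decide +kernel))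
    (mv hg (u27 hg) (Q.triv (W5)) (v := [3, 5, 6, 5, 7, 6, 5, 8, 7, 10, 2, 3, 6]) (by decide +kernel) (by decide +kernel))
    (mv hg (u22 hg) ((s7_5 hg).comp ((s7_4 hg).comp (s7_0 hg))) (v := [3, 5, 4, 6, 5, 8, 7, 6, 5, 10, 3, 4, 10]) (by decide +kernel) (by decide +kernel))
    (mv hg (u24 hg) ((s6_5 hg).comp ((s6_1 hg).comp ((s6_5 hg).comp ((s6_4 hg).comp (s6_1 hg))))) (v := [1, 4, 6, 7, 6, 5, 8, 10, 7, 10, 6]) (by decide +kernel) (by decide +kernel))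
    (by decide +kernel)

theorem u34 : Q g (W4 ++ [11, 3, 4, 11, 3, 5, 4, 6, 5, 9, 3, 11, 8] ++ [12]) (W5 ++ [5, 4, 6, 10, 8, 11, 3, 4, 11, 5, 4, 6, 5, 7, 6, 8, 7, 9, 3, 2, 11]) :=
  pent hg
    (mv hg (u33 hg) (((s4_5 hg).inv hg).comp ((s4_4 hg).comp ((s4_2 hg).comp (s4_0 hg)))) (v := [1, 3, 4, 5, 6, 5, 7, 6, 5, 9, 4, 9, 8]) (by decide +kernel) (by decide +kernel))
    (mv hg (u27 hg) ((s5_7 hg).comp (s5_6 hg)) (v := [5, 7, 6, 8, 7, 10, 3, 2]) (by decide +kernel) (by decide +kernel))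
    (mv hg (u22 hg) ((s7_2 hg).comp ((s7_5 hg).comp ((s7_4 hg).inv hg))) (v := [4, 2, 5, 6, 8, 7, 6, 5, 10, 4, 9, 3]) (by decide +kernel) (by decide +kernel))
    (mv hg (u24 hg) ((s6_5 hg).comp ((s6_1 hg).comp ((s6_5 hg).comp ((s6_4 hg).comp (s6_1 hg))))) (v := [2, 4, 6, 5, 7, 6, 8, 9, 7]) (by decide +kernel) (by decide +kernel))
    (by decide +kernel)

theorem u35 : Q g (W4 ++ [3, 4, 10, 5, 11, 3, 4, 11, 5, 9, 3] ++ [12]) (W7 ++ [5, 4, 6, 5, 4, 8, 7, 11, 3, 4, 11, 5, 4, 6, 5, 9, 3, 10, 11]) :=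
  pent hg
    (mv hg (u34 hg) (Q.triv (W4)) (v := [3, 5, 6, 5, 9, 4, 9, 8]) (by decide +kernel) (by decide +kernel))
    (mv hg (u23 hg) ((s5_6 hg).comp ((s5_2 hg).comp (s5_0 hg))) (v := [4, 5, 6, 5, 7, 6, 5, 4, 8, 9, 3, 10, 2]) (by decide +kernel) (by decide +kernel))
    (mv hg (u24 hg) (((s6_1 hg).inv hg).comp ((s6_5 hg).comp ((s6_1 hg).inv hg))) (v := [1, 5, 4, 10, 3, 8, 9, 9]) (by decide +kernel) (by decide +kernel))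
    (mv hg (u27 hg) ((s5_6 hg).comp (s5_2 hg)) (v := [1, 3, 5, 4, 6, 7, 8, 7, 6, 10, 10, 5]) (by decide +kernel) (by decide +kernel))
    (by decide +kernel)

theorem u36 : Q g (W5 ++ [5, 4, 11, 3, 6, 5, 4, 7, 10, 3, 11, 4, 9, 3, 11, 8] ++ [12]) (W5 ++ [5, 2, 6, 5, 7, 8, 7, 10, 6, 9, 11, 3, 4, 11, 5, 4, 6, 5, 7, 6, 8, 10, 3, 11, 10, 4]) :=
  pent hg
    (mv hg (u23 hg) ((s5_6 hg).comp ((s5_1 hg).comp (s5_0 hg))) (v := [2, 4, 5, 4, 6, 7, 6, 5, 8, 7, 9, 3, 6, 9, 5]) (by decide +kernel) (by decide +kernel))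
    (mv hg (u24 hg) (((s6_1 hg).inv hg).comp ((s6_5 hg).comp ((s6_4 hg).comp ((s6_1 hg).inv hg)))) (v := [7, 6, 5, 9, 3, 4]) (by decide +kernel) (by decide +kernel))
    (mv hg (u32 hg) ((s5_7 hg).comp ((s5_5 hg).comp (s5_6 hg))) (v := [4, 5, 4, 6, 7, 6, 8, 7, 9, 9, 3, 10, 6]) (by decide +kernel) (by decide +kernel))
    (mv hg (u34 hg) ((s4_6 hg).comp ((s4_6 hg).comp (s4_2 hg))) (v := [4, 5, 4, 6, 7, 6, 9, 3, 8, 10, 2]) (by decide +kernel) (by decide +kernel))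
    (by decide +kernel)

theorem u37 : Q g (W4 ++ [4, 5, 9, 11, 3, 4, 11] ++ [12]) (W6 ++ [3, 2, 5, 7, 6, 5, 4, 8, 7, 6, 11, 3, 4, 11, 5, 4, 6, 5, 7, 9, 3, 10, 11]) :=
  pent hg
    (mv hg (u29 hg) (s4_0 hg) (v := [6, 5, 4, 9, 2, 3, 8]) (by decide +kernel) (by decide +kernel))
    (mv hg (u28 hg) ((s7_5 hg).comp ((s7_3 hg).comp (((s7_5 hg).inv hg).comp (s7_0 hg)))) (v := [4, 5, 4, 6, 5, 4, 7, 6, 5, 4, 8, 9, 3, 7, 9, 2, 6]) (by decide +kernel) (by decide +kernel))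
    (mv hg (u36 hg) ((s5_1 hg).comp ((s5_6 hg).comp (s5_4 hg))) (v := [4, 2, 7, 6, 8, 7, 10, 6, 9, 3]) (by decide +kernel) (by decide +kernel))
    (mv hg (u23 hg) ((s5_6 hg).comp ((s5_7 hg).comp ((s5_6 hg).comp (s5_1 hg)))) (v := [10, 3, 5, 10, 2, 8]) (by decide +kernel) (by decide +kernel))
    (by decide +kernel)

theorem u38 : Q g (W4 ++ [5, 6, 11, 3, 4, 11, 5, 4, 6, 5, 10, 3, 11, 4, 9, 3, 11] ++ [12]) (W5 ++ [5, 6, 7, 6, 9, 8, 9, 7, 9, 11, 3, 4, 11, 5, 4, 9, 3, 11, 9]) :=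
  pent hg
    (mv hg (u34 hg) ((s4_5 hg).comp ((s4_0 hg).comp ((s4_6 hg).inv hg))) (v := [2, 4, 6, 10, 3]) (by decide +kernel) (by decide +kernel))
    (mv hg (u36 hg) ((s5_3 hg).comp (s5_5 hg)) (v := [4, 7, 8, 7, 6, 5, 9, 3, 2, 4]) (by decide +kernel) (by decide +kernel))
    (mv hg (u23 hg) ((s5_5 hg).comp (s5_0 hg)) (v := [2, 5, 6, 5, 7, 8, 7, 6, 9, 3, 10, 5, 9]) (by decide +kernel) (by decide +kernel))
    (mv hg (u24 hg) (((s6_1 hg).inv hg).comp ((s6_5 hg).comp ((s6_1 hg).inv hg))) (v := [1, 5, 4, 6, 7, 8, 9, 3, 7, 9, 9]) (by decide +kernel) (by decide +kernel))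
    (by decide +kernel)

theorem u39 : Q g (W5 ++ [5, 4, 7, 6, 8, 9, 7, 2, 11, 3, 4, 11, 5, 4, 10, 3, 11, 10] ++ [12]) (W4 ++ [1, 4, 7, 6, 8, 10, 7, 10, 11, 3, 4, 11, 5, 4, 6, 5, 7, 6, 9, 3, 11, 9, 9]) :=
  pent hg
    (mv hg (u23 hg) (Q.triv (W5)) (v := [3, 8, 7, 9, 9, 3, 6, 9, 5]) (by decide +kernel) (by decide +kernel))
    (mv hg (u21 hg) ((s6_0 hg).comp ((s6_5 hg).comp (s6_1 hg))) (v := [1, 5, 4, 6, 7, 6, 5, 8, 9, 9, 3, 7]) (by decide +kernel) (by decide +kernel))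
    (mv hg (u28 hg) ((s7_5 hg).comp (((s7_2 hg).inv hg).comp (s7_4 hg))) (v := [5, 2, 6, 5, 9, 3, 10, 4]) (by decide +kernel) (by decide +kernel))
    (mv hg (u32 hg) ((s5_7 hg).comp ((s5_6 hg).comp (s5_5 hg))) (v := [2, 3, 5, 4, 6, 5, 4, 7, 6, 5, 8, 7, 10, 3]) (by decide +kernel) (by decide +kernel))
    (by decide +kernel)

theorem u40 : Q g (W6 ++ [4, 10, 2, 3, 5, 9, 11, 3, 4, 11, 9, 3, 10, 5] ++ [12]) (W7 ++ [2, 4, 5, 6, 5, 7, 8, 7, 9, 3, 11, 3, 4, 11, 5, 4, 6, 7, 9, 3, 10]) :=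
  pent hg
    (mv hg (u26 hg) ((s6_5 hg).comp ((s6_1 hg).comp (s6_0 hg))) (v := [3, 5, 6, 5, 4, 7, 8, 7, 9, 6, 2, 5, 9]) (by decide +kernel) (by decide +kernel))
    (mv hg (u31 hg) ((s4_4 hg).comp (s4_1 hg)) (v := [4, 2, 5, 6, 5, 8]) (by decide +kernel) (by decide +kernel))
    (mv hg (u32 hg) ((s5_7 hg).comp (s5_4 hg)) (v := [3, 5, 6, 5, 4, 7, 6, 10, 3, 9]) (by decide +kernel) (by decide +kernel))
    (mv hg (u29 hg) (Q.triv (W4)) (v := [3, 4, 6, 5, 7, 6, 10, 5, 9]) (by decide +kernel) (by decide +kernel))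
    (by decide +kernel)

theorem u41 : Q g (W7 ++ [2, 4, 5, 6, 5, 7, 8, 7, 9, 3, 11, 3, 4, 11, 5, 4, 6, 7, 9, 3, 10] ++ [12]) (W6 ++ [4, 10, 2, 3, 5, 9, 11, 3, 4, 11, 9, 3, 10, 5, 6, 8]) :=
  rv hg (u40 hg) (by decide +kernel) (by decide +kernel)

theorem u42 : Q g (W5 ++ [5, 4, 6, 7, 6, 10, 3, 9, 5, 11, 3, 4, 11, 5, 6, 7, 8, 9, 3] ++ [12]) (W7 ++ [4, 6, 5, 4, 8, 7, 6, 10, 10, 3, 5, 11, 3, 4, 11, 5, 4, 6, 5, 7, 6, 9]) :=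
  pent hg
    (mv hg (u36 hg) ((s5_3 hg).comp ((s5_6 hg).comp (s5_5 hg))) (v := [3, 5, 6, 5, 7, 6, 5, 4, 8, 7, 9, 6]) (by decide +kernel) (by decide +kernel))
    (mv hg (u27 hg) ((s5_3 hg).comp (s5_1 hg)) (v := [1, 3, 6, 7, 6, 8, 7, 9, 6, 10, 3]) (by decide +kernel) (by decide +kernel))
    (mv hg (u22 hg) (((s7_5 hg).inv hg).comp (((s7_4 hg).inv hg).comp (s7_0 hg))) (v := [2, 3, 4, 5, 4, 6, 5, 4, 7, 6, 5, 9, 3, 4]) (by decide +kernel) (by decide +kernel))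
    (mv hg (u40 hg) (((s6_1 hg).inv hg).comp ((s6_5 hg).comp (s6_3 hg))) (v := [5, 2, 7, 6, 5, 4, 8, 7, 6, 5, 9, 3, 4, 10]) (by decide +kernel) (by decide +kernel))
    (by decide +kernel)

theorem u43 : Q g (W7 ++ [4, 6, 5, 4, 8, 7, 6, 10, 10, 3, 5, 11, 3, 4, 11, 5, 4, 6, 5, 7, 6, 9] ++ [12]) (W5 ++ [5, 4, 6, 7, 6, 10, 3, 9, 5, 11, 3, 4, 11, 5, 6, 7, 8, 9, 3, 6, 8]) :=
  rv hg (u42 hg) (by decide +kernel) (by decide +kernel)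

theorem u44 : Q g (W5 ++ [5, 4, 7, 6, 10, 10, 3, 5, 9, 11, 3, 4, 11, 5, 9, 2, 3, 10] ++ [12]) (W6 ++ [4, 5, 4, 8, 7, 6, 9, 3, 2, 11, 3, 4, 11, 5, 9, 2, 3]) :=
  pent hg
    (mv hg (u36 hg) ((s5_5 hg).comp (((s5_4 hg).inv hg).comp (s5_6 hg))) (v := [3, 2, 4, 6, 5, 4, 7, 10, 8]) (by decide +kernel) (by decide +kernel))
    (mv hg (u36 hg) (((s5_4 hg).inv hg).comp ((s5_6 hg).comp (s5_4 hg))) (v := [5, 6, 9, 9, 3, 8]) (by decide +kernel) (by decide +kernel))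
    (mv hg (u42 hg) (s5_3 hg) (v := [1, 3, 4, 5, 4, 6, 5, 4, 7, 6, 10, 10, 3, 5]) (by decide +kernel) (by decide +kernel))
    (mv hg (u41 hg) ((s7_5 hg).comp (((s7_2 hg).inv hg).comp (s7_5 hg))) (v := [5, 4, 6, 8, 7, 6, 9, 2, 10, 3]) (by decide +kernel) (by decide +kernel))
    (by decide +kernel)

theorem u45 : Q g (W6 ++ [4, 5, 4, 8, 7, 6, 9, 3, 2, 11, 3, 4, 11, 5, 9, 2, 3] ++ [12]) (W5 ++ [5, 4, 7, 6, 10, 10, 3, 5, 9, 11, 3, 4, 11, 5, 9, 2, 3, 10, 6, 8]) :=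
  rv hg (u44 hg) (by decide +kernel) (by decide +kernel)

theorem u50 : Q g (W3 ++ [11, 3, 5, 4, 11, 7, 6, 5, 4, 11, 10, 3, 11, 4, 9, 3, 10, 11] ++ [12]) (W7 ++ [2, 5, 6, 5, 4, 7, 6, 8, 7, 6, 5, 4, 9, 11, 3, 4, 11, 5, 4, 6, 5, 7, 10, 3, 11]) :=
  pent hg
    (mv hg (u46 hg) ((s3_1 hg).comp ((s3_8 hg).comp ((s3_7 hg).comp ((s3_5 hg).inv hg)))) (v := [4, 5, 7, 6, 5, 8, 7, 6, 5, 4, 9, 3, 10, 2]) (by decide +kernel) (by decide +kernel))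
    (mv hg (u49 hg) ((s8_2 hg).comp (s8_0 hg)) (v := [6, 8, 9, 7, 9, 6, 9]) (by decide +kernel) (by decide +kernel))
    (mv hg (u45 hg) (Q.triv (W6)) (v := [1, 4, 5, 4, 7, 6, 5, 8, 7, 9, 6, 10, 3, 9]) (by decide +kernel) (by decide +kernel))
    (mv hg (u42 hg) ((s5_4 hg).comp (s5_2 hg)) (v := [1, 3, 5, 7, 6, 5, 4, 10]) (by decide +kernel) (by decide +kernel))
    (by decide +kernel)

theorem u51 : Q g (W7 ++ [2, 5, 6, 5, 4, 7, 6, 8, 7, 6, 5, 4, 9, 11, 3, 4, 11, 5, 4, 6, 5, 7, 10, 3, 11] ++ [12]) (W3 ++ [11, 3, 5, 4, 11, 7, 6, 5, 4, 11, 10, 3, 11, 4, 9, 3, 10, 11, 6, 8]) :=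
  rv hg (u50 hg) (by decide +kernel) (by decide +kernel)

theorem u52 : Q g (W3 ++ [11, 5, 4, 7, 6, 10, 3, 11, 5, 4, 10, 3, 11, 10, 3, 9, 3] ++ [12]) (W6 ++ [4, 5, 4, 7, 6, 8, 9, 3, 2, 7, 11, 3, 4, 11, 5, 4, 6, 9, 2, 3, 11, 10]) :=
  pent hg
    (mv hg (u50 hg) (Q.triv (W3)) (v := [3, 10, 10, 4]) (by decide +kernel) (by decide +kernel))
    (mv hg (u43 hg) ((s7_2 hg).comp (((s7_5 hg).inv hg).comp (s7_1 hg))) (v := [1, 3, 4, 5, 10, 6, 10, 7]) (by decide +kernel) (by decide +kernel))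
    (mv hg (u36 hg) ((s5_7 hg).comp (((s5_4 hg).inv hg).comp ((s5_6 hg).comp (s5_4 hg)))) (v := [6, 5, 4, 7, 6, 8, 7, 10, 6, 9, 3, 10]) (by decide +kernel) (by decide +kernel))
    (mv hg (u44 hg) ((s5_1 hg).comp ((s5_5 hg).comp (s5_0 hg))) (v := [2, 3, 6, 5, 4, 8, 7, 9, 3, 6]) (by decide +kernel) (by decide +kernel))
    (by decide +kernel)

theorem u53 : Q g (W6 ++ [4, 5, 4, 7, 6, 8, 9, 3, 2, 7, 11, 3, 4, 11, 5, 4, 6, 9, 2, 3, 11, 10] ++ [12]) (W3 ++ [11, 5, 4, 7, 6, 10, 3, 11, 5, 4, 10, 3, 11, 10, 3, 9, 3, 6, 8]) :=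
  rv hg (u52 hg) (by decide +kernel) (by decide +kernel)

theorem u54 : Q g (W7 ++ [10, 10, 3, 11] ++ [12]) (W8 ++ [1, 4, 5, 4, 7, 6, 5, 8, 10, 3, 11, 3, 9]) :=
  pent hg
    (mv hg (u22 hg) (s7_1 hg) (v := [2, 4, 6, 7, 8, 7, 10, 6]) (by decide +kernel) (by decide +kernel))
    (mv hg (u40 hg) ((s6_5 hg).comp ((s6_4 hg).comp ((s6_3 hg).comp (s6_1 hg)))) (v := [1, 5, 6, 7, 6, 8, 7, 6, 5, 9, 3, 10, 4, 9]) (by decide +kernel) (by decide +kernel))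
    (mv hg (u22 hg) (((s7_2 hg).inv hg).comp ((s7_4 hg).inv hg)) (v := [3, 5, 4, 6, 7, 8, 7, 10, 3, 9]) (by decide +kernel) (by decide +kernel))
    (mv hg (u48 hg) (Q.triv (W6)) (v := [8, 7, 9, 6, 2, 5, 9]) (by decide +kernel) (by decide +kernel))
    (by decide +kernel)

theorem u55 : Q g (W8 ++ [1, 4, 5, 4, 7, 6, 5, 8, 10, 3, 11, 3, 9] ++ [12]) (W7 ++ [10, 10, 3, 11, 6, 8]) :=
  rv hg (u54 hg) (by decide +kernel) (by decide +kernel)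

theorem u58 : Q g (W5 ++ [5, 9, 3, 4, 11, 3] ++ [12]) (W9 ++ [1, 3, 6, 5, 7, 8, 7, 6, 5, 4, 10, 10, 11]) :=
  pent hg
    (mv hg (u23 hg) (s5_0 hg) (v := [1, 3, 4, 6, 5, 7, 6, 8, 7, 6, 5]) (by decide +kernel) (by decide +kernel))
    (mv hg (u40 hg) ((s6_2 hg).comp ((s6_5 hg).comp (s6_3 hg))) (v := [4, 5, 4, 6, 5, 4, 8, 7, 6, 9, 5, 9, 4]) (by decide +kernel) (by decide +kernel))
    (mv hg (u43 hg) ((s7_5 hg).comp (s7_5 hg)) (v := [2, 5, 4, 6, 5, 7, 6, 5, 10, 8]) (by decide +kernel) (by decide +kernel))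
    (mv hg (u56 hg) ((s5_6 hg).comp ((s5_7 hg).comp ((s5_2 hg).comp (s5_5 hg)))) (v := [4, 6, 8, 7, 6, 5, 4, 10, 3]) (by decide +kernel) (by decide +kernel))
    (by decide +kernel)

theorem u59 : Q g (W9 ++ [1, 3, 6, 5, 7, 8, 7, 6, 5, 4, 10, 10, 11] ++ [12]) (W5 ++ [5, 9, 3, 4, 11, 3, 6, 8]) :=
  rv hg (u58 hg) (by decide +kernel) (by decide +kernel)

theorem u60 : Q g (W6 ++ [10, 3, 11] ++ [12]) (W9 ++ [1, 3, 5, 7, 6, 8, 7, 6, 5, 4, 10, 10, 11, 3, 4, 11, 5, 6, 7]) :=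
  pent hg
    (mv hg (u21 hg) ((s6_0 hg).comp ((s6_3 hg).comp ((s6_1 hg).comp (s6_0 hg)))) (v := [4, 5, 6, 5, 4, 7, 8, 9, 7, 2, 6]) (by decide +kernel) (by decide +kernel))
    (mv hg (u28 hg) (((s7_2 hg).inv hg).comp (s7_0 hg)) (v := [6, 5, 4, 9, 9, 3, 10, 7]) (by decide +kernel) (by decide +kernel))
    (mv hg (u16 hg) ((s5_3 hg).comp (s5_1 hg)) (v := [3, 5, 6, 7, 6, 8, 7, 6, 5, 4, 9, 2]) (by decide +kernel) (by decide +kernel))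
    (mv hg (u58 hg) ((s5_3 hg).comp (s5_5 hg)) (v := [1, 3, 4, 5, 6, 8, 7]) (by decide +kernel) (by decide +kernel))
    (by decide +kernel)

theorem u61 : Q g (W9 ++ [1, 3, 5, 7, 6, 8, 7, 6, 5, 4, 10, 10, 11, 3, 4, 11, 5, 6, 7] ++ [12]) (W6 ++ [10, 3, 11, 6, 8]) :=
  rv hg (u60 hg) (by decide +kernel) (by decide +kernel)

theorem u68 : Q g (W4 ++ [6, 5, 11, 3, 4, 11] ++ [12]) (W8 ++ [7, 8, 10, 7, 10, 6, 11, 3, 4, 11, 5, 6, 7, 8, 9, 2]) :=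
  pent hg
    (mv hg (u29 hg) (Q.triv (W4)) (v := [3, 6, 5, 4]) (by decide +kernel) (by decide +kernel))
    (mv hg (u41 hg) ((s7_5 hg).comp ((s7_2 hg).comp (s7_5 hg))) (v := [7, 6, 5, 8, 9, 7, 10]) (by decide +kernel) (by decide +kernel))
    (mv hg (u60 hg) ((s6_5 hg).comp ((s6_1 hg).comp ((s6_0 hg).comp (s6_5 hg)))) (v := [3, 4, 5, 4, 6, 7, 6, 8, 7, 6, 9, 3, 10]) (by decide +kernel) (by decide +kernel))
    (mv hg (u65 hg) (s9_0 hg) (v := [2, 4, 5, 6, 5, 7, 6, 5, 10, 3, 8, 10, 7]) (by decide +kernel) (by decide +kernel))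
    (by decide +kernel)

theorem u69 : Q g (W8 ++ [7, 8, 10, 7, 10, 6, 11, 3, 4, 11, 5, 6, 7, 8, 9, 2] ++ [12]) (W4 ++ [6, 5, 11, 3, 4, 11, 6, 8]) :=
  rv hg (u68 hg) (by decide +kernel) (by decide +kernel)

theorem u70 : Q g (W5 ++ [11, 5, 4, 6, 5, 7, 9, 3, 11, 4, 5, 6, 10, 10, 3, 11] ++ [12]) (W8 ++ [4, 6, 10, 7, 10, 6, 11, 3, 4, 11, 5, 4, 6, 5, 7, 8, 10, 3, 11, 10]) :=
  pent hg
    (mv hg (u27 hg) ((s5_2 hg).comp ((s5_7 hg).comp (s5_0 hg))) (v := [3, 4, 5, 10, 3, 4, 9]) (by decide +kernel) (by decide +kernel))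
    (mv hg (u28 hg) ((s7_4 hg).comp (s7_0 hg)) (v := [4, 2, 5, 6, 5, 4, 7, 6, 8, 7, 6, 9, 3, 5, 9]) (by decide +kernel) (by decide +kernel))
    (mv hg (u32 hg) ((s5_7 hg).comp (s5_4 hg)) (v := [6, 5, 4, 7, 6, 5, 4, 8, 9, 3, 2, 7]) (by decide +kernel) (by decide +kernel))
    (mv hg (u68 hg) (Q.triv (W4)) (v := [4, 5, 4, 7, 6, 8, 9, 7, 9, 6]) (by decide +kernel) (by decide +kernel))
    (by decide +kernel)

theorem u71 : Q g (W8 ++ [4, 6, 10, 7, 10, 6, 11, 3, 4, 11, 5, 4, 6, 5, 7, 8, 10, 3, 11, 10] ++ [12]) (W5 ++ [11, 5, 4, 6, 5, 7, 9, 3, 11, 4, 5, 6, 10, 10, 3, 11, 6, 8]) :=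
  rv hg (u70 hg) (by decide +kernel) (by decide +kernel)

theorem s1_9 : Q g (W1 ++ [1, 4, 5, 4, 6, 5, 8, 10, 11, 3, 4, 11, 5, 4, 6, 5, 7, 6, 8, 7, 9, 3, 11, 4, 5, 6, 10, 3, 11, 4, 5, 10, 3, 11, 4, 9, 3, 11]) W1 :=
  df hg (u8 hg) (u8 hg) (s4_6 hg) (v := [7, 6, 5, 9, 8, 10, 2, 7]) (by decide +kernel) (by decide +kernel) (by decide +kernel)

theorem s4_7 : Q g (W4 ++ [1, 6, 5, 7, 8, 7, 9, 6, 10, 3, 11, 3, 4, 11, 5, 4, 6, 5, 7, 9, 3, 11, 9, 4]) W4 :=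
  df hg (u32 hg) (u39 hg) (((s5_4 hg).inv hg).comp (((s5_5 hg).inv hg).comp ((s5_6 hg).comp ((s5_5 hg).comp ((s5_6 hg).comp (s5_2 hg)))))) (v := [1, 4, 6, 7, 8, 7, 9, 3, 6, 10, 10]) (by decide +kernel) (by decide +kernel) (by decide +kernel)

theorem s9_1 : Q g (W9 ++ [3, 6, 9, 3, 8, 9, 7, 11, 3, 4, 5, 6, 7, 8]) W9 :=
  df hg (u56 hg) (u58 hg) (s5_0 hg) (v := [3, 9, 9, 2, 10]) (by decide +kernel) (by decide +kernel) (by decide +kernel)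

theorem u62 : Q g (W7 ++ [11] ++ [12]) (W9 ++ [2, 3, 5, 7, 6, 5, 8, 7, 6, 5, 9, 4, 11, 3, 4, 11, 5, 6, 7, 8, 9, 2]) :=
  pent hg
    (mv hg (u22 hg) (((s7_2 hg).inv hg).comp ((s7_4 hg).inv hg)) (v := [5, 6, 5, 4, 7, 6, 10, 8, 10]) (by decide +kernel) (by decide +kernel))
    (mv hg (u60 hg) ((s6_3 hg).comp ((s6_2 hg).comp ((s6_5 hg).comp (s6_3 hg)))) (v := [1, 5, 4, 6, 7, 8, 10, 10]) (by decide +kernel) (by decide +kernel))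
    (mv hg (u57 hg) (((s9_1 hg).inv hg).comp (((s9_1 hg).inv hg).comp (((s9_1 hg).inv hg).comp ((s9_0 hg).comp (((s9_1 hg).inv hg).comp ((s9_0 hg).comp (s9_1 hg))))))) (v := [1, 3, 4, 5, 6, 5, 4, 7, 6, 5, 8, 7, 6, 5, 9, 9, 3, 4]) (by decide +kernel) (by decide +kernel))
    (mv hg (u58 hg) ((s5_3 hg).comp ((s5_6 hg).comp (s5_1 hg))) (v := [6, 2, 5, 8, 7, 6, 5, 9, 4, 10]) (by decide +kernel) (by decide +kernel))
    (by decide +kernel)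

theorem u63 : Q g (W9 ++ [2, 3, 5, 7, 6, 5, 8, 7, 6, 5, 9, 4, 11, 3, 4, 11, 5, 6, 7, 8, 9, 2] ++ [12]) (W7 ++ [11, 6, 8]) :=
  rv hg (u62 hg) (by decide +kernel) (by decide +kernel)

theorem u66 : Q g (W4 ++ [9, 11, 3, 4, 11] ++ [12]) (W8 ++ [6, 5, 7, 9, 11, 3, 4, 11]) :=
  pent hg
    (mv hg (u25 hg) ((s4_1 hg).comp (s4_0 hg)) (v := [1, 9, 9, 3]) (by decide +kernel) (by decide +kernel))
    (mv hg (u24 hg) ((s6_1 hg).comp ((s6_5 hg).comp ((s6_4 hg).comp (s6_1 hg)))) (v := [3, 4, 7, 6, 5, 8, 7, 6, 5, 10, 4]) (by decide +kernel) (by decide +kernel))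
    (mv hg (u56 hg) ((s5_2 hg).comp ((s5_7 hg).comp (s5_4 hg))) (v := [4, 5, 4, 6, 8, 7, 10, 10, 3]) (by decide +kernel) (by decide +kernel))
    (mv hg (u65 hg) (((s9_1 hg).inv hg).comp (s9_0 hg)) (v := [2, 3, 5, 6, 5, 8, 7, 10, 3, 6]) (by decide +kernel) (by decide +kernel))
    (by decide +kernel)

theorem u67 : Q g (W8 ++ [6, 5, 7, 9, 11, 3, 4, 11] ++ [12]) (W4 ++ [9, 11, 3, 4, 11, 6, 8]) :=
  rv hg (u66 hg) (by decide +kernel) (by decide +kernel)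

theorem u72 : Q g (W9 ++ [2, 3, 11] ++ [12]) (W9 ++ [2, 3, 5, 4, 8, 7, 6, 9, 5, 11, 4, 5]) :=
  pent hg
    (mv hg (u57 hg) ((s9_0 hg).comp (s9_1 hg)) (v := [2, 3, 5, 7, 6, 8, 7, 6, 5, 9]) (by decide +kernel) (by decide +kernel))
    (mv hg (u58 hg) (s5_2 hg) (v := [3, 5, 4, 6, 7, 6, 8, 7, 6, 5, 4, 9, 9]) (by decide +kernel) (by decide +kernel))
    (mv hg (u57 hg) (Q.triv (W9)) (v := [3, 2, 4, 6, 5, 7, 8, 7, 6, 5, 4, 9]) (by decide +kernel) (by decide +kernel))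
    (mv hg (u58 hg) (s5_1 hg) (v := [1, 3, 5, 7, 6, 5, 4, 8]) (by decide +kernel) (by decide +kernel))
    (by decide +kernel)

theorem u73 : Q g (W9 ++ [2, 3, 5, 4, 8, 7, 6, 9, 5, 11, 4, 5] ++ [12]) (W9 ++ [2, 3, 11, 6, 8]) :=
  rv hg (u72 hg) (by decide +kernel) (by decide +kernel)

theorem u76 : Q g (W6 ++ [2, 4, 5, 7, 9, 6, 11, 3, 4, 11, 5, 10, 2] ++ [12]) (W10 ++ [2, 5, 4, 6, 5, 7, 8, 7, 6, 5, 10, 4, 11]) :=
  pent hg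
    (mv hg (u45 hg) ((s6_3 hg).comp (s6_2 hg)) (v := [2, 5, 4, 6, 7, 6, 8, 7, 6, 10, 3, 5, 10, 4]) (by decide +kernel) (by decide +kernel))
    (mv hg (u56 hg) ((s5_6 hg).comp ((s5_2 hg).comp (s5_5 hg))) (v := [2, 3, 5, 6, 5, 7, 6, 5, 8, 7, 6, 5, 4, 9, 3]) (by decide +kernel) (by decide +kernel))
    (mv hg (u61 hg) ((s9_0 hg).comp (s9_1 hg)) (v := [6, 7, 6, 9, 2]) (by decide +kernel) (by decide +kernel))
    (mv hg (u74 hg) (s6_0 hg) (v := [2, 4, 6, 5, 7, 6, 8, 7, 10]) (by decide +kernel) (by decide +kernel))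
    (by decide +kernel)

theorem u77 : Q g (W10 ++ [2, 5, 4, 6, 5, 7, 8, 7, 6, 5, 10, 4, 11] ++ [12]) (W6 ++ [2, 4, 5, 7, 9, 6, 11, 3, 4, 11, 5, 10, 2, 6, 8]) :=
  rv hg (u76 hg) (by decide +kernel) (by decide +kernel)

theorem u80 : Q g (W7 ++ [3, 4, 11, 7, 6, 5, 4, 9, 3, 11, 10, 3, 9, 3] ++ [12]) (W11 ++ [4, 2, 6, 5, 4, 7, 6, 5, 4, 8, 7, 6, 10, 11]) :=
  pent hg
    (mv hg (u62 hg) ((s7_4 hg).comp ((s7_5 hg).comp (((s7_2 hg).inv hg).comp (s7_0 hg)))) (v := [5, 2, 4, 6, 5, 7, 6, 5, 8, 7, 6, 5, 10, 3, 4, 10]) (by decide +kernel) (by decide +kernel))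
    (mv hg (u57 hg) (((s9_1 hg).inv hg).comp ((s9_0 hg).comp (((s9_1 hg).inv hg).comp ((s9_0 hg).comp (s9_1 hg))))) (v := [7, 6, 5, 8, 10, 3, 2, 10, 7]) (by decide +kernel) (by decide +kernel))
    (mv hg (u42 hg) (s5_4 hg) (v := [3, 2, 5, 4, 6, 5, 7, 6, 5, 8, 7, 6, 5, 4]) (by decide +kernel) (by decide +kernel))
    (mv hg (u78 hg) (s7_1 hg) (v := [1, 4, 5, 9, 9, 3]) (by decide +kernel) (by decide +kernel))
    (by decide +kernel)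

theorem u81 : Q g (W11 ++ [4, 2, 6, 5, 4, 7, 6, 5, 4, 8, 7, 6, 10, 11] ++ [12]) (W7 ++ [3, 4, 11, 7, 6, 5, 4, 9, 3, 11, 10, 3, 9, 3, 6, 8]) :=
  rv hg (u80 hg) (by decide +kernel) (by decide +kernel)

theorem u82 : Q g (W10 ++ [2, 10, 3, 11] ++ [12]) (W11 ++ [2, 5, 7, 6, 5, 8, 7, 6, 10, 3, 9, 5, 11]) :=
  pent hg
    (mv hg (u77 hg) (((s10_1 hg).inv hg).comp ((s10_0 hg).comp (s10_1 hg))) (v := [2, 5, 4, 9]) (by decide +kernel) (by decide +kernel))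
    (mv hg (u60 hg) ((s6_3 hg).comp ((s6_1 hg).comp ((s6_4 hg).comp (s6_1 hg)))) (v := [2, 7, 6, 8, 7, 6, 5, 10, 3, 9, 4, 10]) (by decide +kernel) (by decide +kernel))
    (mv hg (u63 hg) ((s9_0 hg).comp ((s9_1 hg).comp ((s9_1 hg).comp ((s9_0 hg).comp (((s9_1 hg).inv hg).comp (s9_0 hg)))))) (v := [5, 6, 5, 4, 10, 10, 3, 8, 10]) (by decide +kernel) (by decide +kernel))
    (mv hg (u78 hg) (s7_0 hg) (v := [4, 5, 7, 6, 5, 8, 7, 9, 6, 9, 5, 10]) (by decide +kernel) (by decide +kernel))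
    (by decide +kernel)

theorem u83 : Q g (W11 ++ [2, 5, 7, 6, 5, 8, 7, 6, 10, 3, 9, 5, 11] ++ [12]) (W10 ++ [2, 10, 3, 11, 6, 8]) :=
  rv hg (u82 hg) (by decide +kernel) (by decide +kernel)

theorem s10_3 : Q g (W10 ++ [1, 5, 8, 7, 6, 5, 4, 9, 9, 11, 4, 5, 6, 7, 8]) W10 :=
  df hg (u74 hg) (u76 hg) (Q.triv (W6)) (v := [7, 6, 9, 5, 2]) (by decide +kernel) (by decide +kernel) (by decide +kernel)

theorem s11_3 : Q g (W11 ++ [1, 5, 6, 7, 6, 10, 10, 11, 4, 5, 6, 7]) W11 :=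
  df hg (u78 hg) (u80 hg) (s7_2 hg) (v := [3, 7, 6, 8, 9, 3, 7, 9, 6]) (by decide +kernel) (by decide +kernel) (by decide +kernel)

end Cfsg.Agent.HN
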