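import Cfsg.Agent.CosetEnum.HN.Facts
import Cfsg.Agent.CosetEnum.HN.Count
import Cfsg.Agent.CosetEnum.HN.CovData

/-! The index of `H` is at most 1140000 (generated, owner: helper66). -/

set_option autoImplicit false
set_option maxRecDepth 1000000

namespace Cfsg.Agent.HN

open MulAction Cfsg.Agent.CosetEnum

variable {G : Type} [Group G] {g : ℕ → G} (hg : Good g 13 iv RL)

/-- representatives of the double cosets -/
def Ws : List (List ℕ) := [W0, W1, W2, W3, W4, W5, W6, W7, W8, W9, W10, W11]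

include hg in
theorem gd0 (a : QA) : Gd hg Ws W0 a := by
  refine gd_all (st := st0) (gens := gens0) (bl := bl0) ?_ ?_ (by decide +kernel) (by decide +kernel) (by decide +kernel) a
  · exact ⟨⟨by decide +kernel, Gd.start (a := []) (u0 hg) (by decide +kernel) (by decide +kernel) (by decide +kernel)⟩, trivial⟩
  · exact ⟨s0_0 hg, s0_1 hg, s0_2 hg, s0_3 hg, s0_4 hg, s0_5 hg, s0_6 hg, s0_7 hg, s0_8 hg, s0_9 hg, s0_10 hg, trivial⟩

include hg in
theorem sg0 (A : MulAction QA (G ⧸ Cl g 11)) (hA : ∀ (a : QA) (x : G ⧸ Cl g 11), a • x = th hg a • x) :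
    239500800 ≤ 1 * Nat.card (stabilizer QA (pt g (ev g W0))) := by
  have h := stab_ge hg (W := W0) (ws := gx0) ⟨s0_0 hg, s0_1 hg, s0_2 hg, s0_3 hg, s0_4 hg, s0_5 hg, s0_6 hg, s0_7 hg, s0_8 hg, s0_9 hg, s0_10 hg, trivial⟩ (by decide +kernel) (t := tb0) (rw_ := 240) (rm := 1766847064778384329583297500742918515827483896875618958121606201292619775) (lets := lt0) (by decide +kernel) (by decide +kernel) (ls := ls0) (by decide +kernel) A hA
  have h1 : (ls0.map fun p => p.2.length).prod = 239500800 := by decide +kernel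
  rw [h1] at h
  exact Nat.mul_le_mul_left 1 h

include hg in
theorem gd1 (a : QA) : Gd hg Ws W1 a := by
  refine gd_all (st := st1) (gens := gens1) (bl := bl1) ?_ ?_ (by decide +kernel) (by decide +kernel) (by decide +kernel) a
  · exact ⟨⟨by decide +kernel, Gd.start (a := []) (u1 hg) (by decide +kernel) (by decide +kernel) (by decide +kernel)⟩, ⟨by decide +kernel, Gd.start (a := [11]) (u2 hg) (by decide +kernel) (by decide +kernel) (by decide +kernel)⟩, ⟨by decide +kernel, Gd.start (a := [11, 3, 4, 11]) (u5 hg) (by decide +kernel) (by decide +kernel) (by decide +kernel)⟩, ⟨by decide +kernel, Gd.start (a := [11, 3, 4, 11, 5, 4, 9, 3, 11]) (u7 hg) (by decide +kernel) (by decide +kernel) (by decide +kernel)⟩, trivial⟩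
  · exact ⟨s1_0 hg, s1_1 hg, s1_2 hg, s1_3 hg, s1_4 hg, s1_5 hg, s1_6 hg, s1_7 hg, s1_8 hg, s1_9 hg, trivial⟩

include hg in
theorem sg1 (A : MulAction QA (G ⧸ Cl g 11)) (hA : ∀ (a : QA) (x : G ⧸ Cl g 11), a • x = th hg a • x) :
    239500800 ≤ 462 * Nat.card (stabilizer QA (pt g (ev g W1))) := by
  have h := stab_ge hg (W := W1) (ws := gx1) ⟨s1_0 hg, s1_1 hg, s1_2 hg, s1_3 hg, s1_4 hg, s1_5 hg, s1_6 hg, s1_7 hg, s1_8 hg, s1_9 hg, (s1_8 hg).inv hg, (s1_9 hg).inv hg, trivial⟩ (by decide +kernel) (t := tb1) (rw_ := 260) (rm := 1852673427797059126777135760139006525652319754650249024631321344126610074238975) (lets := lt1) (by decide +kernel) (by decide +kernel) (ls := ls1) (by decide +kernel) A hA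
  have h1 : (ls1.map fun p => p.2.length).prod = 518400 := by decide +kernel
  rw [h1] at h
  exact Nat.mul_le_mul_left 462 h

include hg in
theorem gd2 (a : QA) : Gd hg Ws W2 a := by
  refine gd_all (st := st2) (gens := gens2) (bl := bl2) ?_ ?_ (by decide +kernel) (by decide +kernel) (by decide +kernel) a
  · exact ⟨⟨by decide +kernel, Gd.start (a := []) (u3 hg) (by decide +kernel) (by decide +kernel) (by decide +kernel)⟩, ⟨by decide +kernel, Gd.start (a := [2, 4, 11, 4]) (u4 hg) (by decide +kernel) (by decide +kernel) (by decide +kernel)⟩, ⟨by decide +kernel, Gd.start (a := [11, 3, 4, 11]) (u9 hg) (by decide +kernel) (by decide +kernel) (by decide +kernel)⟩, ⟨by decide +kernel, Gd.start (a := [2, 11, 3, 4, 11]) (u11 hg) (by decide +kernel) (by decide +kernel) (by decide +kernel)⟩, ⟨by decide +kernel, Gd.start (a := [11, 3, 4, 11, 5, 4, 9, 3, 11]) (u17 hg) (by decide +kernel) (by decide +kernel) (by decide +kernel)⟩, ⟨by decide +kernel, Gd.start (a := [2,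 11, 3, 4, 11, 5, 4, 9, 3, 11]) (u19 hg) (by decide +kernel) (by decide +kernel) (by decide +kernel)⟩, trivial⟩
  · exact ⟨s2_0 hg, s2_1 hg, s2_2 hg, s2_3 hg, s2_4 hg, s2_5 hg, s2_6 hg, s2_7 hg, trivial⟩

include hg in
theorem sg2 (A : MulAction QA (G ⧸ Cl g 11)) (hA : ∀ (a : QA) (x : G ⧸ Cl g 11), a • x = th hg a • x) :
    239500800 ≤ 16632 * Nat.card (stabilizer QA (pt g (ev g W2))) := by
  have h := stab_ge hg (W := W2) (ws := gx2) ⟨s2_0 hg, s2_1 hg, s2_2 hg, s2_3 hg, s2_4 hg, s2_5 hg, s2_6 hg, s2_7 hg, (s2_5 hg).inv hg, (s2_6 hg).inv hg, (s2_7 hg).inv hg, trivial⟩ (by decide +kernel) (t := tb2) (rw_ := 240) (rm := 1766847064778384329583297500742918515827483896875618958121606201292619775) (lets := lt2) (by decide +kernel) (by decide +kernel) (ls := ls2) (by decide +kernel) A hA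
  have h1 : (ls2.map fun p => p.2.length).prod = 14400 := by decide +kernel
  rw [h1] at h
  exact Nat.mul_le_mul_left 16632 h

include hg in
theorem gd3 (a : QA) : Gd hg Ws W3 a := by
  refine gd_all (st := st3) (gens := gens3) (bl := bl3) ?_ ?_ (by decide +kernel) (by decide +kernel) (by decide +kernel) a
  · exact ⟨⟨by decide +kernel, Gd.start (a := []) (u6 hg) (by decide +kernel) (by decide +kernel) (by decide +kernel)⟩, ⟨by decide +kernel, Gd.start (a := [5, 4, 7, 11, 4]) (u13 hg) (by decide +kernel) (by decide +kernel) (by decide +kernel)⟩, ⟨by decide +kernel, Gd.start (a := [11, 5, 4, 9, 3, 11]) (u46 hg) (by decide +kernel) (by decide +kernel) (by decide +kernel)⟩, ⟨by decide +kernel, Gd.start (a := [11, 3, 5, 4, 11, 7, 6, 5, 4, 11, 10, 3, 11, 4, 9, 3, 10, 11]) (u50 hg) (by decide +kernel) (by decide +kernel) (by decide +kernel)⟩, ⟨by decide +kernel, Gd.start (a := [11, 5, 4, 7, 6, 10, 3, 11, 5, 4, 10, 3, 11, 10, 3, 9, 3]) (u52 hg) (by decide +kernel)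 (by decide +kernel) (by decide +kernel)⟩, trivial⟩
  · exact ⟨s3_0 hg, s3_1 hg, s3_2 hg, s3_3 hg, s3_4 hg, s3_5 hg, s3_6 hg, s3_7 hg, s3_8 hg, trivial⟩

include hg in
theorem sg3 (A : MulAction QA (G ⧸ Cl g 11)) (hA : ∀ (a : QA) (x : G ⧸ Cl g 11), a • x = th hg a • x) :
    239500800 ≤ 10395 * Nat.card (stabilizer QA (pt g (ev g W3))) := by
  have h := stab_ge hg (W := W3) (ws := gx3) ⟨s3_0 hg, s3_1 hg, s3_2 hg, s3_3 hg, s3_4 hg, s3_5 hg, s3_6 hg, s3_7 hg, s3_8 hg, (s3_3 hg).inv hg, (s3_4 hg).inv hg, (s3_5 hg).inv hg, trivial⟩ (by decide +kernel) (t := tb3) (rw_ := 260) (rm := 1852673427797059126777135760139006525652319754650249024631321344126610074238975) (lets := lt3) (by decide +kernel) (by decide +kernel) (ls := ls3) (by decide +kernel) A hA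
  have h1 : (ls3.map fun p => p.2.length).prod = 23040 := by decide +kernel
  rw [h1] at h
  exact Nat.mul_le_mul_left 10395 h

include hg in
theorem gd4 (a : QA) : Gd hg Ws W4 a := by
  refine gd_all (st := st4) (gens := gens4) (bl := bl4) ?_ ?_ (by decide +kernel) (by decide +kernel) (by decide +kernel) a
  · exact ⟨⟨by decide +kernel, Gd.start (a := []) (u8 hg) (by decide +kernel) (by decide +kernel) (by decide +kernel)⟩, ⟨by decide +kernel, Gd.start (a := [11, 4]) (u25 hg) (by decide +kernel) (by decide +kernel) (by decide +kernel)⟩, ⟨by decide +kernel, Gd.start (a := [3, 11]) (u29 hg) (by decide +kernel) (by decide +kernel) (by decide +kernel)⟩, ⟨by decide +kernel, Gd.start (a := [3, 11, 3, 4, 9, 11]) (u31 hg) (by decide +kernel) (by decide +kernel) (by decide +kernel)⟩, ⟨by decide +kernel, Gd.start (a := [11, 3, 4, 11, 5, 4, 6, 5, 9, 3, 11, 4, 8]) (u33 hg) (by decide +kernel) (by decide +kernel) (by decide +kernel)⟩, ⟨by decide +kernel, Gd.start (a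 := [11, 3, 4, 11, 3, 5, 4, 6, 5, 9, 3, 11, 8]) (u34 hg) (by decide +kernel) (by decide +kernel) (by decide +kernel)⟩, ⟨by decide +kernel, Gd.start (a := [3, 4, 10, 5, 11, 3, 4, 11, 5, 9, 3]) (u35 hg) (by decide +kernel) (by decide +kernel) (by decide +kernel)⟩, ⟨by decide +kernel, Gd.start (a := [4, 5, 9, 11, 3, 4, 11]) (u37 hg) (by decide +kernel) (by decide +kernel) (by decide +kernel)⟩, ⟨by decide +kernel, Gd.start (a := [5, 6, 11, 3, 4, 11, 5, 4, 6, 5, 10, 3, 11, 4, 9, 3, 11]) (u38 hg) (by decide +kernel) (by decide +kernel) (by decide +kernel)⟩, ⟨by decide +kernel, Gd.start (a := [9, 11, 3, 4, 11]) (u66 hg) (by decide +kernel) (by decide +kernel) (by decide +kernel)⟩, ⟨by decide +kernel, Gd.start (a := [6, 5, 11, 3, 4, 11]) (u68 hg) (by decide +kernel) (by decide +kernel) (by decide +kernel)⟩, trivial⟩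
  · exact ⟨s4_0 hg, s4_1 hg, s4_2 hg, s4_3 hg, s4_4 hg, s4_5 hg, s4_6 hg, s4_7 hg, trivial⟩

include hg in
theorem sg4 (A : MulAction QA (G ⧸ Cl g 11)) (hA : ∀ (a : QA) (x : G ⧸ Cl g 11), a • x = th hg a • x) :
    239500800 ≤ 30800 * Nat.card (stabilizer QA (pt g (ev g W4))) := by
  have h := stab_ge hg (W := W4) (ws := gx4) ⟨s4_0 hg, s4_1 hg, s4_2 hg, s4_3 hg, s4_4 hg, s4_5 hg, s4_6 hg, s4_7 hg, (s4_5 hg).inv hg, (s4_6 hg).inv hg, (s4_7 hg).inv hg, trivial⟩ (by decide +kernel) (t := tb4) (rw_ := 240) (rm := 1766847064778384329583297500742918515827483896875618958121606201292619775) (lets := lt4) (by decide +kernel) (by decide +kernel) (ls := ls4) (by decide +kernel) A hA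
  have h1 : (ls4.map fun p => p.2.length).prod = 7776 := by decide +kernel
  rw [h1] at h
  exact Nat.mul_le_mul_left 30800 h

include hg in
theorem gd5 (a : QA) : Gd hg Ws W5 a := by
  refine gd_all (st := st5) (gens := gens5) (bl := bl5) ?_ ?_ (by decide +kernel) (by decide +kernel) (by decide +kernel) a
  · exact ⟨⟨by decide +kernel, Gd.start (a := []) (u10 hg) (by decide +kernel) (by decide +kernel) (by decide +kernel)⟩, ⟨by decide +kernel, Gd.start (a := [3, 6, 8, 11]) (u12 hg) (by decide +kernel) (by decide +kernel) (by decide +kernel)⟩, ⟨by decide +kernel, Gd.start (a := [6, 2, 5, 7, 6, 5, 8, 7, 6, 11]) (u14 hg) (by decide +kernel) (by decide +kernel) (by decide +kernel)⟩, ⟨by decide +kernel, Gd.start (a := [5, 4, 11]) (u15 hg) (by decide +kernel) (by decide +kernel) (by decide +kernel)⟩, ⟨by decide +kernel, Gd.start (a := [9, 3, 11, 4]) (u16 hg) (by decide +kernel) (by decide +kernel) (by decide +kernel)⟩, ⟨by decide +kernel, Gd.start (a := [5, 7,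 6, 8, 7, 10, 3, 11, 3, 4, 11, 5, 4, 6, 7, 8]) (u23 hg) (by decide +kernel) (by decide +kernel) (by decide +kernel)⟩, ⟨by decide +kernel, Gd.start (a := [2, 5, 6, 7, 10, 3, 6, 11, 3, 4, 11, 5, 4, 6, 7, 9]) (u27 hg) (by decide +kernel) (by decide +kernel) (by decide +kernel)⟩, ⟨by decide +kernel, Gd.start (a := [5, 6, 7, 6, 8, 7, 9, 9, 11, 3, 4, 11, 5, 4, 6, 7, 8, 10, 3, 11, 10]) (u32 hg) (by decide +kernel) (by decide +kernel) (by decide +kernel)⟩, ⟨by decide +kernel, Gd.start (a := [5, 4, 11, 3, 6, 5, 4, 7, 10, 3, 11, 4, 9, 3, 11, 8]) (u36 hg) (by decide +kernel) (by decide +kernel) (by decide +kernel)⟩, ⟨by decide +kernel, Gd.start (a := [5, 4, 7, 6, 8, 9, 7, 2, 11, 3, 4, 11, 5, 4, 10, 3, 11, 10]) (u39 hg) (by decide +kernel) (by decide +kernel) (by decide +kernel)⟩, ⟨by decide +kernel, Gd.start (a := [5, 4, 6, 7, 6, 10, 3, 9, 5, 11, 3, 4, 11, 5, 6, 7, 8, 9, 3]) (u42 hg) (by decide +kernel) (by decide +kernel) (by decide +kernel)⟩, ⟨by decide +kernel, Gd.start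 (a := [5, 4, 7, 6, 10, 10, 3, 5, 9, 11, 3, 4, 11, 5, 9, 2, 3, 10]) (u44 hg) (by decide +kernel) (by decide +kernel) (by decide +kernel)⟩, ⟨by decide +kernel, Gd.start (a := [5, 4, 9, 3, 11]) (u56 hg) (by decide +kernel) (by decide +kernel) (by decide +kernel)⟩, ⟨by decide +kernel, Gd.start (a := [5, 9, 3, 4, 11, 3]) (u58 hg) (by decide +kernel) (by decide +kernel) (by decide +kernel)⟩, ⟨by decide +kernel, Gd.start (a := [11, 5, 4, 6, 5, 7, 9, 3, 11, 4, 5, 6, 10, 10, 3, 11]) (u70 hg) (by decide +kernel) (by decide +kernel) (by decide +kernel)⟩, trivial⟩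
  · exact ⟨s5_0 hg, s5_1 hg, s5_2 hg, s5_3 hg, s5_4 hg, s5_5 hg, s5_6 hg, s5_7 hg, trivial⟩

include hg in
theorem sg5 (A : MulAction QA (G ⧸ Cl g 11)) (hA : ∀ (a : QA) (x : G ⧸ Cl g 11), a • x = th hg a • x) :
    239500800 ≤ 311850 * Nat.card (stabilizer QA (pt g (ev g W5))) := by
  have h := stab_ge hg (W := W5) (ws := gx5) ⟨s5_0 hg, s5_1 hg, s5_2 hg, s5_3 hg, s5_4 hg, s5_5 hg, s5_6 hg, s5_7 hg, (s5_4 hg).inv hg, trivial⟩ (by decide +kernel) (t := tb5) (rw_ := 200) (rm := 1606938044258990275541962092341162602522202993782792835301375) (lets := lt5) (by decide +kernel) (by decide +kernel) (ls := ls5) (by decide +kernel) A hA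
  have h1 : (ls5.map fun p => p.2.length).prod = 768 := by decide +kernel
  rw [h1] at h
  exact Nat.mul_le_mul_left 311850 h

include hg in
theorem gd6 (a : QA) : Gd hg Ws W6 a := by
  refine gd_all (st := st6) (gens := gens6) (bl := bl6) ?_ ?_ (by decide +kernel) (by decide +kernel) (by decide +kernel) a
  · exact ⟨⟨by decide +kernel, Gd.start (a := []) (u18 hg) (by decide +kernel) (by decide +kernel) (by decide +kernel)⟩, ⟨by decide +kernel, Gd.start (a := [2, 7, 11, 4]) (u21 hg) (by decide +kernel) (by decide +kernel) (by decide +kernel)⟩, ⟨by decide +kernel, Gd.start (a := [1, 6, 7, 6, 5, 8, 10, 7, 10, 11, 3, 4, 11, 5, 6, 9, 2]) (u24 hg) (by decide +kernel) (by decide +kernel) (by decide +kernel)⟩, ⟨by decide +kernel, Gd.start (a := [1, 3, 6, 5, 7, 6, 5, 4, 8, 7, 10, 6, 10, 11, 3, 4, 11, 5, 4, 6, 5, 7, 8, 10, 3, 11]) (u26 hg) (by decide +kernel) (by decide +kernel) (by decide +kernel)⟩, ⟨by decide +kernel, Gd.start (a := [4, 10, 2, 3, 5, 9, 11, 3, 4,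 11, 9, 3, 10, 5]) (u40 hg) (by decide +kernel) (by decide +kernel) (by decide +kernel)⟩, ⟨by decide +kernel, Gd.start (a := [4, 5, 4, 8, 7, 6, 9, 3, 2, 11, 3, 4, 11, 5, 9, 2, 3]) (u45 hg) (by decide +kernel) (by decide +kernel) (by decide +kernel)⟩, ⟨by decide +kernel, Gd.start (a := [4, 11, 4]) (u48 hg) (by decide +kernel) (by decide +kernel) (by decide +kernel)⟩, ⟨by decide +kernel, Gd.start (a := [4, 5, 4, 7, 6, 8, 9, 3, 2, 7, 11, 3, 4, 11, 5, 4, 6, 9, 2, 3, 11, 10]) (u53 hg) (by decide +kernel) (by decide +kernel) (by decide +kernel)⟩, ⟨by decide +kernel, Gd.start (a := [10, 3, 11]) (u60 hg) (by decide +kernel) (by decide +kernel) (by decide +kernel)⟩, ⟨by decide +kernel, Gd.start (a := [2, 4, 11, 5, 4, 10, 3, 11]) (u74 hg) (by decide +kernel) (by decide +kernel) (by decide +kernel)⟩, ⟨by decide +kernel, Gd.start (a := [2, 4, 5, 7, 9, 6, 11, 3, 4, 11, 5, 10, 2]) (u76 hg) (by decide +kernel) (by decide +kernel) (by decide +kernel)⟩, trivial⟩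
  · exact ⟨s6_0 hg, s6_1 hg, s6_2 hg, s6_3 hg, s6_4 hg, s6_5 hg, trivial⟩

include hg in
theorem sg6 (A : MulAction QA (G ⧸ Cl g 11)) (hA : ∀ (a : QA) (x : G ⧸ Cl g 11), a • x = th hg a • x) :
    239500800 ≤ 166320 * Nat.card (stabilizer QA (pt g (ev g W6))) := by
  have h := stab_ge hg (W := W6) (ws := gx6) ⟨s6_0 hg, s6_1 hg, s6_2 hg, s6_3 hg, s6_4 hg, s6_5 hg, (s6_1 hg).inv hg, trivial⟩ (by decide +kernel) (t := tb6) (rw_ := 160) (rm := 1461501637330902918203684832716283019655932542975) (lets := lt6) (by decide +kernel) (by decide +kernel) (ls := ls6) (by decide +kernel) A hA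
  have h1 : (ls6.map fun p => p.2.length).prod = 1440 := by decide +kernel
  rw [h1] at h
  exact Nat.mul_le_mul_left 166320 h

include hg in
theorem gd7 (a : QA) : Gd hg Ws W7 a := by
  refine gd_all (st := st7) (gens := gens7) (bl := bl7) ?_ ?_ (by decide +kernel) (by decide +kernel) (by decide +kernel) a
  · exact ⟨⟨by decide +kernel, Gd.start (a := []) (u20 hg) (by decide +kernel) (by decide +kernel) (by decide +kernel)⟩, ⟨by decide +kernel, Gd.start (a := [3, 4, 5, 4, 6, 5, 4, 7, 6, 5, 11]) (u22 hg) (by decide +kernel) (by decide +kernel) (by decide +kernel)⟩, ⟨by decide +kernel, Gd.start (a := [3, 5, 4, 6, 5, 4, 8, 10, 7, 10, 11, 3, 4, 11, 5, 6, 10, 2]) (u28 hg) (by decide +kernel) (by decide +kernel) (by decide +kernel)⟩, ⟨by decide +kernel, Gd.start (a := [1, 3, 4, 5, 4, 6, 5, 4, 10, 7, 10, 11, 3, 4, 11, 5, 4, 10, 3, 11, 10]) (u30 hg) (by decide +kernel) (by decide +kernel) (by decide +kernel)⟩, ⟨by decide +kernel, Gd.start (a := [2, 4, 5, 6, 5, 7,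 8, 7, 9, 3, 11, 3, 4, 11, 5, 4, 6, 7, 9, 3, 10]) (u41 hg) (by decide +kernel) (by decide +kernel) (by decide +kernel)⟩, ⟨by decide +kernel, Gd.start (a := [4, 6, 5, 4, 8, 7, 6, 10, 10, 3, 5, 11, 3, 4, 11, 5, 4, 6, 5, 7, 6, 9]) (u43 hg) (by decide +kernel) (by decide +kernel) (by decide +kernel)⟩, ⟨by decide +kernel, Gd.start (a := [2, 5, 6, 5, 4, 7, 6, 8, 7, 6, 5, 4, 9, 11, 3, 4, 11, 5, 4, 6, 5, 7, 10, 3, 11]) (u51 hg) (by decide +kernel) (by decide +kernel) (by decide +kernel)⟩, ⟨by decide +kernel, Gd.start (a := [10, 10, 3, 11]) (u54 hg) (by decide +kernel) (by decide +kernel) (by decide +kernel)⟩, ⟨by decide +kernel, Gd.start (a := [11]) (u62 hg) (by decide +kernel) (by decide +kernel) (by decide +kernel)⟩, ⟨by decide +kernel, Gd.start (a := [4, 9, 3, 11, 5, 4, 9, 3, 11]) (u78 hg) (by decide +kernel) (by decide +kernel) (by decide +kernel)⟩, ⟨by decide +kernel, Gd.start (a := [3, 4, 11, 7, 6, 5, 4, 9, 3, 11, 10, 3, 9, 3]) (u80 hg) (by decide +kernel) (by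 decide +kernel) (by decide +kernel)⟩, trivial⟩
  · exact ⟨s7_0 hg, s7_1 hg, s7_2 hg, s7_3 hg, s7_4 hg, s7_5 hg, trivial⟩

include hg in
theorem sg7 (A : MulAction QA (G ⧸ Cl g 11)) (hA : ∀ (a : QA) (x : G ⧸ Cl g 11), a • x = th hg a • x) :
    239500800 ≤ 166320 * Nat.card (stabilizer QA (pt g (ev g W7))) := by
  have h := stab_ge hg (W := W7) (ws := gx7) ⟨s7_0 hg, s7_1 hg, s7_2 hg, s7_3 hg, s7_4 hg, s7_5 hg, (s7_2 hg).inv hg, (s7_4 hg).inv hg, (s7_5 hg).inv hg, trivial⟩ (by decide +kernel) (t := tb7) (rw_ := 200) (rm := 1606938044258990275541962092341162602522202993782792835301375) (lets := lt7) (by decide +kernel) (by decide +kernel) (ls := ls7) (by decide +kernel) A hA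
  have h1 : (ls7.map fun p => p.2.length).prod = 1440 := by decide +kernel
  rw [h1] at h
  exact Nat.mul_le_mul_left 166320 h

include hg in
theorem gd8 (a : QA) : Gd hg Ws W8 a := by
  refine gd_all (st := st8) (gens := gens8) (bl := bl8) ?_ ?_ (by decide +kernel) (by decide +kernel) (by decide +kernel) a
  · exact ⟨⟨by decide +kernel, Gd.start (a := []) (u47 hg) (by decide +kernel) (by decide +kernel) (by decide +kernel)⟩, ⟨by decide +kernel, Gd.start (a := [4, 5, 4, 6, 7, 6, 11]) (u49 hg) (by decide +kernel) (by decide +kernel) (by decide +kernel)⟩, ⟨by decide +kernel, Gd.start (a := [1, 4, 5, 4, 7, 6, 5, 8, 10, 3, 11, 3, 9]) (u55 hg) (by decide +kernel) (by decide +kernel) (by decide +kernel)⟩, ⟨by decide +kernel, Gd.start (a := [11, 4]) (u64 hg) (by decide +kernel) (by decide +kernel) (by decide +kernel)⟩, ⟨by decide +kernel, Gd.start (a := [6, 5, 7, 9, 11, 3, 4, 11]) (u67 hg) (by decide +kernel) (by decide +kernel) (by decide +kernel)⟩, ⟨by decide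 +kernel, Gd.start (a := [7, 8, 10, 7, 10, 6, 11, 3, 4, 11, 5, 6, 7, 8, 9, 2]) (u69 hg) (by decide +kernel) (by decide +kernel) (by decide +kernel)⟩, ⟨by decide +kernel, Gd.start (a := [4, 6, 10, 7, 10, 6, 11, 3, 4, 11, 5, 4, 6, 5, 7, 8, 10, 3, 11, 10]) (u71 hg) (by decide +kernel) (by decide +kernel) (by decide +kernel)⟩, trivial⟩
  · exact ⟨s8_0 hg, s8_1 hg, s8_2 hg, s8_3 hg, s8_4 hg, trivial⟩

include hg in
theorem sg8 (A : MulAction QA (G ⧸ Cl g 11)) (hA : ∀ (a : QA) (x : G ⧸ Cl g 11), a • x = th hg a • x) :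
    239500800 ≤ 69300 * Nat.card (stabilizer QA (pt g (ev g W8))) := by
  have h := stab_ge hg (W := W8) (ws := gx8) ⟨s8_0 hg, s8_1 hg, s8_2 hg, s8_3 hg, s8_4 hg, (s8_4 hg).inv hg, trivial⟩ (by decide +kernel) (t := tb8) (rw_ := 140) (rm := 1393796574908163946345982392040522594123775) (lets := lt8) (by decide +kernel) (by decide +kernel) (ls := ls8) (by decide +kernel) A hA
  have h1 : (ls8.map fun p => p.2.length).prod = 3456 := by decide +kernel
  rw [h1] at h
  exact Nat.mul_le_mul_left 69300 h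

include hg in
theorem gd9 (a : QA) : Gd hg Ws W9 a := by
  refine gd_all (st := st9) (gens := gens9) (bl := bl9) ?_ ?_ (by decide +kernel) (by decide +kernel) (by decide +kernel) a
  · exact ⟨⟨by decide +kernel, Gd.start (a := []) (u57 hg) (by decide +kernel) (by decide +kernel) (by decide +kernel)⟩, ⟨by decide +kernel, Gd.start (a := [1, 3, 6, 5, 7, 8, 7, 6, 5, 4, 10, 10, 11]) (u59 hg) (by decide +kernel) (by decide +kernel) (by decide +kernel)⟩, ⟨by decide +kernel, Gd.start (a := [1, 3, 5, 7, 6, 8, 7, 6, 5, 4, 10, 10, 11, 3, 4, 11, 5, 6, 7]) (u61 hg) (by decide +kernel) (by decide +kernel) (by decide +kernel)⟩, ⟨by decide +kernel, Gd.start (a := [2, 3, 5, 7, 6, 5, 8, 7, 6, 5, 9, 4, 11, 3, 4, 11, 5, 6, 7, 8, 9, 2]) (u63 hg) (by decide +kernel) (by decide +kernel) (by decide +kernel)⟩, ⟨by decide +kernel, Gd.start (a := [2, 4, 5, 6, 7, 10, 3, 9, 11]) (u65 hg) (by decide +kernel) (by decide +kernel) (by decide +kernel)⟩, ⟨by decide +kernel, Gd.start (a :=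 [2, 3, 11]) (u72 hg) (by decide +kernel) (by decide +kernel) (by decide +kernel)⟩, ⟨by decide +kernel, Gd.start (a := [2, 3, 5, 4, 8, 7, 6, 9, 5, 11, 4, 5]) (u73 hg) (by decide +kernel) (by decide +kernel) (by decide +kernel)⟩, trivial⟩
  · exact ⟨s9_0 hg, s9_1 hg, trivial⟩

include hg in
theorem sg9 (A : MulAction QA (G ⧸ Cl g 11)) (hA : ∀ (a : QA) (x : G ⧸ Cl g 11), a • x = th hg a • x) :
    239500800 ≤ 362880 * Nat.card (stabilizer QA (pt g (ev g W9))) := by
  have h := stab_ge hg (W := W9) (ws := gx9) ⟨s9_0 hg, s9_1 hg, (s9_1 hg).inv hg, trivial⟩ (by decide +kernel) (t := tb9) (rw_ := 80) (rm := 1208925819614629174706175) (lets := lt9) (by decide +kernel) (by decide +kernel) (ls := ls9) (by decide +kernel) A hA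
  have h1 : (ls9.map fun p => p.2.length).prod = 660 := by decide +kernel
  rw [h1] at h
  exact Nat.mul_le_mul_left 362880 h

include hg in
theorem gd10 (a : QA) : Gd hg Ws W10 a := by
  refine gd_all (st := st10) (gens := gens10) (bl := bl10) ?_ ?_ (by decide +kernel) (by decide +kernel) (by decide +kernel) a
  · exact ⟨⟨by decide +kernel, Gd.start (a := []) (u75 hg) (by decide +kernel) (by decide +kernel) (by decide +kernel)⟩, ⟨by decide +kernel, Gd.start (a := [2, 5, 4, 6, 5, 7, 8, 7, 6, 5, 10, 4, 11]) (u77 hg) (by decide +kernel) (by decide +kernel) (by decide +kernel)⟩, ⟨by decide +kernel, Gd.start (a := [2, 10, 3, 11]) (u82 hg) (by decide +kernel) (by decide +kernel) (by decide +kernel)⟩, trivial⟩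
  · exact ⟨s10_0 hg, s10_1 hg, s10_2 hg, s10_3 hg, trivial⟩

include hg in
theorem sg10 (A : MulAction QA (G ⧸ Cl g 11)) (hA : ∀ (a : QA) (x : G ⧸ Cl g 11), a • x = th hg a • x) :
    239500800 ≤ 2520 * Nat.card (stabilizer QA (pt g (ev g W10))) := by
  have h := stab_ge hg (W := W10) (ws := gx10) ⟨s10_0 hg, s10_1 hg, s10_2 hg, s10_3 hg, (s10_1 hg).inv hg, (s10_2 hg).inv hg, trivial⟩ (by decide +kernel) (t := tb10) (rw_ := 140) (rm := 1393796574908163946345982392040522594123775) (lets := lt10) (by decide +kernel) (by decide +kernel) (ls := ls10) (by decide +kernel) A hA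
  have h1 : (ls10.map fun p => p.2.length).prod = 95040 := by decide +kernel
  rw [h1] at h
  exact Nat.mul_le_mul_left 2520 h

include hg in
theorem gd11 (a : QA) : Gd hg Ws W11 a := by
  refine gd_all (st := st11) (gens := gens11) (bl := bl11) ?_ ?_ (by decide +kernel) (by decide +kernel) (by decide +kernel) a
  · exact ⟨⟨by decide +kernel, Gd.start (a := []) (u79 hg) (by decide +kernel) (by decide +kernel) (by decide +kernel)⟩, ⟨by decide +kernel, Gd.start (a := [4, 2, 6, 5, 4, 7, 6, 5, 4, 8, 7, 6, 10, 11]) (u81 hg) (by decide +kernel) (by decide +kernel) (by decide +kernel)⟩, ⟨by decide +kernel, Gd.start (a := [2, 5, 7, 6, 5, 8, 7, 6, 10, 3, 9, 5, 11]) (u83 hg) (by decide +kernel) (by decide +kernel) (by decide +kernel)⟩, trivial⟩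
  · exact ⟨s11_0 hg, s11_1 hg, s11_2 hg, s11_3 hg, trivial⟩

include hg in
theorem sg11 (A : MulAction QA (G ⧸ Cl g 11)) (hA : ∀ (a : QA) (x : G ⧸ Cl g 11), a • x = th hg a • x) :
    239500800 ≤ 2520 * Nat.card (stabilizer QA (pt g (ev g W11))) := by
  have h := stab_ge hg (W := W11) (ws := gx11) ⟨s11_0 hg, s11_1 hg, s11_2 hg, s11_3 hg, (s11_3 hg).inv hg, trivial⟩ (by decide +kernel) (t := tb11) (rw_ := 120) (rm := 1329227995784915872903807060280344575) (lets := lt11) (by decide +kernel) (by decide +kernel) (ls := ls11) (by decide +kernel) A hA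
  have h1 : (ls11.map fun p => p.2.length).prod = 95040 := by decide +kernel
  rw [h1] at h
  exact Nat.mul_le_mul_left 2520 h

include hg in
/-- the double cosets cover the group -/
theorem cover_H (htop : Cl g 13 = ⊤) (x : G) : ∃ W ∈ Ws, ∃ a : QA, x * (ev g W * th hg a)⁻¹ ∈ Cl g 11 := by
  refine cover (hg := hg) (by decide) ?_ htop x
  intro W hW a
  simp only [Ws, List.mem_cons, List.not_mem_nil, or_false] at hW
  rcases hW with rfl | rfl | rfl | rfl | rfl | rfl | rfl | rfl | rfl | rfl | rfl | rfl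
  · exact gd0 hg a
  · exact gd1 hg a
  · exact gd2 hg a
  · exact gd3 hg a
  · exact gd4 hg a
  · exact gd5 hg a
  · exact gd6 hg a
  · exact gd7 hg a
  · exact gd8 hg a
  · exact gd9 hg a
  · exact gd10 hg a
  · exact gd11 hg a

include hg in
/-- **Upper bound for the index.** -/
theorem index_H (htop : Cl g 13 = ⊤) : Finite (G ⧸ Cl g 11) ∧ (Cl g 11).index ≤ 1140000 := by
  have h := index_le hg (Ws := Ws) (cs := [1, 462, 16632, 10395, 30800, 311850, 166320, 166320, 69300, 362880, 2520, 2520]) rfl (by decide) ?_ ?_ htop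
  · exact h
  · intro W hW a
    simp only [Ws, List.mem_cons, List.not_mem_nil, or_false] at hW
    rcases hW with rfl | rfl | rfl | rfl | rfl | rfl | rfl | rfl | rfl | rfl | rfl | rfl
    · exact gd0 hg a
    · exact gd1 hg a
    · exact gd2 hg a
    · exact gd3 hg a
    · exact gd4 hg a
    · exact gd5 hg a
    · exact gd6 hg a
    · exact gd7 hg a
    · exact gd8 hg a
    · exact gd9 hg a
    · exact gd10 hg a
    · exact gd11 hg a
  · intro A hA p hp
    simp only [Ws, List.zip_cons_cons, List.zip_nil_left, List.mem_cons, List.not_mem_nil, or_false] at hp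
    rcases hp with rfl | rfl | rfl | rfl | rfl | rfl | rfl | rfl | rfl | rfl | rfl | rfl
    · exact sg0 hg A hA
    · exact sg1 hg A hA
    · exact sg2 hg A hA
    · exact sg3 hg A hA
    · exact sg4 hg A hA
    · exact sg5 hg A hA
    · exact sg6 hg A hA
    · exact sg7 hg A hA
    · exact sg8 hg A hA
    · exact sg9 hg A hA
    · exact sg10 hg A hA
    · exact sg11 hg A hA

end Cfsg.Agent.HN
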