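import Cfsg.Agent.CosetEnum.Basic

/-! Certificate of a coset enumeration (generated data, owner: helper28). -/

set_option autoImplicit false
set_option maxRecDepth 1000000

namespace Cfsg.Agent.CosetEnum.HNM1

noncomputable def tab : T := .l 0 0xfffffffffff00000000001fffffffffff

def lw : WT := .e

def L : LL := .cons 1 1 (.e) (.e) ( .nil )

def iv : List (Nat × Nat) := []

def RL : List (List Nat × Nat) := []

def subs : List (List Nat) := []

noncomputable def P : Par := ⟨tab, 88, 309485009821345068724781055, 2, icG 1 iv, lw⟩

end Cfsg.Agent.CosetEnum.HNM1
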