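import Cfsg.Agent.CosetEnum.Basic

/-! Certificate of a coset enumeration (generated data, owner: helper28). -/

set_option autoImplicit false
set_option maxRecDepth 1000000

namespace Cfsg.Agent.CosetEnum.HNM3

noncomputable def tab : T := .l 0 0x40000100000300001fffffffffff000000000010000020000000000100000fffffffffff

def lw : WT := .e

def L : LL := .cons 1 1 (.l [3,1,3] []) (.l [] []) ( .cons 2 2 (.l [1,3,2,3] []) (.l [] []) ( .cons 3 3 (.e) (.e) ( .nil )))

def iv : List (Nat × Nat) := []

def RL : List (List Nat × Nat) := [([1, 3], 2), ([1, 2], 2), ([2, 3, 2, 3, 1], 1)]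

def subs : List (List Nat) := [[1], [2]]

noncomputable def P : Par := ⟨tab, 176, 95780971304118053647396689196894323976171195136475135, 2, icG 3 iv, lw⟩

end Cfsg.Agent.CosetEnum.HNM3
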