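import Cfsg.Agent.CosetEnum.Basic

/-! Certificate of a coset enumeration (generated data, owner: helper28). -/

set_option autoImplicit false
set_option maxRecDepth 1000000

namespace Cfsg.Agent.CosetEnum.HNM4

noncomputable def tab : T := .l 0 0x800002000000000010000070000200000600002fffffffffff00000000000000000000020000050000100000400001fffffffffff00000000001000003000000000020000000000100000fffffffffff

def lw : WT := .e

def L : LL := .cons 1 1 (.n 1 (.l [4,1,4] []) (.l [3,1,3] [])) (.l [] []) ( .cons 2 2 (.n 1 (.l [1,4,2,4] []) (.l [1,3,2,3] [])) (.l [] []) ( .cons 3 3 (.e) (.l [] []) ( .cons 4 4 (.l [3,4,3,4,3] []) (.e) ( .nil ))))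

def iv : List (Nat × Nat) := []

def RL : List (List Nat × Nat) := [([3, 4], 3), ([1, 3], 2), ([1, 4], 2), ([1, 2], 2), ([2, 3, 2, 3, 1], 1), ([2, 4, 2, 4, 1], 1)]

def subs : List (List Nat) := [[1], [2], [3]]

noncomputable def P : Par := ⟨tab, 220, 1684996666696914987166688442938726917102321526408785780068975640575, 3, icG 4 iv, lw⟩

end Cfsg.Agent.CosetEnum.HNM4
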