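import Cfsg.Agent.CosetEnum.Basic

/-! Certificate of a coset enumeration (generated data, owner: helper28). -/

set_option autoImplicit false
set_option maxRecDepth 1000000

namespace Cfsg.Agent.CosetEnum.HNM5

noncomputable def tab : T := .l 0 0xb0000300000e000030000000000200000d0000300000c00003fffffffffff00000a0000200000000001000000000030000090000200000800002fffffffffff0000000000000000000002000005000010000070000100000600001fffffffffff0000000000100000400000000003000000000020000000000100000fffffffffff

def lw : WT := .e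

def L : LL := .cons 1 1 (.n 1 (.l [5,1,5] []) (.n 2 (.l [4,1,4] []) (.l [3,1,3] []))) (.l [] []) ( .cons 2 2 (.n 1 (.l [1,5,2,5] []) (.n 2 (.l [1,4,2,4] []) (.l [1,3,2,3] []))) (.l [] []) ( .cons 3 3 (.l [5,3,5] []) (.l [] []) ( .cons 4 4 (.l [3,4,3,4,3] []) (.l [] []) ( .cons 5 5 (.n 1 (.l [4,5,4,5,4] []) (.l [3,5,3] [])) (.e) ( .nil )))))

def iv : List (Nat × Nat) := []

def RL : List (List Nat × Nat) := [([3, 4], 3), ([3, 5], 2), ([4, 5], 3), ([1, 3], 2), ([1, 4], 2), ([1, 5], 2), ([1, 2], 2), ([2, 3, 2, 3, 1], 1), ([2, 4, 2, 4, 1], 1), ([2, 5, 2, 5, 1], 1)]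

def subs : List (List Nat) := [[1], [2], [3], [4]]

noncomputable def P : Par := ⟨tab, 264, 29642774844752946028434172162224104410437116074403984394101141506025761187823615, 4, icG 5 iv, lw⟩

end Cfsg.Agent.CosetEnum.HNM5
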