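import Cfsg.Agent.CosetEnum.Basic

/-! Certificate of a coset enumeration (generated data, owner: helper28). -/

set_option autoImplicit false
set_option maxRecDepth 1000000

namespace Cfsg.Agent.CosetEnum.HNM6

noncomputable def tab : T := .l 0 0x13000040000120000400001600004000000000030000150000400001400004fffffffffff00000e000030000110000300000000002000000000040000100000300000f00003fffffffffff00000d00002000000000010000000000300000a0000200000c0000200000b00002fffffffffff000000000000000000000200000700001000006000010000090000100000800001fffffffffff000000000010000050000000000400000000003000000000020000000000100000fffffffffff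

def lw : WT := .e

def L : LL := .cons 1 1 (.n 2 (.n 1 (.l [6,1,6] []) (.l [5,1,5] [])) (.n 3 (.l [4,1,4] []) (.l [3,1,3] []))) (.l [] []) ( .cons 2 2 (.n 2 (.n 1 (.l [1,6,2,6] []) (.l [1,5,2,5] [])) (.n 3 (.l [1,4,2,4] []) (.l [1,3,2,3] []))) (.l [] []) ( .cons 3 3 (.n 1 (.l [6,3,6] []) (.l [5,3,5] [])) (.l [] []) ( .cons 4 4 (.n 1 (.l [6,4,6] []) (.l [3,4,3,4,3] [])) (.l [] []) ( .cons 5 5 (.n 1 (.l [4,5,4,5,4] []) (.l [3,5,3] [])) (.l [] []) ( .cons 6 6 (.n 1 (.l [5,6,5,6,5] []) (.n 2 (.l [4,6,4] []) (.l [3,6,3] []))) (.e) ( .nil ))))))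

def iv : List (Nat × Nat) := []

def RL : List (List Nat × Nat) := [([3, 4], 3), ([3, 5], 2), ([3, 6], 2), ([4, 5], 3), ([4, 6], 2), ([5, 6], 3), ([1, 3], 2), ([1, 4], 2), ([1, 5], 2), ([1, 6], 2), ([1, 2], 2), ([2, 3, 2, 3, 1], 1), ([2, 4, 2, 4, 1], 1), ([2, 5, 2, 5, 1], 1), ([2, 6, 2, 6, 1], 1)]

def subs : List (List Nat) := [[1], [2], [3], [4], [5]]

noncomputable def P : Par := ⟨tab, 308, 521481209941628438084722096232800809229175908778479680162851955034721612739414196782949728255, 5, icG 6 iv, lw⟩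

end Cfsg.Agent.CosetEnum.HNM6
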