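import Cfsg.Agent.CosetEnum.Basic

/-! Certificate of a coset enumeration (generated data, owner: helper28). -/

set_option autoImplicit false
set_option maxRecDepth 1000000

namespace Cfsg.Agent.CosetEnum.HNM7

noncomputable def tab : T := .l 0 0x1d0000500001c0000500001b00005000020000050000000000400001f0000500001e00005fffffffffff000017000040000160000400001a0000400000000003000000000050000190000400001800004fffffffffff00001200003000015000030000000000200000000004000011000030000140000300001300003fffffffffff00001000002000000000010000000000300000d0000200000c0000200000f0000200000e00002fffffffffff000000000000000000000200000900001000008000010000070000100000b0000100000a00001fffffffffff00000000001000006000000000050000000000400000000003000000000020000000000100000fffffffffff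

def lw : WT := .e

def L : LL := .cons 1 1 (.n 2 (.n 1 (.l [7,1,7] []) (.l [6,1,6] [])) (.n 3 (.l [5,1,5] []) (.n 4 (.l [4,1,4] []) (.l [3,1,3] [])))) (.l [] []) ( .cons 2 2 (.n 2 (.n 1 (.l [1,7,2,7] []) (.l [1,6,2,6] [])) (.n 3 (.l [1,5,2,5] []) (.n 4 (.l [1,4,2,4] []) (.l [1,3,2,3] [])))) (.l [] []) ( .cons 3 3 (.n 1 (.l [7,3,7] []) (.n 2 (.l [6,3,6] []) (.l [5,3,5] []))) (.l [] []) ( .cons 4 4 (.n 1 (.l [7,4,7] []) (.n 2 (.l [6,4,6] []) (.l [3,4,3,4,3] []))) (.l [] []) ( .cons 5 5 (.n 1 (.l [7,5,7] []) (.n 2 (.l [4,5,4,5,4] []) (.l [3,5,3] []))) (.l [] []) ( .cons 6 6 (.n 1 (.l [5,6,5,6,5] []) (.n 2 (.l [4,6,4] []) (.l [3,6,3] []))) (.l [] []) ( .cons 7 7 (.n 2 (.n 1 (.l [6,7,6,7,6] []) (.l [5,7,5] [])) (.n 3 (.l [4,7,4] []) (.l [3,7,3] []))) (.e) ( .nil )))))))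

def iv : List (Nat × Nat) := []

def RL : List (List Nat × Nat) := [([3, 4], 3), ([3, 5], 2), ([3, 6], 2), ([3, 7], 2), ([4, 5], 3), ([4, 6], 2), ([4, 7], 2), ([5, 6], 3), ([5, 7], 2), ([6, 7], 3), ([1, 3], 2), ([1, 4], 2), ([1, 5], 2), ([1, 6], 2), ([1, 7], 2), ([1, 2], 2), ([2, 3, 2, 3, 1], 1), ([2, 4, 2, 4, 1], 1), ([2, 5, 2, 5, 1], 1), ([2, 6, 2, 6, 1], 1), ([2, 7, 2, 7, 1], 1)]

def subs : List (List Nat) := [[1], [2], [3], [4], [5], [6]]

noncomputable def P : Par := ⟨tab, 352, 9173994463960286046443283581208347763186259956673124494950355357547691504353939232280074212440502746218495, 6, icG 7 iv, lw⟩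

end Cfsg.Agent.CosetEnum.HNM7
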