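import Cfsg.Agent.CosetEnum.Basic

/-! Certificate of a coset enumeration (generated data, owner: helper28). -/

set_option autoImplicit false
set_option maxRecDepth 1000000

namespace Cfsg.Agent.CosetEnum.HNM8

noncomputable def tab : T := .l 0 0x290000600002800006000027000060000260000600002c000060000000000500002b0000600002a00006fffffffffff0000220000500002100005000020000050000250000500000000004000000000060000240000500002300005fffffffffff00001c0000400001b0000400001f00004000000000030000000000500001a0000400001e0000400001d00004fffffffffff0000160000300001900003000000000020000000000400001500003000014000030000180000300001700003fffffffffff0000130000200000000001000000000030000100000200000f0000200000e000020000120000200001100002fffffffffff000000000000000000000200000b0000100000a00001000009000010000080000100000d0000100000c00001fffffffffff0000000000100000700000000006000000000050000000000400000000003000000000020000000000100000fffffffffff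

def lw : WT := .e

def L : LL := .cons 1 1 (.n 3 (.n 1 (.l [8,1,8] []) (.n 2 (.l [7,1,7] []) (.l [6,1,6] []))) (.n 4 (.l [5,1,5] []) (.n 5 (.l [4,1,4] []) (.l [3,1,3] [])))) (.l [] []) ( .cons 2 2 (.n 3 (.n 1 (.l [1,8,2,8] []) (.n 2 (.l [1,7,2,7] []) (.l [1,6,2,6] []))) (.n 4 (.l [1,5,2,5] []) (.n 5 (.l [1,4,2,4] []) (.l [1,3,2,3] [])))) (.l [] []) ( .cons 3 3 (.n 2 (.n 1 (.l [8,3,8] []) (.l [7,3,7] [])) (.n 3 (.l [6,3,6] []) (.l [5,3,5] []))) (.l [] []) ( .cons 4 4 (.n 2 (.n 1 (.l [8,4,8] []) (.l [7,4,7] [])) (.n 3 (.l [6,4,6] []) (.l [3,4,3,4,3] []))) (.l [] []) ( .cons 5 5 (.n 2 (.n 1 (.l [8,5,8] []) (.l [7,5,7] [])) (.n 3 (.l [4,5,4,5,4] []) (.l [3,5,3] []))) (.l [] []) ( .cons 6 6 (.n 2 (.n 1 (.l [8,6,8] []) (.l [5,6,5,6,5] [])) (.n 3 (.l [4,6,4] []) (.l [3,6,3] []))) (.l [] []) ( .cons 7 7 (.n 2 (.n 1 (.l [6,7,6,7,6] []) (.l [5,7,5] [])) (.n 3 (.l [4,7,4] []) (.l [3,7,3] []))) (.l [] []) ( .cons 8 8 (.n 2 (.n 1 (.l [7,8,7,8,7] []) (.l [6,8,6]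 [])) (.n 3 (.l [5,8,5] []) (.n 4 (.l [4,8,4] []) (.l [3,8,3] [])))) (.e) ( .nil ))))))))

def iv : List (Nat × Nat) := []

def RL : List (List Nat × Nat) := [([3, 4], 3), ([3, 5], 2), ([3, 6], 2), ([3, 7], 2), ([3, 8], 2), ([4, 5], 3), ([4, 6], 2), ([4, 7], 2), ([4, 8], 2), ([5, 6], 3), ([5, 7], 2), ([5, 8], 2), ([6, 7], 3), ([6, 8], 2), ([7, 8], 3), ([1, 3], 2), ([1, 4], 2), ([1, 5], 2), ([1, 6], 2), ([1, 7], 2), ([1, 8], 2), ([1, 2], 2), ([2, 3, 2, 3, 1], 1), ([2, 4, 2, 4, 1], 1), ([2, 5, 2, 5, 1], 1), ([2, 6, 2, 6, 1], 1), ([2, 7, 2, 7, 1], 1), ([2, 8, 2, 8, 1], 1)]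

def subs : List (List Nat) := [[1], [2], [3], [4], [5], [6], [7]]

noncomputable def P : Par := ⟨tab, 396, 161390617380431786853494948250188242145606612051826469551916209783790476376052574664352834580008614464743948248296718335, 7, icG 8 iv, lw⟩

end Cfsg.Agent.CosetEnum.HNM8
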