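import Cfsg.Agent.CosetEnum.Basic

/-! Certificate of a coset enumeration (generated data, owner: helper28). -/

set_option autoImplicit false
set_option maxRecDepth 1000000

namespace Cfsg.Agent.CosetEnum.HNM9

noncomputable def tab : T := .l 0 0x37000070000360000700003500007000034000070000330000700003a00007000000000060000390000700003800007fffffffffff00002f0000600002e0000600002d0000600002c000060000320000600000000005000000000070000310000600003000006fffffffffff00002800005000027000050000260000500002b0000500000000004000000000060000250000500002a0000500002900005fffffffffff000021000040000200000400002400004000000000030000000000500001f0000400001e000040000230000400002200004fffffffffff00001a0000300001d00003000000000020000000000400001900003000018000030000170000300001c0000300001b00003fffffffffff000016000020000000000100000000003000013000020000120000200001100002000010000020000150000200001400002fffffffffff000000000000000000000200000d0000100000c0000100000b0000100000a000010000090000100000f0000100000e00001fffffffffff000000000010000080000000000700000000006000000000050000000000400000000003000000000020000000000100000fffffffffff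

def lw : WT := .e

def L : LL := .cons 1 1 (.n 3 (.n 1 (.l [9,1,9] []) (.n 2 (.l [8,1,8] []) (.l [7,1,7] []))) (.n 5 (.n 4 (.l [6,1,6] []) (.l [5,1,5] [])) (.n 6 (.l [4,1,4] []) (.l [3,1,3] [])))) (.l [] []) ( .cons 2 2 (.n 3 (.n 1 (.l [1,9,2,9] []) (.n 2 (.l [1,8,2,8] []) (.l [1,7,2,7] []))) (.n 5 (.n 4 (.l [1,6,2,6] []) (.l [1,5,2,5] [])) (.n 6 (.l [1,4,2,4] []) (.l [1,3,2,3] [])))) (.l [] []) ( .cons 3 3 (.n 2 (.n 1 (.l [9,3,9] []) (.l [8,3,8] [])) (.n 3 (.l [7,3,7] []) (.n 4 (.l [6,3,6] []) (.l [5,3,5] [])))) (.l [] []) ( .cons 4 4 (.n 2 (.n 1 (.l [9,4,9] []) (.l [8,4,8] [])) (.n 3 (.l [7,4,7] []) (.n 4 (.l [6,4,6] []) (.l [3,4,3,4,3] [])))) (.l [] []) ( .cons 5 5 (.n 2 (.n 1 (.l [9,5,9] []) (.l [8,5,8] [])) (.n 3 (.l [7,5,7] []) (.n 4 (.l [4,5,4,5,4] []) (.l [3,5,3] [])))) (.l [] []) ( .cons 6 6 (.n 2 (.n 1 (.l [9,6,9] []) (.l [8,6,8] [])) (.n 3 (.l [5,6,5,6,5] []) (.n 4 (.l [4,6,4] []) (.l [3,6,3] [])))) (.l [] []) ( .cons 7 7 (.n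 2 (.n 1 (.l [9,7,9] []) (.l [6,7,6,7,6] [])) (.n 3 (.l [5,7,5] []) (.n 4 (.l [4,7,4] []) (.l [3,7,3] [])))) (.l [] []) ( .cons 8 8 (.n 2 (.n 1 (.l [7,8,7,8,7] []) (.l [6,8,6] [])) (.n 3 (.l [5,8,5] []) (.n 4 (.l [4,8,4] []) (.l [3,8,3] [])))) (.l [] []) ( .cons 9 9 (.n 3 (.n 1 (.l [8,9,8,9,8] []) (.n 2 (.l [7,9,7] []) (.l [6,9,6] []))) (.n 4 (.l [5,9,5] []) (.n 5 (.l [4,9,4] []) (.l [3,9,3] [])))) (.e) ( .nil )))))))))

def iv : List (Nat × Nat) := []

def RL : List (List Nat × Nat) := [([3, 4], 3), ([3, 5], 2), ([3, 6], 2), ([3, 7], 2), ([3, 8], 2), ([3, 9], 2), ([4, 5], 3), ([4, 6], 2), ([4, 7], 2), ([4, 8], 2), ([4, 9], 2), ([5, 6], 3), ([5, 7], 2), ([5, 8], 2), ([5, 9], 2), ([6, 7], 3), ([6, 8], 2), ([6, 9], 2), ([7, 8], 3), ([7, 9], 2), ([8, 9], 3), ([1, 3], 2), ([1, 4], 2), ([1, 5], 2), ([1, 6], 2), ([1, 7], 2), ([1, 8], 2), ([1, 9], 2), ([1, 2], 2), ([2, 3, 2, 3, 1], 1), ([2, 4, 2, 4, 1], 1), ([2, 5, 2, 5, 1], 1), ([2, 6, 2, 6,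 1], 1), ([2, 7, 2, 7, 1], 1), ([2, 8, 2, 8, 1], 1), ([2, 9, 2, 9, 1], 1)]

def subs : List (List Nat) := [[1], [2], [3], [4], [5], [6], [7], [8]]

noncomputable def P : Par := ⟨tab, 440, 2839213766779714416208296124562517712318911565184836172974571090549372219192960637992933791850638927971728600024477257552869537611775, 8, icG 9 iv, lw⟩

end Cfsg.Agent.CosetEnum.HNM9
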