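import Cfsg.Agent.CosetEnum.Cox
import Cfsg.Agent.CosetEnum.HN.Rels
import Cfsg.Prelude.Def_Spor_HN

/-!
The presented Harada-Norton group with letters (owner: helper66).

Letters: 1 x, 2 X, 3 y, 4 Y, 5 z, 6 t, 7 T, 8 h, 9 H, 10 u, 11 U (capitals are inverses).
-/

set_option autoImplicit false
set_option maxRecDepth 1000000
set_option linter.all false
set_option linter.unusedSimpArgs false

namespace Cfsg.Agent.HN

open Cfsg.Agent.CosetEnum Cfsg.Spor Cfsg.Spor.HN

/-- mutually inverse letters -/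
def ivR : List (ℕ × ℕ) := [(1, 2), (3, 4), (6, 7), (8, 9), (10, 11)]

/-- relations -/
def RLR : List (List ℕ × ℕ) := [([3], 6), ([1, 1, 3, 1, 1, 4], 1), ([2, 4, 1, 3], 3), ([2, 3, 3, 1, 3, 3, 3], 3),
  ([1, 3], 8), ([1, 3, 1, 3, 3, 3], 4), ([5, 1], 2), ([5, 9, 5, 8, 2, 2], 1),
  ([5, 4, 2, 4, 2, 4, 4, 4, 5, 3, 3, 3, 1, 3, 1, 3, 1, 4, 2, 4, 2, 4, 4, 4, 5, 3, 3, 3, 1, 3, 1, 3, 1,
    4, 2, 4, 2, 4, 4, 4, 5, 3, 3, 3, 1, 3, 1, 3, 1], 1), ([6], 5), ([2, 6, 1, 6, 6], 1), ([7, 4, 6, 3], 1), ([5, 6], 3),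
  ([9, 3, 1, 3, 1, 3, 3, 1, 4], 1), ([11, 3, 3, 1, 3, 1, 4, 1, 4, 1, 4, 1, 3, 2], 1)]

/-- letters of the generators -/
def vR : Gen → ℕ
  | .x => 1 | .y => 3 | .z => 5 | .t => 6

/-- the letters -/
def gR : ℕ → Spor.HN
  | 1 => PresentedGroup.of .x
  | 2 => (PresentedGroup.of .x)⁻¹
  | 3 => PresentedGroup.of .y
  | 4 => (PresentedGroup.of .y)⁻¹
  | 5 => PresentedGroup.of .z
  | 6 => PresentedGroup.of .t
  | 7 => (PresentedGroup.of .t)⁻¹
  | 8 => PresentedGroup.of .y * PresentedGroup.of .x * PresentedGroup.of .y * PresentedGroup.of .x *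
      PresentedGroup.of .y * PresentedGroup.of .y * PresentedGroup.of .x * (PresentedGroup.of .y)⁻¹
  | 9 => (PresentedGroup.of .y * PresentedGroup.of .x * PresentedGroup.of .y * PresentedGroup.of .x *
      PresentedGroup.of .y * PresentedGroup.of .y * PresentedGroup.of .x * (PresentedGroup.of .y)⁻¹)⁻¹
  | 10 => PresentedGroup.of .y * PresentedGroup.of .y * PresentedGroup.of .x * PresentedGroup.of .y *
      PresentedGroup.of .x * (PresentedGroup.of .y)⁻¹ * PresentedGroup.of .x * (PresentedGroup.of .y)⁻¹ *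
      PresentedGroup.of .x * (PresentedGroup.of .y)⁻¹ * PresentedGroup.of .x * PresentedGroup.of .y *
      (PresentedGroup.of .x)⁻¹
  | 11 => (PresentedGroup.of .y * PresentedGroup.of .y * PresentedGroup.of .x * PresentedGroup.of .y *
      PresentedGroup.of .x * (PresentedGroup.of .y)⁻¹ * PresentedGroup.of .x * (PresentedGroup.of .y)⁻¹ *
      PresentedGroup.of .x * (PresentedGroup.of .y)⁻¹ * PresentedGroup.of .x * PresentedGroup.of .y *
      (PresentedGroup.of .x)⁻¹)⁻¹
  | _ => 1

theorem gR_v (a : Gen) : gR (vR a) = PresentedGroup.of a := by cases a <;> rfl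

theorem raw {r : FreeGroup Gen} (hr : r ∈ extra) :
    FreeGroup.lift (PresentedGroup.of (rels := coxRelators edges ∪ {r | r ∈ extra})) r = 1 := ex_rel hr

theorem z_sq : (PresentedGroup.of .z : Spor.HN) = (PresentedGroup.of .z)⁻¹ := by
  have h := raw (r := z ^ 2) (by unfold extra; simp only [List.mem_cons, true_or, or_true])
  rw [map_pow, FreeGroup.lift_apply_of, pow_two] at h
  exact eq_inv_of_mul_eq_one_left h

theorem gR_good : Good gR 11 ivR RLR where
  inv x := by
    match x with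
    | 0 => exact inv_one.symm
    | 1 => rfl
    | 2 => exact (inv_inv _).symm
    | 3 => rfl
    | 4 => exact (inv_inv _).symm
    | 5 => exact z_sq
    | 6 => rfl
    | 7 => exact (inv_inv _).symm
    | 8 => rfl
    | 9 => exact (inv_inv _).symm
    | 10 => rfl
    | 11 => exact (inv_inv _).symm
    | (n + 12) =>
      have : ivL ivR (n + 12) = n + 12 := by simp [ivL, ivR]
      rw [this]
      exact inv_one.symm
  one x hx := by
    match x with
    | 0 => rfl
    | 1 => exact absurd hx (by decide)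
    | 2 => exact absurd hx (by decide)
    | 3 => exact absurd hx (by decide)
    | 4 => exact absurd hx (by decide)
    | 5 => exact absurd hx (by decide)
    | 6 => exact absurd hx (by decide)
    | 7 => exact absurd hx (by decide)
    | 8 => exact absurd hx (by decide)
    | 9 => exact absurd hx (by decide)
    | 10 => exact absurd hx (by decide)
    | 11 => exact absurd hx (by decide)
    | (n + 12) => rfl
  rel := by
    intro p hp
    have h1 := raw (r := y ^ 6) (by unfold extra; simp only [List.mem_cons, true_or, or_true])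
    have h2 := raw (r := (x ^ 2) * y * (x ^ 2) * (y⁻¹)) (by unfold extra; simp only [List.mem_cons, true_or, or_true])
    have h3 := raw (r := (x⁻¹ * y⁻¹ * x * y) ^ 3) (by unfold extra; simp only [List.mem_cons, true_or, or_true])
    have h4 := raw (r := ((x⁻¹) * (y ^ 2) * x * (y ^ 3)) ^ 3)
      (by unfold extra; simp only [List.mem_cons, true_or, or_true])
    have h5 := raw (r := (x * y) ^ 8) (by unfold extra; simp only [List.mem_cons, true_or, or_true])
    have h6 := raw (r := (x * y * x * (y ^ 3)) ^ 4) (by unfold extra; simp only [List.mem_cons, true_or, or_true])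
    have h7 := raw (r := (z * x) ^ 2) (by unfold extra; simp only [List.mem_cons, true_or, or_true])
    have h8 := raw (r := (z⁻¹ * (y * x * y * x * (y ^ 2) * x * (y⁻¹))⁻¹ * z * (y * x * y * x * (y ^ 2) * x * (y⁻¹))) *
      ((x ^ 2)⁻¹)) (by unfold extra; simp only [List.mem_cons, true_or, or_true])
    have h9 := raw (r := z * (((((y ^ 3) * x * y * x * y)⁻¹ * z * ((y ^ 3) * x * y * x * y)) * x) ^ 3))
      (by unfold extra; simp only [List.mem_cons, true_or, or_true])
    have h10 := raw (r := t ^ 5) (by unfold extra; simp only [List.mem_cons, true_or, or_true])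
    have h11 := raw (r := (x⁻¹ * t * x) * (t ^ 2)) (by unfold extra; simp only [List.mem_cons, true_or, or_true])
    have h12 := raw (r := t⁻¹ * y⁻¹ * t * y) (by unfold extra; simp only [List.mem_cons, true_or, or_true])
    have h13 := raw (r := (z * t) ^ 3) (by unfold extra; simp only [List.mem_cons, true_or, or_true])
    simp only [map_mul, map_pow, map_inv, FreeGroup.lift_apply_of] at h1 h2 h3 h4 h5 h6 h7 h8 h9 h10 h11 h12 h13
    have hz := z_sq
    set X : Spor.HN := PresentedGroup.of .x with hX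
    set Y : Spor.HN := PresentedGroup.of .y with hY
    set Z : Spor.HN := PresentedGroup.of .z with hZ
    set T : Spor.HN := PresentedGroup.of .t with hT
    have g1 : gR 1 = X := rfl
    have g2 : gR 2 = X⁻¹ := rfl
    have g3 : gR 3 = Y := rfl
    have g4 : gR 4 = Y⁻¹ := rfl
    have g5 : gR 5 = Z := rfl
    have g6 : gR 6 = T := rfl
    have g7 : gR 7 = T⁻¹ := rfl
    have g8 : gR 8 = Y * X * Y * X * Y * Y * X * Y⁻¹ := rfl
    have g9 : gR 9 = (Y * X * Y * X * Y * Y * X * Y⁻¹)⁻¹ := rfl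
    have g10 : gR 10 = Y * Y * X * Y * X * Y⁻¹ * X * Y⁻¹ * X * Y⁻¹ * X * Y * X⁻¹ := rfl
    have g11 : gR 11 = (Y * Y * X * Y * X * Y⁻¹ * X * Y⁻¹ * X * Y⁻¹ * X * Y * X⁻¹)⁻¹ := rfl
    simp only [RLR, List.mem_cons, List.not_mem_nil, or_false] at hp
    have key : ∀ {a b : Spor.HN} {n : ℕ}, a = b → b ^ n = 1 → a ^ n = 1 := fun h h' => by rw [h, h']
    rcases hp with rfl | rfl | rfl | rfl | rfl | rfl | rfl | rfl | rfl | rfl | rfl | rfl | rfl | rfl | rfl <;>
      simp only [List.map_cons, List.map_nil, List.prod_cons, List.prod_nil, mul_one, g1, g2, g3, g4, g5, g6, g7, g8, g9,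
        g10, g11]
    · exact h1
    · rw [pow_one, ← h2]; simp only [pow_succ, pow_zero, one_mul, mul_inv_rev, inv_inv, mul_assoc]
    · exact key (by simp only [pow_succ, pow_zero, one_mul, mul_inv_rev, inv_inv, mul_assoc]) h3
    · exact key (by simp only [pow_succ, pow_zero, one_mul, mul_inv_rev, inv_inv, mul_assoc]) h4
    · exact h5
    · exact key (by simp only [pow_succ, pow_zero, one_mul, mul_inv_rev, inv_inv, mul_assoc]) h6
    · exact h7
    · rw [pow_one, ← h8, ← hz]; simp only [pow_succ, pow_zero, one_mul, mul_inv_rev, inv_inv, mul_assoc]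
    · rw [pow_one, ← h9]
      generalize Z = W
      simp only [pow_succ, pow_zero, one_mul, mul_inv_rev, mul_assoc]
    · exact h10
    · rw [pow_one, ← h11]; simp only [pow_succ, pow_zero, one_mul, mul_inv_rev, inv_inv, mul_assoc]
    · rw [pow_one, ← h12]; simp only [pow_succ, pow_zero, one_mul, mul_inv_rev, inv_inv, mul_assoc]
    · exact h13
    · group
    · group

theorem gR_univ : Univ gR 11 ivR RLR := by
  refine univ_cox gR_v gR_good (by decide +kernel) ?_
  intro H _ h hh
  have e2 : h 2 = (h 1)⁻¹ := hh.inv 1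
  have e4 : h 4 = (h 3)⁻¹ := hh.inv 3
  have e5 : h 5 = (h 5)⁻¹ := hh.inv 5
  have e7 : h 7 = (h 6)⁻¹ := hh.inv 6
  have e9 : h 9 = (h 8)⁻¹ := hh.inv 8
  have e11 : h 11 = (h 10)⁻¹ := hh.inv 10
  have r : ∀ p ∈ RLR, ((p.1.map h).prod) ^ p.2 = 1 := hh.rel
  simp only [RLR, List.forall_mem_cons, List.map_cons, List.map_nil, List.prod_cons, List.prod_nil, mul_one, e2, e4, e7, e9,
    e11, pow_one] at r
  obtain ⟨r1, r2, r3, r4, r5, r6, r7, r8, r9, r10, r11, r12, r13, r14, r15, _⟩ := r
  have e8 : h 8 = h 3 * h 1 * h 3 * h 1 * h 3 * h 3 * h 1 * (h 3)⁻¹ := by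
    rw [inv_mul_eq_one] at r14
    rw [r14]; simp only [pow_succ, pow_zero, one_mul, mul_inv_rev, inv_inv, mul_assoc]
  have e10 : h 10 = h 3 * h 3 * h 1 * h 3 * h 1 * (h 3)⁻¹ * h 1 * (h 3)⁻¹ * h 1 * (h 3)⁻¹ * h 1 * h 3 * (h 1)⁻¹ := by
    rw [inv_mul_eq_one] at r15
    rw [r15]; simp only [pow_succ, pow_zero, one_mul, mul_inv_rev, inv_inv, mul_assoc]
  have key : ∀ {a b : H} {n : ℕ}, a = b → b ^ n = 1 → a ^ n = 1 := fun h h' => by rw [h, h']
  constructor
  · intro r hr
    simp only [extra, List.mem_cons, List.not_mem_nil, or_false] at hr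
    rcases hr with rfl | rfl | rfl | rfl | rfl | rfl | rfl | rfl | rfl | rfl | rfl | rfl | rfl | rfl <;>
      simp only [map_mul, map_pow, map_inv, FreeGroup.lift_apply_of, vR]
    · exact r1
    · rw [← r2]; simp only [pow_succ, pow_zero, one_mul, mul_inv_rev, inv_inv, mul_assoc]
    · exact key (by simp only [pow_succ, pow_zero, one_mul, mul_inv_rev, inv_inv, mul_assoc]) r3
    · exact key (by simp only [pow_succ, pow_zero, one_mul, mul_inv_rev, inv_inv, mul_assoc]) r4
    · exact r5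
    · exact key (by simp only [pow_succ, pow_zero, one_mul, mul_inv_rev, inv_inv, mul_assoc]) r6
    · rw [pow_two]
      nth_rewrite 1 [e5]
      exact inv_mul_cancel _
    · exact r7
    · rw [← e5]
      have h1 : h 3 * h 1 * h 3 * h 1 * h 3 ^ 2 * h 1 * (h 3)⁻¹ = h 8 := by rw [e8]; simp only [pow_succ, pow_zero, one_mul, mul_inv_rev, inv_inv, mul_assoc]
      rw [h1, ← r8]; simp only [pow_succ, pow_zero, one_mul, mul_inv_rev, inv_inv, mul_assoc]
    · rw [← r9]
      generalize h 5 = W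
      simp only [pow_succ, pow_zero, one_mul, mul_inv_rev, mul_assoc]
    · exact r10
    · rw [← r11]; simp only [pow_succ, pow_zero, one_mul, mul_inv_rev, inv_inv, mul_assoc]
    · rw [← r12]; simp only [pow_succ, pow_zero, one_mul, mul_inv_rev, inv_inv, mul_assoc]
    · exact r13
  · intro φ hφ x
    have f1 : φ (gR 1) = h 1 := hφ .x
    have f3 : φ (gR 3) = h 3 := hφ .y
    have f5 : φ (gR 5) = h 5 := hφ .z
    have f6 : φ (gR 6) = h 6 := hφ .t
    have f8 : φ (gR 8) = h 8 := by
      have : gR 8 = gR 3 * gR 1 * gR 3 * gR 1 * gR 3 * gR 3 * gR 1 * (gR 3)⁻¹ := rfl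
      rw [this, e8]
      simp only [map_mul, map_inv, f1, f3]
    have f10 : φ (gR 10) = h 10 := by
      have : gR 10 = gR 3 * gR 3 * gR 1 * gR 3 * gR 1 * (gR 3)⁻¹ * gR 1 * (gR 3)⁻¹ * gR 1 * (gR 3)⁻¹ * gR 1 * gR 3 *
        (gR 1)⁻¹ := rfl
      rw [this, e10]
      simp only [map_mul, map_inv, f1, f3]
    match x with
    | 0 => rw [hh.one 0 rfl]; exact map_one φ
    | 1 => exact f1
    | 2 => rw [e2, ← f1]; exact map_inv φ _
    | 3 => exact f3
    | 4 => rw [e4, ← f3]; exact map_inv φ _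
    | 5 => exact f5
    | 6 => exact f6
    | 7 => rw [e7, ← f6]; exact map_inv φ _
    | 8 => exact f8
    | 9 => rw [e9, ← f8]; exact map_inv φ _
    | 10 => exact f10
    | 11 => rw [e11, ← f10]; exact map_inv φ _
    | (n + 12) =>
      rw [hh.one (n + 12) (isLet_false (by omega))]
      exact map_one φ

end Cfsg.Agent.HN
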