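import Cfsg.Agent.KMat.PGrp
import Cfsg.Agent.CosetEnum.HN.Raw
import Cfsg.Agent.CosetEnum.HN.MatD0
import Cfsg.Agent.CosetEnum.HN.MatD1
import Cfsg.Agent.CosetEnum.HN.MatD2
import Cfsg.Agent.CosetEnum.HN.MatD3
import Cfsg.Agent.CosetEnum.HN.MatD4

/-!
The matrices of degree 133 over the field of order 5 (owner: helper66).

Letters: 1 x, 2 X, 3 y, 4 Y, 5 z, 6 t, 7 T, 8 h, 9 H, 10 u, 11 U, 12 v, 13 s, 14 r7, 15 r8, 16 r9, 17 rp, 18 rq, 19 r6
-/

set_option autoImplicit false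
set_option maxRecDepth 1000000

namespace Cfsg.Agent.HN

open Cfsg.Agent.CosetEnum Cfsg.Agent.KMat

/-- parameters -/
noncomputable def PM : Pm := pmP 133 12 5 3 3277 14 67

/-- the matrices -/
noncomputable def ms : ℕ → ℕ := selM [0, mt1, mt2, mt3, mt4, mt5, mt6, mt7, mt8, mt9, mt10, mt11, mt12, mt13, mt14, mt15, mt16, mt17, mt18, mt19, mt20, mt21, mt22, mt23, mt24, mt25, mt26, mt27, mt28, mt29, mt30, mt31, mt32, mt33, mt34, mt35, mt36, mt37, mt38, mt39, mt40, mt41, mt42, mt43, mt44, mt45, mt46, mt47, mt48, mt49, mt50]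

/-- the relations of the 19 letters -/
def RLM : List (List ℕ × ℕ) := RLR ++ [([12, 1, 1], 1), ([13, 11, 5, 10], 1), ([14, 8, 1, 9, 5], 1), ([15, 9, 9, 9, 1, 8, 8, 8, 5], 1), ([16, 9, 9, 9, 9, 9, 9, 1, 8, 8, 8, 8, 8, 8, 5], 1), ([17, 8, 8, 1, 9, 9, 5], 1), ([18, 9, 1, 8, 5], 1), ([19, 8, 8, 8, 8, 1, 9, 9, 9, 9, 5], 1)]

/-- the 19 letters -/
def letsM : List ℕ := [1, 2, 3, 4, 5, 6, 7, 8, 9, 10, 11, 12, 13, 14, 15, 16, 17, 18, 19]

theorem stM : letsB 19 ivR letsM RLM = true := by decide +kernel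

theorem PM_ok : PM.OK := by
  refine pmP_ok (by norm_num) (by norm_num) (by norm_num) (by norm_num) (by norm_num) (by norm_num) (by norm_num) (by norm_num) ?_
  have h : ∀ x : Fin (2 ^ 12), 3277 * x.1 < 2 ^ (2 * 12) ∧ 3277 * x.1 / 2 ^ 14 = x.1 / 5 := by decide +kernel
  exact fun x hx => h ⟨x, hx⟩

/-- all matrices are valid -/
theorem mokA : matB PM ms (List.range' 1 50) = true := by decide +kernel

/-- pairs of words to be tested -/
def prsM : List (List ℕ × List ℕ) := (letsM.map fun x => ([x, ivL ivR x], [])) ++ RLM.map fun p => (expand p, [])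

end Cfsg.Agent.HN
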