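import Cfsg.Agent.CosetEnum.HN.Ub
import Cfsg.Agent.CosetEnum.HN.Rels

/-!
The group of `x`, `y`, `z` modulo the square of `x` (owner: helper66).
-/

set_option autoImplicit false
set_option maxRecDepth 1000000
set_option linter.all false

namespace Cfsg.Agent.HN

open Cfsg.Agent.CosetEnum

/-- the relations without `t` -/
def NL : List (List ℕ × ℕ) := [([3, 11], 3), ([3, 4], 2), ([3, 5], 2), ([3, 6], 2), ([3, 7], 2), ([3, 8], 2), ([11, 4], 3), ([11, 5], 2), ([11, 6], 2), ([11, 7], 2), ([11, 8], 2), ([4, 5], 3), ([4, 6], 2), ([4, 7], 2), ([4, 8], 2), ([5, 6], 3), ([5, 7], 2), ([5, 8], 2), ([6, 7], 3), ([6, 8], 2), ([7, 8], 3), ([1, 3], 2), ([1, 11], 2), ([1, 4], 2), ([1, 5], 2), ([1, 6], 2), ([1, 7], 2), ([1, 8], 2), ([1, 2], 2), ([2, 3, 2, 3, 1], 1), ([2, 11, 2, 11, 1], 1), ([2, 4, 2, 4, 1], 1), ([2, 5, 2, 5, 1], 1), ([2, 6, 2, 6, 1], 1), ([2, 7, 2, 7, 1], 1), ([2, 8, 2, 8, 1], 1), ([12, 12, 6, 8], 1), ([13, 1, 12,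 1], 1), ([13, 2, 12, 3], 1), ([13, 3, 12, 2], 1), ([13, 4, 12, 8, 6, 4, 2, 3], 1), ([13, 5, 12, 5, 6, 7, 8, 6, 7, 6, 4, 5, 2, 3], 1), ([13, 6, 12, 7, 8, 6, 7, 4, 2, 3], 1), ([13, 7, 12, 8, 5, 6, 4, 5, 2, 3], 1), ([13, 8, 12, 6, 7, 8, 6, 7, 6, 4, 2, 3], 1), ([12, 11, 4], 5)]

/-- the relations with `t` -/
def TL : List (List ℕ × ℕ) := [([2, 11, 9, 11, 2, 9, 9], 1), ([2, 4, 9, 4, 2, 9, 9], 1), ([2, 5, 9, 5, 2, 9, 9], 1), ([2, 6, 9, 6, 2, 9, 9], 1), ([2, 7, 9, 7, 2, 9, 9], 1), ([2, 8, 9, 8, 2, 9, 9], 1), ([9], 5), ([1, 9], 2), ([2, 9], 3), ([3, 9], 3), ([12, 9, 13, 10], 1)]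

theorem RL_mem {p : List ℕ × ℕ} (h : p ∈ RL) : p ∈ NL ∨ p ∈ TL := by
  have h1 : RL.all (fun p => NL.contains p || TL.contains p) = true := by decide +kernel
  have h2 := (List.all_eq_true.1 h1) p h
  simpa using h2

section

variable {Γ : Type} [Group Γ]

/-- the family of nice letters -/
def fam (z s u U a6 a7 a8 a9 ap aq : Γ) : ℕ → Γ
  | 2 => z
  | 3 => s
  | 4 => a7 * z
  | 5 => a8 * z
  | 6 => a9 * z
  | 7 => ap * z
  | 8 => aq * z
  | 11 => a6 * z
  | 12 => u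
  | 13 => U
  | _ => 1

theorem core (z s u U a6 a7 a8 a9 ap aq : Γ) (zz : z * z = 1) (ss : s * s = 1) (zs : z * s = s * z)
    (z6 : z * a6 = a6 * z) (z7 : z * a7 = a7 * z) (z8 : z * a8 = a8 * z) (z9 : z * a9 = a9 * z) (zp : z * ap = ap * z)
    (zq : z * aq = aq * z) (s7 : s * a7 = a7 * s) (s8 : s * a8 = a8 * s) (s9 : s * a9 = a9 * s) (sp : s * ap = ap * s)
    (sq : s * aq = aq * s) (h66 : a6 * a6 = 1) (h77 : a7 * a7 = 1) (h88 : a8 * a8 = 1) (h99 : a9 * a9 = 1)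
    (hpp : ap * ap = 1) (hqq : aq * aq = 1) (s6 : (s * (a6 * z)) ^ 3 = 1) (h67 : (a6 * a7) ^ 3 = 1)
    (h68 : (a6 * a8) ^ 2 = 1) (h69 : (a6 * a9) ^ 2 = 1) (h6p : (a6 * ap) ^ 2 = 1) (h6q : (a6 * aq) ^ 2 = 1)
    (h78 : (a7 * a8) ^ 3 = 1) (h79 : (a7 * a9) ^ 2 = 1) (h7p : (a7 * ap) ^ 2 = 1) (h7q : (a7 * aq) ^ 2 = 1)
    (h89 : (a8 * a9) ^ 3 = 1) (h8p : (a8 * ap) ^ 2 = 1) (h8q : (a8 * aq) ^ 2 = 1) (h9p : (a9 * ap) ^ 3 = 1)
    (h9q : (a9 * aq) ^ 2 = 1) (hpq : (ap * aq) ^ 3 = 1) (uU : u * U = 1) (Uu : U * u = 1) (hs : U * z * u = s)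
    (hz : U * s * u = z) (uu : u * u * a9 * aq = 1) (h5 : (u * (a6 * a7)) ^ 5 = 1)
    (u7 : U * a7 * u = a7 * a9 * aq) (u8 : U * a8 * u = a8 * a7 * a9 * ap * a9 * aq * ap * a9 * a8)
    (u9 : U * a9 * u = a7 * ap * a9 * aq * ap) (up : U * ap * u = a8 * a7 * a9 * a8 * aq)
    (uq : U * aq * u = a7 * a9 * ap * a9 * aq * ap * a9) :
    ∀ p ∈ NL, ((p.1.map (fam z s u U a6 a7 a8 a9 ap aq)).prod) ^ p.2 = 1 := by
  have as : ∀ {a b c : Γ}, a * b = c → ∀ w, a * (b * w) = c * w := fun h w => by rw [← mul_assoc, h]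
  have as1 : ∀ {a b : Γ}, a * b = 1 → ∀ w, a * (b * w) = w := fun h w => by rw [← mul_assoc, h, one_mul]
  have zz' := as1 zz
  have ss' := as1 ss
  have Uu' := as1 Uu
  have uU' := as1 uU
  have cc : ∀ {a b : Γ}, a * b = b * a → ∀ w, a * (b * w) = b * (a * w) := fun h w => by
    rw [← mul_assoc, h, mul_assoc]
  have zs' := cc zs
  have z6' := cc z6
  have z7' := cc z7
  have z8' := cc z8
  have z9' := cc z9
  have zp' := cc zp
  have zq' := cc zq
  have s7' := cc s7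
  have s8' := cc s8
  have s9' := cc s9
  have sp' := cc sp
  have sq' := cc sq
  have h66' := as1 h66
  have h77' := as1 h77
  have h88' := as1 h88
  have h99' := as1 h99
  have hpp' := as1 hpp
  have hqq' := as1 hqq
  have ks : ∀ w, U * (z * (u * w)) = s * w := fun w => by rw [← hs]; simp only [mul_assoc]
  have kz : ∀ w, U * (s * (u * w)) = z * w := fun w => by rw [← hz]; simp only [mul_assoc]
  have kk : ∀ {a b : Γ}, U * a * u = b → ∀ w, U * (a * (z * (u * w))) = b * (s * w) := fun {a b} h w => by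
    rw [← h, ← hs]
    simp only [mul_assoc, uU']
  have k7 := kk u7
  have k8 := kk u8
  have k9 := kk u9
  have kp := kk up
  have kq := kk uq
  have e1 : fam z s u U a6 a7 a8 a9 ap aq 1 = 1 := rfl
  have e2 : fam z s u U a6 a7 a8 a9 ap aq 2 = z := rfl
  have e3 : fam z s u U a6 a7 a8 a9 ap aq 3 = s := rfl
  have e4 : fam z s u U a6 a7 a8 a9 ap aq 4 = a7 * z := rfl
  have e5 : fam z s u U a6 a7 a8 a9 ap aq 5 = a8 * z := rfl
  have e6 : fam z s u U a6 a7 a8 a9 ap aq 6 = a9 * z := rfl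
  have e7 : fam z s u U a6 a7 a8 a9 ap aq 7 = ap * z := rfl
  have e8 : fam z s u U a6 a7 a8 a9 ap aq 8 = aq * z := rfl
  have e11 : fam z s u U a6 a7 a8 a9 ap aq 11 = a6 * z := rfl
  have e12 : fam z s u U a6 a7 a8 a9 ap aq 12 = u := rfl
  have e13 : fam z s u U a6 a7 a8 a9 ap aq 13 = U := rfl
  intro p hp
  simp only [NL, List.mem_cons, List.not_mem_nil, or_false] at hp
  rcases hp with rfl | rfl | rfl | rfl | rfl | rfl | rfl | rfl | rfl | rfl | rfl | rfl | rfl | rfl | rfl | rfl | rfl | rfl | rfl | rfl | rfl | rfl | rfl | rfl | rfl | rfl | rfl | rfl | rfl | rfl | rfl | rfl | rfl | rfl | rfl | rfl | rfl | rfl | rfl | rfl | rfl | rfl | rfl | rfl | rfl | rfl <;>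
    simp only [List.map_cons, List.map_nil, List.prod_cons, List.prod_nil, e1, e2, e3, e4, e5, e6, e7, e8, e11, e12, e13,
      mul_one, one_mul, mul_assoc]
  · -- (s6)^3
    exact s6
  · -- (s7)^2
    simp only [zz, zz', z6, z6', z7, z7', z8, z8', z9, z9', zp, zp', zq, zq', zs, zs', ss, ss', s7, s7', s8, s8', s9, s9', sp, sp', sq, sq', h66, h66', h77, h77', h88, h88', h99, h99', hpp, hpp', hqq, hqq', mul_one, one_mul, pow_one, pow_two, mul_assoc]
  · -- (s8)^2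
    simp only [zz, zz', z6, z6', z7, z7', z8, z8', z9, z9', zp, zp', zq, zq', zs, zs', ss, ss', s7, s7', s8, s8', s9, s9', sp, sp', sq, sq', h66, h66', h77, h77', h88, h88', h99, h99', hpp, hpp', hqq, hqq', mul_one, one_mul, pow_one, pow_two, mul_assoc]
  · -- (s9)^2
    simp only [zz, zz', z6, z6', z7, z7', z8, z8', z9, z9', zp, zp', zq, zq', zs, zs', ss, ss', s7, s7', s8, s8', s9, s9', sp, sp', sq, sq', h66, h66', h77, h77', h88, h88', h99, h99', hpp, hpp', hqq, hqq', mul_one, one_mul, pow_one, pow_two, mul_assoc]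
  · -- (sp)^2
    simp only [zz, zz', z6, z6', z7, z7', z8, z8', z9, z9', zp, zp', zq, zq', zs, zs', ss, ss', s7, s7', s8, s8', s9, s9', sp, sp', sq, sq', h66, h66', h77, h77', h88, h88', h99, h99', hpp, hpp', hqq, hqq', mul_one, one_mul, pow_one, pow_two, mul_assoc]
  · -- (sq)^2
    simp only [zz, zz', z6, z6', z7, z7', z8, z8', z9, z9', zp, zp', zq, zq', zs, zs', ss, ss', s7, s7', s8, s8', s9, s9', sp, sp', sq, sq', h66, h66', h77, h77', h88, h88', h99, h99', hpp, hpp', hqq, hqq', mul_one, one_mul, pow_one, pow_two, mul_assoc]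
  · -- (67)^3
    have e : a6 * (z * (a7 * z)) = a6 * a7 := by simp only [zz, zz', z7', z7, mul_one]
    rw [e]; exact h67
  · -- (68)^2
    have e : a6 * (z * (a8 * z)) = a6 * a8 := by simp only [zz, zz', z8', z8, mul_one]
    rw [e]; exact h68
  · -- (69)^2
    have e : a6 * (z * (a9 * z)) = a6 * a9 := by simp only [zz, zz', z9', z9, mul_one]
    rw [e]; exact h69
  · -- (6p)^2
    have e : a6 * (z * (ap * z)) = a6 * ap := by simp only [zz, zz', zp', zp, mul_one]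
    rw [e]; exact h6p
  · -- (6q)^2
    have e : a6 * (z * (aq * z)) = a6 * aq := by simp only [zz, zz', zq', zq, mul_one]
    rw [e]; exact h6q
  · -- (78)^3
    have e : a7 * (z * (a8 * z)) = a7 * a8 := by simp only [zz, zz', z8', z8, mul_one]
    rw [e]; exact h78
  · -- (79)^2
    have e : a7 * (z * (a9 * z)) = a7 * a9 := by simp only [zz, zz', z9', z9, mul_one]
    rw [e]; exact h79
  · -- (7p)^2
    have e : a7 * (z * (ap * z)) = a7 * ap := by simp only [zz, zz', zp', zp, mul_one]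
    rw [e]; exact h7p
  · -- (7q)^2
    have e : a7 * (z * (aq * z)) = a7 * aq := by simp only [zz, zz', zq', zq, mul_one]
    rw [e]; exact h7q
  · -- (89)^3
    have e : a8 * (z * (a9 * z)) = a8 * a9 := by simp only [zz, zz', z9', z9, mul_one]
    rw [e]; exact h89
  · -- (8p)^2
    have e : a8 * (z * (ap * z)) = a8 * ap := by simp only [zz, zz', zp', zp, mul_one]
    rw [e]; exact h8p
  · -- (8q)^2
    have e : a8 * (z * (aq * z)) = a8 * aq := by simp only [zz, zz', zq', zq, mul_one]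
    rw [e]; exact h8q
  · -- (9p)^3
    have e : a9 * (z * (ap * z)) = a9 * ap := by simp only [zz, zz', zp', zp, mul_one]
    rw [e]; exact h9p
  · -- (9q)^2
    have e : a9 * (z * (aq * z)) = a9 * aq := by simp only [zz, zz', zq', zq, mul_one]
    rw [e]; exact h9q
  · -- (pq)^3
    have e : ap * (z * (aq * z)) = ap * aq := by simp only [zz, zz', zq', zq, mul_one]
    rw [e]; exact hpq
  · -- (vs)^2
    simp only [zz, zz', z6, z6', z7, z7', z8, z8', z9, z9', zp, zp', zq, zq', zs, zs', ss, ss', s7, s7', s8, s8', s9, s9', sp, sp', sq, sq', h66, h66', h77, h77', h88, h88', h99, h99', hpp, hpp', hqq, hqq', mul_one, one_mul, pow_one, pow_two, mul_assoc]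
  · -- (v6)^2
    simp only [zz, zz', z6, z6', z7, z7', z8, z8', z9, z9', zp, zp', zq, zq', zs, zs', ss, ss', s7, s7', s8, s8', s9, s9', sp, sp', sq, sq', h66, h66', h77, h77', h88, h88', h99, h99', hpp, hpp', hqq, hqq', mul_one, one_mul, pow_one, pow_two, mul_assoc]
  · -- (v7)^2
    simp only [zz, zz', z6, z6', z7, z7', z8, z8', z9, z9', zp, zp', zq, zq', zs, zs', ss, ss', s7, s7', s8, s8', s9, s9', sp, sp', sq, sq', h66, h66', h77, h77', h88, h88', h99, h99', hpp, hpp', hqq, hqq', mul_one, one_mul, pow_one, pow_two, mul_assoc]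
  · -- (v8)^2
    simp only [zz, zz', z6, z6', z7, z7', z8, z8', z9, z9', zp, zp', zq, zq', zs, zs', ss, ss', s7, s7', s8, s8', s9, s9', sp, sp', sq, sq', h66, h66', h77, h77', h88, h88', h99, h99', hpp, hpp', hqq, hqq', mul_one, one_mul, pow_one, pow_two, mul_assoc]
  · -- (v9)^2
    simp only [zz, zz', z6, z6', z7, z7', z8, z8', z9, z9', zp, zp', zq, zq', zs, zs', ss, ss', s7, s7', s8, s8', s9, s9', sp, sp', sq, sq', h66, h66', h77, h77', h88, h88', h99, h99', hpp, hpp', hqq, hqq', mul_one, one_mul, pow_one, pow_two, mul_assoc]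
  · -- (vp)^2
    simp only [zz, zz', z6, z6', z7, z7', z8, z8', z9, z9', zp, zp', zq, zq', zs, zs', ss, ss', s7, s7', s8, s8', s9, s9', sp, sp', sq, sq', h66, h66', h77, h77', h88, h88', h99, h99', hpp, hpp', hqq, hqq', mul_one, one_mul, pow_one, pow_two, mul_assoc]
  · -- (vq)^2
    simp only [zz, zz', z6, z6', z7, z7', z8, z8', z9, z9', zp, zp', zq, zq', zs, zs', ss, ss', s7, s7', s8, s8', s9, s9', sp, sp', sq, sq', h66, h66', h77, h77', h88, h88', h99, h99', hpp, hpp', hqq, hqq', mul_one, one_mul, pow_one, pow_two, mul_assoc]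
  · -- (vz)^2
    simp only [zz, zz', z6, z6', z7, z7', z8, z8', z9, z9', zp, zp', zq, zq', zs, zs', ss, ss', s7, s7', s8, s8', s9, s9', sp, sp', sq, sq', h66, h66', h77, h77', h88, h88', h99, h99', hpp, hpp', hqq, hqq', mul_one, one_mul, pow_one, pow_two, mul_assoc]
  · -- (zszsv)^1
    simp only [zz, zz', z6, z6', z7, z7', z8, z8', z9, z9', zp, zp', zq, zq', zs, zs', ss, ss', s7, s7', s8, s8', s9, s9', sp, sp', sq, sq', h66, h66', h77, h77', h88, h88', h99, h99', hpp, hpp', hqq, hqq', mul_one, one_mul, pow_one, pow_two, mul_assoc]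
  · -- (z6z6v)^1
    simp only [zz, zz', z6, z6', z7, z7', z8, z8', z9, z9', zp, zp', zq, zq', zs, zs', ss, ss', s7, s7', s8, s8', s9, s9', sp, sp', sq, sq', h66, h66', h77, h77', h88, h88', h99, h99', hpp, hpp', hqq, hqq', mul_one, one_mul, pow_one, pow_two, mul_assoc]
  · -- (z7z7v)^1
    simp only [zz, zz', z6, z6', z7, z7', z8, z8', z9, z9', zp, zp', zq, zq', zs, zs', ss, ss', s7, s7', s8, s8', s9, s9', sp, sp', sq, sq', h66, h66', h77, h77', h88, h88', h99, h99', hpp, hpp', hqq, hqq', mul_one, one_mul, pow_one, pow_two, mul_assoc]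
  · -- (z8z8v)^1
    simp only [zz, zz', z6, z6', z7, z7', z8, z8', z9, z9', zp, zp', zq, zq', zs, zs', ss, ss', s7, s7', s8, s8', s9, s9', sp, sp', sq, sq', h66, h66', h77, h77', h88, h88', h99, h99', hpp, hpp', hqq, hqq', mul_one, one_mul, pow_one, pow_two, mul_assoc]
  · -- (z9z9v)^1
    simp only [zz, zz', z6, z6', z7, z7', z8, z8', z9, z9', zp, zp', zq, zq', zs, zs', ss, ss', s7, s7', s8, s8', s9, s9', sp, sp', sq, sq', h66, h66', h77, h77', h88, h88', h99, h99', hpp, hpp', hqq, hqq', mul_one, one_mul, pow_one, pow_two, mul_assoc]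
  · -- (zpzpv)^1
    simp only [zz, zz', z6, z6', z7, z7', z8, z8', z9, z9', zp, zp', zq, zq', zs, zs', ss, ss', s7, s7', s8, s8', s9, s9', sp, sp', sq, sq', h66, h66', h77, h77', h88, h88', h99, h99', hpp, hpp', hqq, hqq', mul_one, one_mul, pow_one, pow_two, mul_assoc]
  · -- (zqzqv)^1
    simp only [zz, zz', z6, z6', z7, z7', z8, z8', z9, z9', zp, zp', zq, zq', zs, zs', ss, ss', s7, s7', s8, s8', s9, s9', sp, sp', sq, sq', h66, h66', h77, h77', h88, h88', h99, h99', hpp, hpp', hqq, hqq', mul_one, one_mul, pow_one, pow_two, mul_assoc]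
  · -- (uu9q)^1
    rw [pow_one]; refine Eq.trans ?_ uu; simp only [zz, zz', z6, z6', z7, z7', z8, z8', z9, z9', zp, zp', zq, zq', zs, zs', ss, ss', s7, s7', s8, s8', s9, s9', sp, sp', sq, sq', h66, h66', h77, h77', h88, h88', h99, h99', hpp, hpp', hqq, hqq', pow_two, mul_assoc, mul_one]
  · -- (Uvuv)^1
    simp only [ks, kz, k7, k8, k9, kp, kq, Uu, Uu', zz, zz', z6, z6', z7, z7', z8, z8', z9, z9', zp, zp', zq, zq', zs, zs', ss, ss', s7, s7', s8, s8', s9, s9', sp, sp', sq, sq', h66, h66', h77, h77', h88, h88', h99, h99', hpp, hpp', hqq, hqq', mul_one, one_mul, pow_one, pow_two, mul_assoc, ks, kz]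
  · -- (Uzus)^1
    simp only [ks, kz, k7, k8, k9, kp, kq, Uu, Uu', zz, zz', z6, z6', z7, z7', z8, z8', z9, z9', zp, zp', zq, zq', zs, zs', ss, ss', s7, s7', s8, s8', s9, s9', sp, sp', sq, sq', h66, h66', h77, h77', h88, h88', h99, h99', hpp, hpp', hqq, hqq', mul_one, one_mul, pow_one, pow_two, mul_assoc, ks, kz]
  · -- (Usuz)^1
    simp only [ks, kz, k7, k8, k9, kp, kq, Uu, Uu', zz, zz', z6, z6', z7, z7', z8, z8', z9, z9', zp, zp', zq, zq', zs, zs', ss, ss', s7, s7', s8, s8', s9, s9', sp, sp', sq, sq', h66, h66', h77, h77', h88, h88', h99, h99', hpp, hpp', hqq, hqq', mul_one, one_mul, pow_one, pow_two, mul_assoc, ks, kz]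
  · -- (U7uq97zs)^1
    simp only [ks, kz, k7, k8, k9, kp, kq, Uu, Uu', zz, zz', z6, z6', z7, z7', z8, z8', z9, z9', zp, zp', zq, zq', zs, zs', ss, ss', s7, s7', s8, s8', s9, s9', sp, sp', sq, sq', h66, h66', h77, h77', h88, h88', h99, h99', hpp, hpp', hqq, hqq', mul_one, one_mul, pow_one, pow_two, mul_assoc, ks, kz]
  · -- (U8u89pq9p978zs)^1
    simp only [ks, kz, k7, k8, k9, kp, kq, Uu, Uu', zz, zz', z6, z6', z7, z7', z8, z8', z9, z9', zp, zp', zq, zq', zs, zs', ss, ss', s7, s7', s8, s8', s9, s9', sp, sp', sq, sq', h66, h66', h77, h77', h88, h88', h99, h99', hpp, hpp', hqq, hqq', mul_one, one_mul, pow_one, pow_two, mul_assoc, ks, kz]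
  · -- (U9upq9p7zs)^1
    simp only [ks, kz, k7, k8, k9, kp, kq, Uu, Uu', zz, zz', z6, z6', z7, z7', z8, z8', z9, z9', zp, zp', zq, zq', zs, zs', ss, ss', s7, s7', s8, s8', s9, s9', sp, sp', sq, sq', h66, h66', h77, h77', h88, h88', h99, h99', hpp, hpp', hqq, hqq', mul_one, one_mul, pow_one, pow_two, mul_assoc, ks, kz]
  · -- (Upuq8978zs)^1
    simp only [ks, kz, k7, k8, k9, kp, kq, Uu, Uu', zz, zz', z6, z6', z7, z7', z8, z8', z9, z9', zp, zp', zq, zq', zs, zs', ss, ss', s7, s7', s8, s8', s9, s9', sp, sp', sq, sq', h66, h66', h77, h77', h88, h88', h99, h99', hpp, hpp', hqq, hqq', mul_one, one_mul, pow_one, pow_two, mul_assoc, ks, kz]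
  · -- (Uqu9pq9p97zs)^1
    simp only [ks, kz, k7, k8, k9, kp, kq, Uu, Uu', zz, zz', z6, z6', z7, z7', z8, z8', z9, z9', zp, zp', zq, zq', zs, zs', ss, ss', s7, s7', s8, s8', s9, s9', sp, sp', sq, sq', h66, h66', h77, h77', h88, h88', h99, h99', hpp, hpp', hqq, hqq', mul_one, one_mul, pow_one, pow_two, mul_assoc, ks, kz]
  · -- (u67)^5
    have e : u * (a6 * (z * (a7 * z))) = u * (a6 * a7) := by simp only [zz, z7', mul_one]
    rw [e]; exact h5

end

end Cfsg.Agent.HN
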