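import Cfsg.Agent.CosetEnum.HN.Nb

/-!
The group of `x`, `y`, `z` modulo the square of `x` satisfies the nice relations (owner: helper66).
-/

set_option autoImplicit false
set_option maxRecDepth 1000000
set_option linter.all false

namespace Cfsg.Agent.HN

open Cfsg.Agent.CosetEnum

section

variable {Γ : Type} [Group Γ]

/-- product of a word -/
def wd (q : ℕ → Γ) (w : List ℕ) : Γ := (w.map q).prod

theorem wd_append (q : ℕ → Γ) (a b : List ℕ) : wd q (a ++ b) = wd q a * wd q b := by
  rw [wd, List.map_append, List.prod_append]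
  rfl

theorem wd_nil (q : ℕ → Γ) : wd q [] = 1 := rfl

theorem fact {q : ℕ → Γ} (hq : Good q 7 HNTU.iv HNTU.RL) {u v : List ℕ} (h : eqUB u v = true) : wd q u = wd q v := by
  obtain ⟨φ, hφ⟩ := UU.univ Γ q hq
  have h1 := congrArg φ (eqU h)
  rw [map_list_prod, map_list_prod, List.map_map, List.map_map] at h1
  have h2 : (φ ∘ qu) = q := funext hφ
  rwa [h2] at h1

theorem comm_wd {q : ℕ → Γ} {z : Γ} {w : List ℕ} (L : List ℕ) (h : ∀ x ∈ L, z * q x = q x * z)
    (hw : w.all (fun x => L.contains x) = true) : z * wd q w = wd q w * z := by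
  induction w with
  | nil => simp [wd]
  | cons x w ih =>
    rw [List.all_cons, Bool.and_eq_true] at hw
    have h1 := h x (by simpa using hw.1)
    have h2 := ih hw.2
    have h3 : wd q (x :: w) = q x * wd q w := rfl
    rw [h3, ← mul_assoc, h1, mul_assoc, h2, mul_assoc]

/-- the nice letters -/
def nf (q : ℕ → Γ) (z : Γ) : ℕ → Γ :=
  fam z (q 7 * z * q 6) (q 6) (q 7) (wd q w6) (wd q w7) (wd q w8) (wd q w9) (wd q wp) (wd q wq)

theorem c_trivial (c s t : Γ) (ss : s * s = 1) (tt : t * t = 1) (st : (s * t) ^ 3 = 1) (cs : c * s = s * c)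
    (ct : c * t * c = t) (c3 : c * c * c = 1) : c = 1 := by
  have h1 : s * t * s = t * s * t := by
    have h2 : (s * t) ^ 3 = (s * t * s) * (t * s * t) := by
      simp only [pow_succ, pow_zero, one_mul, mul_assoc]
    rw [h2] at st
    have h3 : (t * s * t) * (t * s * t) = 1 := by
      have : (t * s * t) * (t * s * t) = t * (s * ((t * t) * s)) * t := by simp only [mul_assoc]
      rw [this, tt, one_mul, ss, mul_one, tt]
    exact mul_right_cancel (st.trans h3.symm)
  have h2 : c * (s * t * s) * c = s * t * s := by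
    have e1 : c * (s * t * s) * c = (c * s) * t * (s * c) := by simp only [mul_assoc]
    have e2 : (c * s) * t * (s * c) = (s * c) * t * (c * s) := by rw [cs]
    have e3 : s * c * t * (c * s) = s * (c * t * c) * s := by simp only [mul_assoc]
    rw [e1, e2, e3, ct]
  have h3 : c * t = t * c⁻¹ := by
    rw [eq_mul_inv_iff_mul_eq, ct]
  have h4 : c * (t * s * t) * c = (t * s * t) * (c * c) := by
    have e1 : c⁻¹ * s = s * c⁻¹ := by
      rw [inv_mul_eq_iff_eq_mul, ← mul_assoc, cs, mul_assoc, mul_inv_cancel, mul_one]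
    have e2 : c⁻¹ * t = t * c := by
      rw [inv_mul_eq_iff_eq_mul, ← mul_assoc, h3, mul_assoc, inv_mul_cancel, mul_one]
    calc c * (t * s * t) * c = (c * t) * s * t * c := by simp only [mul_assoc]
      _ = t * (c⁻¹ * s) * t * c := by rw [h3]; simp only [mul_assoc]
      _ = t * s * (c⁻¹ * t) * c := by rw [e1]; simp only [mul_assoc]
      _ = (t * s * t) * (c * c) := by rw [e2]; simp only [mul_assoc]
  have h5 : (t * s * t) * (c * c) = t * s * t := by
    rw [← h4, ← h1, h2]
  have h6 : c * c = 1 := mul_eq_left.1 h5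
  rw [h6, one_mul] at c3
  exact c3

theorem nice {q : ℕ → Γ} {z : Γ} (hq : Good q 7 HNTU.iv HNTU.RL) (zz : z * z = 1) (zx : z * q 1 = q 1 * z)
    (zh : z * q 4 = q 4 * z)
    (zr : z * (((wd q [2, 2, 2, 1, 2, 1, 2])⁻¹ * z * wd q [2, 2, 2, 1, 2, 1, 2]) * q 1) ^ 3 = 1) :
    (∀ p ∈ NL, ((p.1.map (nf q z)).prod) ^ p.2 = 1) ∧ q 1 = wd (nf q z) [11, 2, 4, 5, 4, 11] ∧
      q 2 = wd (nf q z) [5, 4, 12, 11, 7, 12, 11, 7, 4, 5, 13] := by
  have F : ∀ {u v : List ℕ}, eqUB u v = true → wd q u = wd q v := fun h => fact hq h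
  have w1 : ∀ x, wd q [x] = q x := fun x => by simp [wd]
  have q5 : q 5 = (q 4)⁻¹ := hq.inv 4
  have q7 : q 7 = (q 6)⁻¹ := hq.inv 6
  have Uu : q 7 * q 6 = 1 := by rw [q7, inv_mul_cancel]
  have uU : q 6 * q 7 = 1 := by rw [q7, mul_inv_cancel]
  have zH : z * q 5 = q 5 * z := by
    rw [q5, eq_inv_mul_iff_mul_eq, ← mul_assoc, ← zh, mul_assoc, mul_inv_cancel, mul_one]
  have zL : ∀ x ∈ [1, 4, 5], z * q x = q x * z := by
    intro x hx
    simp only [List.mem_cons, List.not_mem_nil, or_false] at hx
    rcases hx with rfl | rfl | rfl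
    · exact zx
    · exact zh
    · exact zH
  have zw : ∀ {w : List ℕ}, (w.all (fun x => [1, 4, 5].contains x) = true) → z * wd q w = wd q w * z :=
    fun h => comm_wd _ zL h
  set s : Γ := q 7 * z * q 6 with hs
  set c : Γ := wd q wc with hc
  have z6 : z * wd q w6 = wd q w6 * z := zw (by decide +kernel)
  have z7 : z * wd q w7 = wd q w7 * z := zw (by decide +kernel)
  have z8 : z * wd q w8 = wd q w8 * z := zw (by decide +kernel)
  have z9 : z * wd q w9 = wd q w9 * z := zw (by decide +kernel)
  have zp : z * wd q wp = wd q wp * z := zw (by decide +kernel)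
  have zq : z * wd q wq = wd q wq * z := zw (by decide +kernel)
  have zc : z * c = c * z := zw (by decide +kernel)
  have ss : s * s = 1 := by
    have : s * s = q 7 * z * (q 6 * q 7) * z * q 6 := by simp only [hs, mul_assoc]
    rw [this, uU, mul_one]
    have : q 7 * z * z * q 6 = q 7 * (z * z) * q 6 := by simp only [mul_assoc]
    rw [this, zz, mul_one, Uu]
  -- the relation of order three
  have hρ : z * wd q [4, 1, 4, 4, 1, 4, 1, 4, 1, 5, 5, 5, 1, 5] = wd q [4, 1, 4, 4, 1, 4, 1, 4, 1, 5, 5, 5, 1, 5] * z :=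
    zw (by decide +kernel)
  have hg : wd q [2, 2, 2, 1, 2, 1, 2] =
      wd q [4, 1, 4, 4, 1, 4, 1, 4, 1, 5, 5, 5, 1, 5] * q 6 * wd q [4, 4, 4, 4] := by
    rw [F frho]
    simp only [wd, List.map_cons, List.map_nil, List.prod_cons, List.prod_nil, mul_one, mul_assoc]
  have hh4 : z * wd q [4, 4, 4, 4] = wd q [4, 4, 4, 4] * z := zw (by decide +kernel)
  have h6' : wd q w6 = wd q [4, 4, 4, 4] * q 1 * (wd q [4, 4, 4, 4])⁻¹ := by
    simp only [w6, wd, List.map_cons, List.map_nil, List.prod_cons, List.prod_nil, mul_one, mul_inv_rev, q5, mul_assoc]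
  have s6' : (s * wd q w6) ^ 3 = z := by
    rw [hg] at zr
    generalize wd q [4, 1, 4, 4, 1, 4, 1, 4, 1, 5, 5, 5, 1, 5] = ρ at zr hρ
    rw [h6']
    generalize wd q [4, 4, 4, 4] = k at zr hh4
    have e1 : (ρ * q 6 * k)⁻¹ * z * (ρ * q 6 * k) = k⁻¹ * s * k := by
      have : (ρ * q 6 * k)⁻¹ * z * (ρ * q 6 * k) = k⁻¹ * ((q 6)⁻¹ * (ρ⁻¹ * (z * ρ)) * q 6) * k := by
        simp only [mul_inv_rev, mul_assoc]
      rw [this, hρ, inv_mul_cancel_left, ← q7]
    rw [e1] at zr
    have e2 : (s * (k * q 1 * k⁻¹)) ^ 3 = k * ((k⁻¹ * s * k) * q 1) ^ 3 * k⁻¹ := by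
      rw [eq_mul_inv_iff_mul_eq]
      simp only [pow_succ, pow_zero, one_mul, mul_assoc, mul_inv_cancel_left, inv_mul_cancel_left, inv_mul_cancel, mul_one]
    have e3 : ((k⁻¹ * s * k) * q 1) ^ 3 = z := by
      have : z⁻¹ = z := by rw [inv_eq_iff_mul_eq_one]; exact zz
      rw [← this, eq_inv_iff_mul_eq_one, ← this]
      rw [mul_eq_one_iff_eq_inv] at zr ⊢
      rw [inv_inv]
      rw [← inv_inj, ← zr, this]
    rw [e2, e3, ← hh4, mul_assoc, mul_inv_cancel, mul_one]
  have zs : z * s = s * z := by
    have h1 : z * (s * wd q w6) = (s * wd q w6) * z := by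
      rw [← s6']
      exact (Commute.pow_self _ 3).eq
    have h2 : z * s * wd q w6 = s * z * wd q w6 := by
      rw [mul_assoc, h1, mul_assoc, ← z6, ← mul_assoc]
    exact mul_right_cancel h2
  have s6 : (s * (wd q w6 * z)) ^ 3 = 1 := by
    have h1 : Commute (s * wd q w6) z := by
      show s * wd q w6 * z = z * (s * wd q w6)
      rw [mul_assoc, ← z6, ← mul_assoc, ← zs, mul_assoc]
    rw [← mul_assoc, h1.mul_pow, s6']
    have : z * z ^ 3 = (z * z) * (z * z) := by simp only [pow_succ, pow_zero, one_mul, mul_assoc]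
    rw [this, zz, one_mul]
  have r66 : wd q w6 * wd q w6 = 1 := by rw [← wd_append, F f66]; rfl
  -- the trivial element
  have hc1 : c = 1 := by
    refine c_trivial c s (wd q w6 * z) ss ?_ s6 ?_ ?_ ?_
    · have : wd q w6 * z * (wd q w6 * z) = wd q w6 * (z * wd q w6) * z := by simp only [mul_assoc]
      rw [this, z6]
      have : wd q w6 * (wd q w6 * z) * z = (wd q w6 * wd q w6) * (z * z) := by simp only [mul_assoc]
      rw [this, r66, zz, one_mul]
    · have cu : c * q 6 = q 6 * c := by
        have := F fcu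
        rwa [wd_append, wd_append, w1] at this
      have cU : c * q 7 = q 7 * c := by
        rw [q7, eq_inv_mul_iff_mul_eq, ← mul_assoc, ← cu, mul_assoc, mul_inv_cancel, mul_one]
      calc c * s = (c * q 7) * z * q 6 := by simp only [hs, mul_assoc]
        _ = q 7 * (c * z) * q 6 := by rw [cU]; simp only [mul_assoc]
        _ = q 7 * z * (c * q 6) := by rw [← zc]; simp only [mul_assoc]
        _ = s * c := by rw [cu]; simp only [hs, mul_assoc]
    · have h1 : c * wd q w6 * c = wd q w6 := by
        have := F fc6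
        rwa [wd_append, wd_append] at this
      calc c * (wd q w6 * z) * c = c * wd q w6 * (z * c) := by simp only [mul_assoc]
        _ = (c * wd q w6 * c) * z := by rw [zc]; simp only [mul_assoc]
        _ = wd q w6 * z := by rw [h1]
    · have := F fc3
      rwa [wd_append, wd_append] at this
  have hc1' : wd q wc = 1 := hc1
  -- squares
  have r77 : wd q w7 * wd q w7 = 1 := by rw [← wd_append, F f77]; rfl
  have r88 : wd q w8 * wd q w8 = 1 := by rw [← wd_append, F f88]; rfl
  have r99 : wd q w9 * wd q w9 = 1 := by rw [← wd_append, F f99]; rfl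
  have rpp : wd q wp * wd q wp = 1 := by rw [← wd_append, F fpp]; rfl
  have rqq : wd q wq * wd q wq = 1 := by rw [← wd_append, F fqq]; rfl
  -- s commutes
  have sj : ∀ {a b : Γ}, q 6 * a * q 7 = b → z * b = b * z → s * a = a * s := by
    intro a b h1 h2
    have h3 : a = q 7 * b * q 6 := by
      rw [← h1]
      have : q 7 * (q 6 * a * q 7) * q 6 = (q 7 * q 6) * a * (q 7 * q 6) := by simp only [mul_assoc]
      rw [this, Uu, one_mul, mul_one]
    rw [h3]
    have e1 : s * (q 7 * b * q 6) = q 7 * (z * ((q 6 * q 7) * b)) * q 6 := by simp only [hs, mul_assoc]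
    have e2 : (q 7 * b * q 6) * s = q 7 * (b * ((q 6 * q 7) * z)) * q 6 := by simp only [hs, mul_assoc]
    rw [e1, e2, uU, one_mul, one_mul, h2]
  have three : ∀ {a b : Γ}, a * b * a * b * a * b = 1 → (a * b) ^ 3 = 1 := by
    intro a b h
    rw [← h]
    simp only [pow_succ, pow_zero, one_mul, mul_assoc]
  have two : ∀ {a b : Γ}, a * b * a * b = 1 → (a * b) ^ 2 = 1 := by
    intro a b h
    rw [← h]
    simp only [pow_succ, pow_zero, one_mul, mul_assoc]
  have cv : ∀ {v : List ℕ} {a b : List ℕ}, eqUB ([6] ++ a ++ [7]) v = true →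
      (v.all (fun x => [1, 4, 5].contains x) = true) → s * wd q a = wd q a * s := by
    intro v a b h1 h2
    refine sj ?_ (zw h2)
    have := F h1
    rwa [wd_append, wd_append, w1, w1] at this
  have hcore := core z s (q 6) (q 7) (wd q w6) (wd q w7) (wd q w8) (wd q w9) (wd q wp) (wd q wq) zz ss zs z6 z7 z8 z9 zp zq
    (cv (b := []) fv7 (by decide +kernel)) (cv (b := []) fv8 (by decide +kernel)) (cv (b := []) fv9 (by decide +kernel))
    (cv (b := []) fvp (by decide +kernel)) (cv (b := []) fvq (by decide +kernel)) r66 r77 r88 r99 rpp rqq s6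
    (three (by have := F f67; simpa only [wd_append, hc1', wd_nil, mul_one, one_mul] using this))
    (two (by have := F f68; simpa only [wd_append, hc1', wd_nil, mul_one, one_mul] using this))
    (two (by have := F f69; simpa only [wd_append, hc1', wd_nil, mul_one, one_mul] using this))
    (two (by have := F f6p; simpa only [wd_append, hc1', wd_nil, mul_one, one_mul] using this))
    (two (by have := F f6q; simpa only [wd_append, hc1', wd_nil, mul_one, one_mul] using this))
    (three (by have := F f78; simpa only [wd_append, hc1', wd_nil, mul_one, one_mul] using this))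
    (two (by have := F f79; simpa only [wd_append, hc1', wd_nil, mul_one, one_mul] using this))
    (two (by have := F f7p; simpa only [wd_append, hc1', wd_nil, mul_one, one_mul] using this))
    (two (by have := F f7q; simpa only [wd_append, hc1', wd_nil, mul_one, one_mul] using this))
    (three (by have := F f89; simpa only [wd_append, hc1', wd_nil, mul_one, one_mul] using this))
    (two (by have := F f8p; simpa only [wd_append, hc1', wd_nil, mul_one, one_mul] using this))
    (two (by have := F f8q; simpa only [wd_append, hc1', wd_nil, mul_one, one_mul] using this))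
    (three (by have := F f9p; simpa only [wd_append, hc1', wd_nil, mul_one, one_mul] using this))
    (two (by have := F f9q; simpa only [wd_append, hc1', wd_nil, mul_one, one_mul] using this))
    (three (by have := F fpq; simpa only [wd_append, hc1', wd_nil, mul_one, one_mul] using this))
    uU Uu rfl ?_ ?_ ?_ ?_ ?_ ?_ ?_ ?_
  · refine ⟨hcore, ?_, ?_⟩
    · have h1 := F fx
      simp only [wd_append, hc1', w1, one_mul] at h1
      rw [h1]
      have zz' : ∀ w, z * (z * w) = w := fun w => by rw [← mul_assoc, zz, one_mul]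
      have z7' : ∀ w, z * (wd q w7 * w) = wd q w7 * (z * w) := fun w => by rw [← mul_assoc, z7, mul_assoc]
      have z8' : ∀ w, z * (wd q w8 * w) = wd q w8 * (z * w) := fun w => by rw [← mul_assoc, z8, mul_assoc]
      have z6'' : ∀ w, z * (wd q w6 * w) = wd q w6 * (z * w) := fun w => by rw [← mul_assoc, z6, mul_assoc]
      show _ = (wd q w6 * z) * (z * ((wd q w7 * z) * ((wd q w8 * z) * ((wd q w7 * z) * ((wd q w6 * z) * 1)))))
      simp only [mul_assoc, zz, zz', z7', z8', z6'', mul_one]
    · have h1 := F fy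
      simp only [wd_append, hc1', w1, one_mul] at h1
      rw [h1]
      have zz' : ∀ w, z * (z * w) = w := fun w => by rw [← mul_assoc, zz, one_mul]
      have z7' : ∀ w, z * (wd q w7 * w) = wd q w7 * (z * w) := fun w => by rw [← mul_assoc, z7, mul_assoc]
      have z8' : ∀ w, z * (wd q w8 * w) = wd q w8 * (z * w) := fun w => by rw [← mul_assoc, z8, mul_assoc]
      have zp' : ∀ w, z * (wd q wp * w) = wd q wp * (z * w) := fun w => by rw [← mul_assoc, zp, mul_assoc]
      show _ = (wd q w8 * z) * ((wd q w7 * z) * (q 6 * ((wd q w6 * z) * ((wd q wp * z) * (q 6 * ((wd q w6 * z) *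
        ((wd q wp * z) * ((wd q w7 * z) * ((wd q w8 * z) * (q 7 * 1))))))))))
      simp only [mul_assoc, zz, zz', z7', z8', zp', mul_one]
  · -- U s u = z
    have h1 := F fuu
    simp only [wd_append, hc1', w1, wd_nil, mul_one] at h1
    have h2 : q 6 * q 6 = wd q wq * wd q w9 := by
      have h3 : q 6 * q 6 * (wd q w9 * wd q wq) = 1 := by
        rw [← h1]
        have : wd q ([6, 6]) = q 6 * q 6 := by simp [wd]
        rw [this]
        simp only [mul_assoc]
      rw [mul_eq_one_iff_eq_inv, mul_inv_rev] at h3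
      rw [h3, inv_eq_iff_mul_eq_one.2 rqq, inv_eq_iff_mul_eq_one.2 r99]
    have h3 : z * (q 6 * q 6) = (q 6 * q 6) * z := by
      rw [h2, ← mul_assoc, zq, mul_assoc, z9, mul_assoc]
    have h4 : q 7 * s * q 6 = (q 7 * q 7) * (z * (q 6 * q 6)) := by simp only [hs, mul_assoc]
    rw [h4, h3]
    have h5 : q 7 * q 7 * (q 6 * q 6 * z) = q 7 * (q 7 * q 6) * (q 6 * z) := by simp only [mul_assoc]
    rw [h5, Uu, mul_one, ← mul_assoc, Uu, one_mul]
  · have h1 := F fuu
    simp only [wd_append, hc1', w1, wd_nil, mul_one] at h1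
    rw [← h1]
    have : wd q ([6, 6]) = q 6 * q 6 := by simp [wd]
    rw [this]
  · have h1 := F fu67
    simp only [wd_append, hc1', w1] at h1
    rw [← h1]
    simp only [pow_succ, pow_zero, one_mul, mul_assoc]
  · have h1 := F fu7
    simpa only [wd_append, hc1', w1, one_mul] using h1
  · have h1 := F fu8
    simpa only [wd_append, hc1', w1, one_mul] using h1
  · have h1 := F fu9
    simpa only [wd_append, hc1', w1, one_mul] using h1
  · have h1 := F fup
    simpa only [wd_append, hc1', w1, one_mul] using h1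
  · have h1 := F fuq
    simpa only [wd_append, hc1', w1, one_mul] using h1

end

end Cfsg.Agent.HN
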