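import Cfsg.Agent.CosetEnum.HN.Nc
import Cfsg.Agent.CosetEnum.HN.Raw

/-!
The nice letters of the presented Harada-Norton group, modulo the square of `x` (owner: helper66).
-/

set_option autoImplicit false
set_option maxRecDepth 1000000
set_option linter.all false

namespace Cfsg.Agent.HN

open Cfsg.Agent.CosetEnum Cfsg.Spor

/-- the central involution of `⟨x, y, z⟩` -/
noncomputable def vv : Spor.HN := gR 1 * gR 1

theorem rr {w : List ℕ} {k : ℕ} (h : RLR.contains (w, k) = true) : (wd gR w) ^ k = 1 :=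
  gR_good.rel (w, k) (by simpa using h)

theorem g2 : gR 2 = (gR 1)⁻¹ := rfl

theorem g4 : gR 4 = (gR 3)⁻¹ := rfl

theorem g7 : gR 7 = (gR 6)⁻¹ := rfl

theorem g9 : gR 9 = (gR 8)⁻¹ := rfl

theorem g11 : gR 11 = (gR 10)⁻¹ := rfl

theorem g8 : gR 8 = wd gR [3, 1, 3, 1, 3, 3, 1, 4] := by
  have h := rr (w := [9, 3, 1, 3, 1, 3, 3, 1, 4]) (k := 1) (by decide +kernel)
  rw [pow_one] at h
  have h' : gR 9 * wd gR [3, 1, 3, 1, 3, 3, 1, 4] = 1 := h
  rw [g9, inv_mul_eq_one] at h'
  exact h'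

theorem g10 : gR 10 = wd gR [3, 3, 1, 3, 1, 4, 1, 4, 1, 4, 1, 3, 2] := by
  have h := rr (w := [11, 3, 3, 1, 3, 1, 4, 1, 4, 1, 4, 1, 3, 2]) (k := 1) (by decide +kernel)
  rw [pow_one] at h
  have h' : gR 11 * wd gR [3, 3, 1, 3, 1, 4, 1, 4, 1, 4, 1, 3, 2] = 1 := h
  rw [g11, inv_mul_eq_one] at h'
  exact h'

theorem g5 : gR 5 * gR 5 = 1 := by
  have : gR 5 = (gR 5)⁻¹ := gR_good.inv 5
  nth_rewrite 1 [this]
  exact inv_mul_cancel _

theorem vy : (gR 3)⁻¹ * vv * gR 3 = vv⁻¹ := by
  have h := rr (w := [1, 1, 3, 1, 1, 4]) (k := 1) (by decide +kernel)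
  rw [pow_one] at h
  have h' : vv * gR 3 * vv * (gR 3)⁻¹ = 1 := by
    rw [← h]
    simp only [wd, vv, g4, List.map_cons, List.map_nil, List.prod_cons, List.prod_nil, mul_one, mul_assoc]
  have h2 : vv * gR 3 * vv = gR 3 := mul_inv_eq_one.1 h'
  rw [mul_assoc, inv_mul_eq_iff_eq_mul, eq_mul_inv_iff_mul_eq]
  exact h2

/-- conjugation of `v` by a word of `x`, `X`, `y`, `Y` -/
theorem vconj (w : List ℕ) (hw : w.all (fun x => [1, 2, 3, 4].contains x) = true) :
    (wd gR w)⁻¹ * vv * wd gR w = if Even (w.countP (fun x => [3, 4].contains x)) then vv else vv⁻¹ := by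
  have hx : (gR 1)⁻¹ * vv * gR 1 = vv := by
    simp only [vv, mul_assoc, inv_mul_cancel_left]
  have hX : (gR 2)⁻¹ * vv * gR 2 = vv := by
    rw [g2, inv_inv]
    simp only [vv, mul_assoc, mul_inv_cancel, mul_one]
  have hy : (gR 3)⁻¹ * vv * gR 3 = vv⁻¹ := vy
  have hY : (gR 4)⁻¹ * vv * gR 4 = vv⁻¹ := by
    rw [g4, inv_inv, mul_inv_eq_iff_eq_mul, ← eq_inv_mul_iff_mul_eq, ← mul_assoc]
    have h := congrArg (fun g => g⁻¹) vy
    simp only [mul_inv_rev, inv_inv] at h
    rw [← mul_assoc] at h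
    exact h.symm
  induction w using List.reverseRecOn with
  | nil => simp [wd]
  | append_singleton w x ih =>
    rw [List.all_append, Bool.and_eq_true] at hw
    have h1 := ih hw.1
    have h2 : wd gR (w ++ [x]) = wd gR w * gR x := by simp [wd]
    have h3 : (wd gR w * gR x)⁻¹ * vv * (wd gR w * gR x) = (gR x)⁻¹ * ((wd gR w)⁻¹ * vv * wd gR w) * gR x := by
      simp only [mul_inv_rev, mul_assoc]
    rw [h2, h3, h1, List.countP_append]
    have hx4 : x = 1 ∨ x = 2 ∨ x = 3 ∨ x = 4 := by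
      have := hw.2
      simpa using this
    have inv' : ∀ a b : Spor.HN, a⁻¹ * b⁻¹ * a = (a⁻¹ * b * a)⁻¹ := fun a b => by
      simp only [mul_inv_rev, inv_inv, mul_assoc]
    rcases hx4 with rfl | rfl | rfl | rfl
    · rw [show List.countP (fun x => [3, 4].contains x) [1] = 0 from rfl, Nat.add_zero]
      split
      · exact hx
      · rw [inv', hx]
    · rw [show List.countP (fun x => [3, 4].contains x) [2] = 0 from rfl, Nat.add_zero]
      split
      · exact hX
      · rw [inv', hX]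
    · rw [show List.countP (fun x => [3, 4].contains x) [3] = 1 from rfl]
      by_cases he : Even (List.countP (fun x => [3, 4].contains x) w)
      · rw [if_pos he, if_neg (by rw [Nat.even_add_one]; simpa using he)]
        exact hy
      · rw [if_neg he, if_pos (by rw [Nat.even_add_one]; exact he), inv', hy, inv_inv]
    · rw [show List.countP (fun x => [3, 4].contains x) [4] = 1 from rfl]
      by_cases he : Even (List.countP (fun x => [3, 4].contains x) w)
      · rw [if_pos he, if_neg (by rw [Nat.even_add_one]; simpa using he)]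
        exact hY
      · rw [if_neg he, if_pos (by rw [Nat.even_add_one]; exact he), inv', hY, inv_inv]

theorem vsq : vv * vv = 1 := by
  have h := rr (w := [2, 3, 3, 1, 3, 3, 3]) (k := 3) (by decide +kernel)
  have h1 := vconj ([2, 3, 3, 1, 3, 3, 3] ++ [2, 3, 3, 1, 3, 3, 3] ++ [2, 3, 3, 1, 3, 3, 3]) (by decide +kernel)
  rw [if_neg (by decide +kernel), wd_append, wd_append] at h1
  have h2 : wd gR [2, 3, 3, 1, 3, 3, 3] * wd gR [2, 3, 3, 1, 3, 3, 3] * wd gR [2, 3, 3, 1, 3, 3, 3] = 1 := by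
    rw [← h]
    simp only [pow_succ, pow_zero, one_mul]
  rw [h2, inv_one, one_mul, mul_one] at h1
  nth_rewrite 1 [h1]
  exact inv_mul_cancel _

theorem vinv : vv⁻¹ = vv := by
  rw [inv_eq_iff_mul_eq_one]
  exact vsq

/-- the centraliser of `v` -/
noncomputable abbrev KV : Subgroup Spor.HN := Subgroup.centralizer {vv}

theorem mem_KV {g : Spor.HN} : g ∈ KV ↔ vv * g = g * vv := by
  rw [Subgroup.mem_centralizer_singleton_iff]
  exact eq_comm

theorem KV1 : gR 1 ∈ KV := by
  rw [mem_KV]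
  simp only [vv, mul_assoc]

theorem KV3 : gR 3 ∈ KV := by
  rw [mem_KV]
  have h := vy
  rw [vinv, mul_assoc, inv_mul_eq_iff_eq_mul] at h
  exact h

theorem KV5 : gR 5 ∈ KV := by
  rw [mem_KV]
  have h := rr (w := [5, 1]) (k := 2) (by decide +kernel)
  have h1 : gR 5 * gR 1 * gR 5 = (gR 1)⁻¹ := by
    rw [eq_inv_iff_mul_eq_one, ← h]
    simp only [wd, List.map_cons, List.map_nil, List.prod_cons, List.prod_nil, mul_one, pow_two, mul_assoc]
  have h2 : gR 5 * vv * gR 5 = vv := by
    calc gR 5 * vv * gR 5 = (gR 5 * gR 1 * gR 5) * (gR 5 * gR 1 * gR 5) := by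
          have : gR 5 * gR 1 * gR 5 * (gR 5 * gR 1 * gR 5) = gR 5 * (gR 1 * (gR 5 * gR 5) * gR 1) * gR 5 := by
            simp only [mul_assoc]
          rw [this, g5, mul_one]
          rfl
      _ = vv⁻¹ := by
          rw [h1, vv, mul_inv_rev]
      _ = vv := vinv
  have h3 : vv * gR 5 = gR 5 * (gR 5 * vv * gR 5) := by
    simp only [← mul_assoc]
    rw [g5, one_mul]
  rw [h3, h2]

theorem KV2 : gR 2 ∈ KV := inv_mem KV1

theorem KV4 : gR 4 ∈ KV := inv_mem KV3

theorem wd_mem {w : List ℕ} (h : ∀ x ∈ w, gR x ∈ KV) : wd gR w ∈ KV := by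
  unfold wd
  apply list_prod_mem
  intro y hy
  rw [List.mem_map] at hy
  obtain ⟨x, hx, rfl⟩ := hy
  exact h x hx

theorem KV8 : gR 8 ∈ KV := by
  rw [g8]
  apply wd_mem
  intro x hx
  simp only [List.mem_cons, List.not_mem_nil, or_false] at hx
  rcases hx with rfl | rfl | rfl | rfl | rfl | rfl | rfl | rfl <;> first | exact KV1 | exact KV3 | exact KV4

theorem KV10 : gR 10 ∈ KV := by
  rw [g10]
  apply wd_mem
  intro x hx
  simp only [List.mem_cons, List.not_mem_nil, or_false] at hx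
  rcases hx with rfl | rfl | rfl | rfl | rfl | rfl | rfl | rfl | rfl | rfl | rfl | rfl | rfl <;>
    first | exact KV1 | exact KV3 | exact KV4 | exact KV2

theorem KV9 : gR 9 ∈ KV := inv_mem KV8

theorem KV11 : gR 11 ∈ KV := inv_mem KV10

/-- the letters of the centraliser -/
def kl : List ℕ := [1, 2, 3, 4, 5, 8, 9, 10, 11]

theorem kl_mem {x : ℕ} (h : x ∈ kl) : gR x ∈ KV := by
  simp only [kl, List.mem_cons, List.not_mem_nil, or_false] at h
  rcases h with rfl | rfl | rfl | rfl | rfl | rfl | rfl | rfl | rfl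
  · exact KV1
  · exact KV2
  · exact KV3
  · exact KV4
  · exact KV5
  · exact KV8
  · exact KV9
  · exact KV10
  · exact KV11

open Classical in
/-- the letters in the centraliser -/
noncomputable def kR (x : ℕ) : KV := if h : x ∈ kl then ⟨gR x, kl_mem h⟩ else 1

theorem kR_coe {x : ℕ} (h : x ∈ kl) : (kR x : Spor.HN) = gR x := by
  rw [kR, dif_pos h]

theorem wd_coe {w : List ℕ} (h : ∀ x ∈ w, x ∈ kl) : ((wd kR w : KV) : Spor.HN) = wd gR w := by
  induction w with
  | nil => rfl
  | cons x w ih =>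
    have h1 : wd kR (x :: w) = kR x * wd kR w := rfl
    have h2 : wd gR (x :: w) = gR x * wd gR w := rfl
    rw [h1, h2, Subgroup.coe_mul, kR_coe (h x (by simp)), ih (fun y hy => h y (by simp [hy]))]

theorem vv_mem : vv ∈ KV := by rw [mem_KV]

/-- the subgroup of order two -/
noncomputable def VV : Subgroup KV := Subgroup.zpowers ⟨vv, vv_mem⟩

instance : VV.Normal := by
  constructor
  intro n hn g
  obtain ⟨k, rfl⟩ := Subgroup.mem_zpowers_iff.1 hn
  have h1 : Commute g (⟨vv, vv_mem⟩ : KV) := by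
    apply Subtype.ext
    exact (mem_KV.1 g.2).symm
  have h2 := (h1.zpow_right k).eq
  rw [h2, mul_inv_cancel_right]
  exact hn

/-- the quotient -/
abbrev KQ : Type := KV ⧸ VV

/-- the letters of the quotient -/
noncomputable def qr (x : ℕ) : KQ := QuotientGroup.mk' VV (kR x)

theorem wd_qr (w : List ℕ) : wd qr w = QuotientGroup.mk' VV (wd kR w) := by
  unfold wd
  rw [map_list_prod, List.map_map]
  rfl

/-- lifting a relation -/
theorem lift_rel {w : List ℕ} (h : w.all (fun x => kl.contains x) = true) (hw : wd qr w = 1) :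
    wd gR w = 1 ∨ wd gR w = vv := by
  have h' : ∀ x ∈ w, x ∈ kl := fun x hx => by simpa using (List.all_eq_true.1 h) x hx
  rw [wd_qr] at hw
  have h1 : wd kR w ∈ VV := by
    rwa [QuotientGroup.mk'_apply, QuotientGroup.eq_one_iff] at hw
  obtain ⟨k, hk⟩ := Subgroup.mem_zpowers_iff.1 h1
  have h2 : vv ^ k = wd gR w := by
    rw [← wd_coe h', ← hk]
    rfl
  rcases Int.even_or_odd k with ⟨m, rfl⟩ | ⟨m, rfl⟩
  · left
    rw [← h2, ← two_mul, zpow_mul]
    have : vv ^ (2 : ℤ) = 1 := by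
      rw [zpow_two, vsq]
    rw [this, one_zpow]
  · right
    rw [← h2, zpow_add, zpow_mul]
    have : vv ^ (2 : ℤ) = 1 := by
      rw [zpow_two, vsq]
    rw [this, one_zpow, one_mul, zpow_one]

/-- a relation of the raw letters in the quotient -/
theorem rq {w : List ℕ} {k : ℕ} (h : RLR.contains (w, k) = true) (h2 : w.all (fun x => kl.contains x) = true) :
    (wd qr w) ^ k = 1 := by
  have h' : ∀ x ∈ w, x ∈ kl := fun x hx => by simpa using (List.all_eq_true.1 h2) x hx
  rw [wd_qr, ← map_pow]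
  have : (wd kR w) ^ k = 1 := by
    apply Subtype.ext
    rw [Subgroup.coe_pow, wd_coe h', rr h]
    rfl
  rw [this, map_one]

theorem qr1 : qr 1 * qr 1 = 1 := by
  have h : qr 1 * qr 1 = QuotientGroup.mk' VV ⟨vv, vv_mem⟩ := by
    unfold qr
    rw [← map_mul]
    have : kR 1 * kR 1 = ⟨vv, vv_mem⟩ := by
      apply Subtype.ext
      rw [Subgroup.coe_mul, kR_coe (by decide)]
      rfl
    rw [this]
  rw [h, QuotientGroup.mk'_apply, QuotientGroup.eq_one_iff]
  exact Subgroup.mem_zpowers _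

theorem qr_inv {x y : ℕ} (hx : x ∈ kl) (hy : y ∈ kl) (h : gR y = (gR x)⁻¹) : qr y = (qr x)⁻¹ := by
  unfold qr
  rw [← map_inv]
  congr 1
  apply Subtype.ext
  rw [Subgroup.coe_inv, kR_coe hx, kR_coe hy, h]

theorem qr2 : qr 2 = qr 1 := by
  rw [qr_inv (x := 1) (y := 2) (by decide) (by decide) g2, inv_eq_iff_mul_eq_one]
  exact qr1

/-- letters of the group of `x` and `y` -/
noncomputable def qU : ℕ → KQ
  | 1 => qr 1
  | 2 => qr 3
  | 3 => qr 4
  | 4 => qr 8
  | 5 => qr 9
  | 6 => qr 10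
  | 7 => qr 11
  | _ => 1

theorem qU_good : Good qU 7 HNTU.iv HNTU.RL where
  inv x := by
    match x with
    | 0 => exact inv_one.symm
    | 1 => exact (inv_eq_iff_mul_eq_one.2 qr1).symm
    | 2 => exact qr_inv (by decide) (by decide) g4
    | 3 => exact qr_inv (by decide) (by decide) (by rw [g4, inv_inv])
    | 4 => exact qr_inv (by decide) (by decide) g9
    | 5 => exact qr_inv (by decide) (by decide) (by rw [g9, inv_inv])
    | 6 => exact qr_inv (by decide) (by decide) g11
    | 7 => exact qr_inv (by decide) (by decide) (by rw [g11, inv_inv])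
    | (n + 8) =>
      have : ivL HNTU.iv (n + 8) = n + 8 := by simp [ivL, HNTU.iv]
      rw [this]
      exact inv_one.symm
  one x hx := by
    match x with
    | 0 => rfl
    | 1 => exact absurd hx (by decide)
    | 2 => exact absurd hx (by decide)
    | 3 => exact absurd hx (by decide)
    | 4 => exact absurd hx (by decide)
    | 5 => exact absurd hx (by decide)
    | 6 => exact absurd hx (by decide)
    | 7 => exact absurd hx (by decide)
    | (n + 8) => rfl
  rel := by
    intro p hp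
    have q2 := qr2
    have r1 := rq (w := [3]) (k := 6) (by decide +kernel) (by decide +kernel)
    have r2 := rq (w := [2, 4, 1, 3]) (k := 3) (by decide +kernel) (by decide +kernel)
    have r3 := rq (w := [2, 3, 3, 1, 3, 3, 3]) (k := 3) (by decide +kernel) (by decide +kernel)
    have r4 := rq (w := [1, 3]) (k := 8) (by decide +kernel) (by decide +kernel)
    have r5 := rq (w := [1, 3, 1, 3, 3, 3]) (k := 4) (by decide +kernel) (by decide +kernel)
    have r6 := rq (w := [9, 3, 1, 3, 1, 3, 3, 1, 4]) (k := 1) (by decide +kernel) (by decide +kernel)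
    have r7 := rq (w := [11, 3, 3, 1, 3, 1, 4, 1, 4, 1, 4, 1, 3, 2]) (k := 1) (by decide +kernel) (by decide +kernel)
    simp only [wd, List.map_cons, List.map_nil, List.prod_cons, List.prod_nil, mul_one, q2] at r1 r2 r3 r4 r5 r6 r7
    simp only [HNTU.RL, List.mem_cons, List.not_mem_nil, or_false] at hp
    rcases hp with rfl | rfl | rfl | rfl | rfl | rfl | rfl <;>
      simp only [List.map_cons, List.map_nil, List.prod_cons, List.prod_nil, mul_one]
    · exact r1
    · exact r2
    · exact r3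
    · exact r4
    · exact r5
    · exact r6
    · exact r7

theorem qr5 : qr 5 * qr 5 = 1 := by
  unfold qr
  rw [← map_mul]
  have : kR 5 * kR 5 = 1 := by
    apply Subtype.ext
    rw [Subgroup.coe_mul, kR_coe (by decide), g5]
    rfl
  rw [this, map_one]

/-- the nice relations hold in the quotient -/
theorem niceQ : (∀ p ∈ NL, ((p.1.map (nf qU (qr 5))).prod) ^ p.2 = 1) ∧ qU 1 = wd (nf qU (qr 5)) [11, 2, 4, 5, 4, 11] ∧
      qU 2 = wd (nf qU (qr 5)) [5, 4, 12, 11, 7, 12, 11, 7, 4, 5, 13] := by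
  have q2 := qr2
  refine nice qU_good qr5 ?_ ?_ ?_
  · have h := rq (w := [5, 1]) (k := 2) (by decide +kernel) (by decide +kernel)
    have h1 : qr 5 * qr 1 * (qr 5 * qr 1) = 1 := by
      rw [← h]
      simp only [wd, List.map_cons, List.map_nil, List.prod_cons, List.prod_nil, mul_one, pow_two]
    show qr 5 * qr 1 = qr 1 * qr 5
    rw [mul_eq_one_iff_eq_inv, mul_inv_rev, inv_eq_iff_mul_eq_one.2 qr1, inv_eq_iff_mul_eq_one.2 qr5] at h1
    exact h1
  · have h := rq (w := [5, 9, 5, 8, 2, 2]) (k := 1) (by decide +kernel) (by decide +kernel)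
    have e9 : qr 9 = (qr 8)⁻¹ := qr_inv (by decide) (by decide) g9
    have h1 : qr 5 * (qr 9 * (qr 5 * qr 8)) = 1 := by
      rw [← h]
      simp only [wd, List.map_cons, List.map_nil, List.prod_cons, List.prod_nil, mul_one, pow_one, q2, qr1]
    show qr 5 * qr 8 = qr 8 * qr 5
    rw [mul_eq_one_iff_eq_inv', inv_eq_iff_mul_eq_one.2 qr5, e9, inv_mul_eq_iff_eq_mul] at h1
    exact h1
  · have h := rq (w := [5, 4, 2, 4, 2, 4, 4, 4, 5, 3, 3, 3, 1, 3, 1, 3, 1, 4, 2, 4, 2, 4, 4, 4, 5, 3, 3, 3, 1, 3, 1, 3, 1,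
      4, 2, 4, 2, 4, 4, 4, 5, 3, 3, 3, 1, 3, 1, 3, 1]) (k := 1) (by decide +kernel) (by decide +kernel)
    have e4 : qr 4 = (qr 3)⁻¹ := qr_inv (by decide) (by decide) g4
    have e1 : (qr 1)⁻¹ = qr 1 := inv_eq_iff_mul_eq_one.2 qr1
    refine Eq.trans ?_ h
    rw [pow_one]
    have f1 : qU 1 = qr 1 := rfl
    have f2 : qU 2 = qr 3 := rfl
    simp only [wd, List.map_cons, List.map_nil, List.prod_cons, List.prod_nil, mul_one, q2, e4, f1, f2, pow_succ, pow_zero,
      one_mul, mul_inv_rev, e1, mul_assoc]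

/-- the nice letters as raw words -/
def nw : ℕ → List ℕ
  | 1 => [1, 1]
  | 2 => [5]
  | 3 => [11, 5, 10]
  | 4 => [8, 1, 9, 5]
  | 5 => [9, 9, 9, 1, 8, 8, 8, 5]
  | 6 => [9, 9, 9, 9, 9, 9, 1, 8, 8, 8, 8, 8, 8, 5]
  | 7 => [8, 8, 1, 9, 9, 5]
  | 8 => [9, 1, 8, 5]
  | 9 => [6]
  | 10 => [7]
  | 11 => [8, 8, 8, 8, 1, 9, 9, 9, 9, 5]
  | 12 => [10]
  | 13 => [11]
  | _ => []

/-- the nice letters of the centraliser -/
def nkl : List ℕ := [1, 2, 3, 4, 5, 6, 7, 8, 11, 12, 13]

theorem nw_qr {x : ℕ} (h : x ∈ nkl) : wd qr (nw x) = nf qU (qr 5) x := by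
  simp only [nkl, List.mem_cons, List.not_mem_nil, or_false] at h
  rcases h with rfl | rfl | rfl | rfl | rfl | rfl | rfl | rfl | rfl | rfl | rfl
  · show qr 1 * (qr 1 * 1) = 1
    rw [mul_one, qr1]
  · show qr 5 * 1 = qr 5
    rw [mul_one]
  · show qr 11 * (qr 5 * (qr 10 * 1)) = qr 11 * qr 5 * qr 10
    simp only [mul_one, mul_assoc]
  · show wd qr (nw 4) = wd qU w7 * qr 5
    simp only [nw, w7, wd, List.map_cons, List.map_nil, List.prod_cons, List.prod_nil, mul_one, mul_assoc, qU]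
  · show wd qr (nw 5) = wd qU w8 * qr 5
    simp only [nw, w8, wd, List.map_cons, List.map_nil, List.prod_cons, List.prod_nil, mul_one, mul_assoc, qU]
  · show wd qr (nw 6) = wd qU w9 * qr 5
    simp only [nw, w9, wd, List.map_cons, List.map_nil, List.prod_cons, List.prod_nil, mul_one, mul_assoc, qU]
  · show wd qr (nw 7) = wd qU wp * qr 5
    simp only [nw, wp, wd, List.map_cons, List.map_nil, List.prod_cons, List.prod_nil, mul_one, mul_assoc, qU]
  · show wd qr (nw 8) = wd qU wq * qr 5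
    simp only [nw, wq, wd, List.map_cons, List.map_nil, List.prod_cons, List.prod_nil, mul_one, mul_assoc, qU]
  · show wd qr (nw 11) = wd qU w6 * qr 5
    simp only [nw, w6, wd, List.map_cons, List.map_nil, List.prod_cons, List.prod_nil, mul_one, mul_assoc, qU]
  · show qr 10 * 1 = qr 10
    rw [mul_one]
  · show qr 11 * 1 = qr 11
    rw [mul_one]

theorem wd_flat {Γ : Type} [Group Γ] (q : ℕ → Γ) (f : ℕ → List ℕ) (w : List ℕ) :
    wd q (w.flatMap f) = wd (fun x => wd q (f x)) w := by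
  induction w with
  | nil => rfl
  | cons x w ih =>
    rw [List.flatMap_cons, wd_append, ih]
    rfl

theorem wd_nice {w : List ℕ} (h : ∀ x ∈ w, x ∈ nkl) : wd qr (w.flatMap nw) = wd (nf qU (qr 5)) w := by
  rw [wd_flat]
  unfold wd
  congr 1
  apply List.map_congr_left
  intro x hx
  exact nw_qr (h x hx)

/-- words that are trivial -/
def EW : List (List ℕ) := (NL.map fun p => (expand p).flatMap nw) ++
  [2 :: [11, 2, 4, 5, 4, 11].flatMap nw, 4 :: [5, 4, 12, 11, 7, 12, 11, 7, 4, 5, 13].flatMap nw]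

theorem NL_nkl : NL.all (fun p => p.1.all (fun x => nkl.contains x)) = true := by decide +kernel

theorem EW_kl : EW.all (fun w => w.all (fun x => kl.contains x)) = true := by decide +kernel

theorem EW_two {w : List ℕ} (h : w ∈ EW) : wd gR w = 1 ∨ wd gR w = vv := by
  refine lift_rel ((List.all_eq_true.1 EW_kl) w h) ?_
  obtain ⟨h1, h2, h3⟩ := niceQ
  rw [EW, List.mem_append] at h
  rcases h with h | h
  · rw [List.mem_map] at h
    obtain ⟨p, hp, rfl⟩ := h
    have h4 : ∀ x ∈ p.1, x ∈ nkl := by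
      intro x hx
      have := (List.all_eq_true.1 ((List.all_eq_true.1 NL_nkl) p hp)) x hx
      simpa using this
    have h5 : ∀ x ∈ expand p, x ∈ nkl := by
      intro x hx
      simp only [expand, List.mem_flatten, List.mem_replicate] at hx
      obtain ⟨u, ⟨_, rfl⟩, hx⟩ := hx
      exact h4 x hx
    rw [wd_nice h5]
    have h6 := h1 p hp
    rw [← prod_expand] at h6
    exact h6
  · simp only [List.mem_cons, List.not_mem_nil, or_false] at h
    rcases h with rfl | rfl
    · have h6 : wd qr (2 :: [11, 2, 4, 5, 4, 11].flatMap nw) = qr 2 * wd qr ([11, 2, 4, 5, 4, 11].flatMap nw) := rfl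
      rw [h6, wd_nice (by decide), ← h2, qr2]
      exact qr1
    · have h6 : wd qr (4 :: [5, 4, 12, 11, 7, 12, 11, 7, 4, 5, 13].flatMap nw) =
        qr 4 * wd qr ([5, 4, 12, 11, 7, 12, 11, 7, 4, 5, 13].flatMap nw) := rfl
      rw [h6, wd_nice (by decide), ← h3, qr_inv (x := 3) (y := 4) (by decide) (by decide) g4]
      exact inv_mul_cancel _

end Cfsg.Agent.HN
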