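import Cfsg.Agent.CosetEnum.HN.Phi
import Cfsg.Agent.CosetEnum.HN.Index

/-!
The nice letters of the presented Harada-Norton group satisfy the nice relations (owner: helper66).
-/

set_option autoImplicit false
set_option maxRecDepth 1000000
set_option linter.all false

namespace Cfsg.Agent.HN

open Cfsg.Agent.CosetEnum Cfsg.Spor

/-- the nice letters -/
noncomputable def gN (x : ℕ) : Spor.HN := wd gR (nw x)

theorem wd_gN (w : List ℕ) : wd gN w = wd gR (w.flatMap nw) := (wd_flat gR nw w).symm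

theorem NL_G {p : List ℕ × ℕ} (h : p ∈ NL) : (wd gN p.1) ^ p.2 = 1 := by
  have h1 : wd gR ((expand p).flatMap nw) = 1 :=
    EW_one (by rw [EW, List.mem_append]; exact Or.inl (List.mem_map.2 ⟨p, h, rfl⟩))
  rw [← wd_gN] at h1
  have h2 : wd gN (expand p) = (wd gN p.1) ^ p.2 := prod_expand _ _
  rw [← h2, h1]

theorem NLr {w : List ℕ} {k : ℕ} (h : NL.contains (w, k) = true) : (wd gN w) ^ k = 1 := NL_G (p := (w, k)) (by simpa using h)

theorem gN1 : gN 1 = vv := by simp [gN, nw, wd, vv]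

theorem gN2 : gN 2 = gR 5 := by simp [gN, nw, wd]

theorem gN9 : gN 9 = gR 6 := by simp [gN, nw, wd]

theorem gN10 : gN 10 = gR 7 := by simp [gN, nw, wd]

theorem gN12 : gN 12 = gR 10 := by simp [gN, nw, wd]

theorem gN13 : gN 13 = gR 11 := by simp [gN, nw, wd]

theorem nw_KV {x : ℕ} (h : (nw x).all (fun y => kl.contains y) = true) : gN x ∈ KV := by
  apply wd_mem
  intro y hy
  exact kl_mem (by simpa using (List.all_eq_true.1 h) y hy)

theorem inv_of {x : ℕ} (h1 : (nw x).all (fun y => kl.contains y) = true) (h2 : NL.contains ([1, x], 2) = true) :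
    gN x * gN x = 1 := by
  have h3 := NLr h2
  have h4 := mem_KV.1 (nw_KV h1)
  have h5 : wd gN [1, x] = vv * gN x := by
    rw [← gN1]
    simp [wd]
  rw [h5, pow_two] at h3
  have h6 : vv * gN x * (vv * gN x) = vv * vv * (gN x * gN x) := by
    calc vv * gN x * (vv * gN x) = vv * (gN x * vv) * gN x := by simp only [mul_assoc]
      _ = _ := by rw [← h4]; simp only [mul_assoc]
  rw [h6, vsq, one_mul] at h3
  exact h3

/-- exponents of the action on `t` -/
def te : ℕ → ℕ
  | 1 => 3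
  | 2 => 2
  | 8 => 2
  | 9 => 3
  | _ => 1

theorem t5 : (gR 6) ^ 5 = 1 := by
  have h := rr (w := [6]) (k := 5) (by decide +kernel)
  simpa [wd] using h

theorem tmod {a b : ℕ} (h : a % 5 = b % 5) : (gR 6) ^ a = (gR 6) ^ b := by
  rw [← Nat.div_add_mod a 5, ← Nat.div_add_mod b 5, h, pow_add, pow_add, pow_mul, pow_mul, t5, one_pow, one_pow]

theorem tconj_pow {g : Spor.HN} {k : ℕ} (h : g⁻¹ * gR 6 * g = (gR 6) ^ k) (m : ℕ) :
    g⁻¹ * (gR 6) ^ m * g = (gR 6) ^ (k * m) := by
  rw [pow_mul, ← h]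
  have := conj_pow (i := m) (a := g⁻¹) (b := gR 6)
  rw [inv_inv] at this
  exact this.symm

theorem tconj_mul {g h : Spor.HN} {k l : ℕ} (hg : g⁻¹ * gR 6 * g = (gR 6) ^ k) (hh : h⁻¹ * gR 6 * h = (gR 6) ^ l) :
    (g * h)⁻¹ * gR 6 * (g * h) = (gR 6) ^ (l * k) := by
  have : (g * h)⁻¹ * gR 6 * (g * h) = h⁻¹ * (g⁻¹ * gR 6 * g) * h := by simp only [mul_inv_rev, mul_assoc]
  rw [this, hg, tconj_pow hh]

theorem tconj_inv {g : Spor.HN} {k l : ℕ} (hg : g⁻¹ * gR 6 * g = (gR 6) ^ k) (h : k * l % 5 = 1) :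
    (g⁻¹)⁻¹ * gR 6 * g⁻¹ = (gR 6) ^ l := by
  have h1 := tconj_pow hg l
  rw [tmod (a := k * l) (b := 1) (by rw [h]), pow_one] at h1
  have h2 : (g⁻¹)⁻¹ * gR 6 * g⁻¹ = (g⁻¹)⁻¹ * (g⁻¹ * gR 6 ^ l * g) * g⁻¹ := by rw [h1]
  rw [h2, inv_inv]
  simp only [mul_assoc, mul_inv_cancel_left, mul_inv_cancel, mul_one]

theorem tx : (gR 1)⁻¹ * gR 6 * gR 1 = (gR 6) ^ 3 := by
  have h := rr (w := [2, 6, 1, 6, 6]) (k := 1) (by decide +kernel)
  have h1 : (gR 1)⁻¹ * gR 6 * gR 1 * (gR 6) ^ 2 = 1 := by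
    rw [← h]
    simp only [wd, g2, List.map_cons, List.map_nil, List.prod_cons, List.prod_nil, mul_one, pow_one, pow_two, mul_assoc]
  rw [mul_eq_one_iff_eq_inv] at h1
  rw [h1, inv_eq_iff_mul_eq_one, ← pow_add]
  exact t5

theorem ty : (gR 3)⁻¹ * gR 6 * gR 3 = (gR 6) ^ 1 := by
  have h := rr (w := [7, 4, 6, 3]) (k := 1) (by decide +kernel)
  have h1 : (gR 6)⁻¹ * ((gR 3)⁻¹ * gR 6 * gR 3) = 1 := by
    rw [← h]
    simp only [wd, g7, g4, List.map_cons, List.map_nil, List.prod_cons, List.prod_nil, mul_one, pow_one, mul_assoc]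
  rw [inv_mul_eq_one] at h1
  rw [pow_one, ← h1]

/-- product of the exponents -/
def tep (w : List ℕ) : ℕ := w.foldl (fun a x => te x * a) 1

theorem tconj_wd0 {L w : List ℕ} (hL : ∀ x ∈ L, (gR x)⁻¹ * gR 6 * gR x = (gR 6) ^ te x)
    (h : w.all (fun x => L.contains x) = true) : (wd gR w)⁻¹ * gR 6 * wd gR w = (gR 6) ^ tep w := by
  induction w using List.reverseRecOn with
  | nil => simp [wd, tep]
  | append_singleton w x ih =>
    rw [List.all_append, Bool.and_eq_true] at h
    have h1 := ih h.1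
    have h2 : wd gR (w ++ [x]) = wd gR w * gR x := by simp [wd]
    have h3 : x ∈ L := by simpa using h.2
    rw [h2, tconj_mul h1 (hL x h3), tep, tep, List.foldl_append]
    rfl

theorem tL4 : ∀ x ∈ [1, 2, 3, 4], (gR x)⁻¹ * gR 6 * gR x = (gR 6) ^ te x := by
  intro x hx
  simp only [List.mem_cons, List.not_mem_nil, or_false] at hx
  rcases hx with rfl | rfl | rfl | rfl
  · exact tx
  · rw [g2]; exact tconj_inv tx rfl
  · exact ty
  · rw [g4]; exact tconj_inv ty rfl

theorem tconj_h : (gR 8)⁻¹ * gR 6 * gR 8 = (gR 6) ^ 2 := by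
  rw [g8, tconj_wd0 tL4 (by decide)]
  exact tmod rfl

theorem tu : (gR 10)⁻¹ * gR 6 * gR 10 = (gR 6) ^ 1 := by
  rw [g10, tconj_wd0 tL4 (by decide)]
  exact tmod rfl

theorem tL8 : ∀ x ∈ [1, 2, 3, 4, 8, 9], (gR x)⁻¹ * gR 6 * gR x = (gR 6) ^ te x := by
  intro x hx
  simp only [List.mem_cons, List.not_mem_nil, or_false] at hx
  rcases hx with rfl | rfl | rfl | rfl | rfl | rfl
  · exact tx
  · rw [g2]; exact tconj_inv tx rfl
  · exact ty
  · rw [g4]; exact tconj_inv ty rfl
  · exact tconj_h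
  · rw [g9]; exact tconj_inv tconj_h rfl

/-- `z s t s z t t = 1` for `s = r z` -/
theorem ztr {x : ℕ} {w : List ℕ} (hx : nw x = w ++ [5]) (h1 : (nw x).all (fun y => kl.contains y) = true)
    (h2 : NL.contains ([1, x], 2) = true) (h3 : w.all (fun x => [1, 2, 3, 4, 8, 9].contains x) = true)
    (h4 : tep w % 5 = 3) : wd gN [2, x, 9, x, 2, 9, 9] = 1 := by
  have h5 := inv_of h1 h2
  have h6 : gN x = wd gR w * gR 5 := by
    rw [gN, hx, wd_append]
    simp [wd]
  have h7 := tconj_wd0 tL8 h3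
  rw [tmod (b := 3) (by rw [h4])] at h7
  have h8 : gR 5 * gN x = (wd gR w)⁻¹ := by
    rw [eq_inv_iff_mul_eq_one]
    have : gR 5 * gN x * wd gR w = gR 5 * (gN x * (wd gR w * gR 5)) * (gR 5)⁻¹ := by
      simp only [mul_assoc, mul_inv_cancel, mul_one]
    rw [this, ← h6, h5, mul_one, mul_inv_cancel]
  have h9 : gN x * gR 5 = wd gR w := by
    rw [h6, mul_assoc, g5, mul_one]
  have h10 : wd gN [2, x, 9, x, 2, 9, 9] = (gR 5 * gN x) * gR 6 * (gN x * gR 5) * (gR 6) ^ 2 := by
    simp only [wd, gN2, gN9, List.map_cons, List.map_nil, List.prod_cons, List.prod_nil, mul_one, pow_two, mul_assoc]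
  rw [h10, h8, h9, h7, ← pow_add]
  exact t5

theorem gN_TL : ∀ p ∈ TL, ((p.1.map gN).prod) ^ p.2 = 1 := by
  intro p hp
  simp only [TL, List.mem_cons, List.not_mem_nil, or_false] at hp
  have hu : (gR 10)⁻¹ * gR 6 * gR 10 = gR 6 := by
    have := tu
    rwa [pow_one] at this
  have htu : gR 6 * gR 10 = gR 10 * gR 6 := by
    rwa [mul_assoc, inv_mul_eq_iff_eq_mul] at hu
  have hzt : (gR 5 * gR 6) ^ 3 = 1 := by
    have h := rr (w := [5, 6]) (k := 3) (by decide +kernel)
    simpa [wd] using h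
  rcases hp with rfl | rfl | rfl | rfl | rfl | rfl | rfl | rfl | rfl | rfl | rfl
  · rw [pow_one]; exact ztr (w := [8, 8, 8, 8, 1, 9, 9, 9, 9]) rfl (by decide) (by decide +kernel) (by decide) (by decide)
  · rw [pow_one]; exact ztr (w := [8, 1, 9]) rfl (by decide) (by decide +kernel) (by decide) (by decide)
  · rw [pow_one]; exact ztr (w := [9, 9, 9, 1, 8, 8, 8]) rfl (by decide) (by decide +kernel) (by decide) (by decide)
  · rw [pow_one]
    exact ztr (w := [9, 9, 9, 9, 9, 9, 1, 8, 8, 8, 8, 8, 8]) rfl (by decide) (by decide +kernel) (by decide) (by decide)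
  · rw [pow_one]; exact ztr (w := [8, 8, 1, 9, 9]) rfl (by decide) (by decide +kernel) (by decide) (by decide)
  · rw [pow_one]; exact ztr (w := [9, 1, 8]) rfl (by decide) (by decide +kernel) (by decide) (by decide)
  · simp only [List.map_cons, List.map_nil, List.prod_cons, List.prod_nil, mul_one, gN9]
    exact t5
  · simp only [List.map_cons, List.map_nil, List.prod_cons, List.prod_nil, mul_one, gN9, gN1]
    have h1 := tconj_mul tx tx
    have h2 : (vv)⁻¹ * gR 6 * vv = (gR 6) ^ 4 := by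
      have h3 : vv = gR 1 * gR 1 := rfl
      rw [h3, h1]
      exact tmod rfl
    have h4 : (vv * gR 6) ^ 2 = (vv⁻¹ * gR 6 * vv) * gR 6 := by
      rw [vinv, pow_two]
      simp only [mul_assoc]
    rw [h4, h2, ← pow_succ]
    exact t5
  · simp only [List.map_cons, List.map_nil, List.prod_cons, List.prod_nil, mul_one, gN9, gN2]
    exact hzt
  · have h3 : gN 3 = (gR 10)⁻¹ * gR 5 * gR 10 := by
      simp only [gN, nw, wd, List.map_cons, List.map_nil, List.prod_cons, List.prod_nil, mul_one, g11, mul_assoc]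
    simp only [List.map_cons, List.map_nil, List.prod_cons, List.prod_nil, mul_one, gN9, h3]
    have h4 : (gR 10)⁻¹ * gR 5 * gR 10 * gR 6 = (gR 10)⁻¹ * (gR 5 * gR 6) * gR 10 := by
      have : (gR 10)⁻¹ * gR 5 * gR 10 * gR 6 = (gR 10)⁻¹ * gR 5 * (gR 10 * gR 6) := by simp only [mul_assoc]
      rw [this, ← htu]
      simp only [mul_assoc]
    rw [h4]
    have := conj_pow (i := 3) (a := (gR 10)⁻¹) (b := gR 5 * gR 6)
    rw [inv_inv] at this
    rw [this, hzt, mul_one, inv_mul_cancel]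
  · simp only [List.map_cons, List.map_nil, List.prod_cons, List.prod_nil, mul_one, gN9, gN10, gN12, gN13, pow_one, g11, g7]
    have : gR 10 * (gR 6 * ((gR 10)⁻¹ * (gR 6)⁻¹)) = (gR 10 * gR 6) * (gR 10)⁻¹ * (gR 6)⁻¹ := by simp only [mul_assoc]
    rw [this, ← htu, mul_inv_cancel_right, mul_inv_cancel]

/-- the nice relations -/
theorem gN_good : Good gN 13 iv RL where
  inv x := by
    match x with
    | 0 => exact inv_one.symm
    | 1 => exact (inv_eq_iff_mul_eq_one.2 (by rw [gN1]; exact vsq)).symm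
    | 2 => exact (inv_eq_iff_mul_eq_one.2 (by rw [gN2]; exact g5)).symm
    | 3 => exact (inv_eq_iff_mul_eq_one.2 (inv_of (by decide) (by decide +kernel))).symm
    | 4 => exact (inv_eq_iff_mul_eq_one.2 (inv_of (by decide) (by decide +kernel))).symm
    | 5 => exact (inv_eq_iff_mul_eq_one.2 (inv_of (by decide) (by decide +kernel))).symm
    | 6 => exact (inv_eq_iff_mul_eq_one.2 (inv_of (by decide) (by decide +kernel))).symm
    | 7 => exact (inv_eq_iff_mul_eq_one.2 (inv_of (by decide) (by decide +kernel))).symm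
    | 8 => exact (inv_eq_iff_mul_eq_one.2 (inv_of (by decide) (by decide +kernel))).symm
    | 9 => show gN 10 = _; rw [gN10, gN9, g7]
    | 10 => show gN 9 = _; rw [gN10, gN9, g7, inv_inv]
    | 11 => exact (inv_eq_iff_mul_eq_one.2 (inv_of (by decide) (by decide +kernel))).symm
    | 12 => show gN 13 = _; rw [gN12, gN13, g11]
    | 13 => show gN 12 = _; rw [gN12, gN13, g11, inv_inv]
    | (n + 14) =>
      have : ivL iv (n + 14) = n + 14 := by simp [ivL, iv]
      rw [this]
      exact inv_one.symm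
  one x hx := by
    match x with
    | 0 => rfl
    | 1 => exact absurd hx (by decide)
    | 2 => exact absurd hx (by decide)
    | 3 => exact absurd hx (by decide)
    | 4 => exact absurd hx (by decide)
    | 5 => exact absurd hx (by decide)
    | 6 => exact absurd hx (by decide)
    | 7 => exact absurd hx (by decide)
    | 8 => exact absurd hx (by decide)
    | 9 => exact absurd hx (by decide)
    | 10 => exact absurd hx (by decide)
    | 11 => exact absurd hx (by decide)
    | 12 => exact absurd hx (by decide)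
    | 13 => exact absurd hx (by decide)
    | (n + 14) => rfl
  rel p hp := by
    rcases RL_mem hp with h | h
    · exact NL_G h
    · exact gN_TL p h

theorem x_nice : gR 1 = wd gN [11, 2, 4, 5, 4, 11] := by
  have h : wd gR (2 :: [11, 2, 4, 5, 4, 11].flatMap nw) = 1 := EW_one (by decide)
  have h1 : gR 2 * wd gN [11, 2, 4, 5, 4, 11] = 1 := by
    rw [wd_gN]
    exact h
  rw [g2, inv_mul_eq_one] at h1
  exact h1

theorem y_nice : gR 3 = wd gN [5, 4, 12, 11, 7, 12, 11, 7, 4, 5, 13] := by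
  have h : wd gR (4 :: [5, 4, 12, 11, 7, 12, 11, 7, 4, 5, 13].flatMap nw) = 1 := EW_one (by decide)
  have h1 : gR 4 * wd gN [5, 4, 12, 11, 7, 12, 11, 7, 4, 5, 13] = 1 := by
    rw [wd_gN]
    exact h
  rw [g4, inv_mul_eq_one] at h1
  exact h1

theorem gN_top : Cl gN 13 = ⊤ := by
  rw [eq_top_iff, ← gR_univ.top]
  have hm : ∀ {w : List ℕ}, wOK 13 w = true → wd gN w ∈ Cl gN 13 := fun h => word_mem_Cl gN h
  have m1 : gR 1 ∈ Cl gN 13 := by rw [x_nice]; exact hm (by decide)
  have m3 : gR 3 ∈ Cl gN 13 := by rw [y_nice]; exact hm (by decide)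
  have m5 : gR 5 ∈ Cl gN 13 := by rw [← gN2]; exact mem_Cl gN rfl
  have m6 : gR 6 ∈ Cl gN 13 := by rw [← gN9]; exact mem_Cl gN rfl
  have m10 : gR 10 ∈ Cl gN 13 := by rw [← gN12]; exact mem_Cl gN rfl
  have m8 : gR 8 ∈ Cl gN 13 := by
    rw [g8]
    unfold wd
    apply list_prod_mem
    intro y hy
    rw [List.mem_map] at hy
    obtain ⟨x, hx, rfl⟩ := hy
    simp only [List.mem_cons, List.not_mem_nil, or_false] at hx
    rcases hx with rfl | rfl | rfl | rfl | rfl | rfl | rfl | rfl <;> first | exact m1 | exact m3 | exact inv_mem m3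
  unfold Cl
  rw [Subgroup.closure_le]
  rintro _ ⟨x, hx, rfl⟩
  obtain ⟨h1, h2⟩ := isLet_iff.1 hx
  interval_cases x
  · exact m1
  · exact inv_mem m1
  · exact m3
  · exact inv_mem m3
  · exact m5
  · exact m6
  · exact inv_mem m6
  · exact m8
  · exact inv_mem m8
  · exact m10
  · exact inv_mem m10

/-- the index of the alternating group is at most `1140000` -/
theorem index_HN : Finite (Spor.HN ⧸ Cl gN 11) ∧ (Cl gN 11).index ≤ 1140000 := index_H gN_good gN_top

end Cfsg.Agent.HN
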