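import Cfsg.Agent.CosetEnum.HN.PA
import Cfsg.Agent.CosetEnum.HN.Ne
import Cfsg.Agent.KMat.Simp
import Cfsg.Prelude.Def_Sporadic

/-!
The order and the simplicity of the Harada-Norton group (owner: helper66).
-/

set_option autoImplicit false
set_option maxRecDepth 1000000
set_option linter.all false

namespace Cfsg.Agent.HN

open Cfsg.Agent.CosetEnum Cfsg.Agent.KMat Cfsg.Spor

theorem QA_equiv : Nonempty (QA ≃* alternatingGroup (Fin 12)) := by
  obtain ⟨A, hA, _⟩ := HNT12.tabOK.exists_action UA
  have hF := faith_card.1 A hA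
  let f : QA →* Equiv.Perm (Fin 12) := @MulAction.toPermHom QA (Fin HNT12.P.m) _ A
  have hf : Function.Injective f := hF
  have h1 : Nat.card f.range = 239500800 := by
    rw [← card_QA]
    exact (Nat.card_congr (MonoidHom.ofInjective hf).toEquiv).symm
  have h2 : f.range.index = 2 := by
    have h3 := f.range.card_mul_index
    rw [h1, Nat.card_perm, Nat.card_eq_fintype_card, Fintype.card_fin] at h3
    have h4 : (Nat.factorial 12) = 239500800 * 2 := by decide +kernel
    rw [h4] at h3
    exact Nat.eq_of_mul_eq_mul_left (by norm_num) h3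
  have h3 : f.range = alternatingGroup (Fin 12) := Equiv.Perm.eq_alternatingGroup_of_index_eq_two h2
  exact ⟨(MonoidHom.ofInjective hf).trans (MulEquiv.subgroupCongr h3)⟩

theorem QA_simple : IsSimpleGroup QA := by
  obtain ⟨e⟩ := QA_equiv
  haveI : IsSimpleGroup (alternatingGroup (Fin 12)) := alternatingGroup.isSimpleGroup (by
    rw [Nat.card_eq_fintype_card, Fintype.card_fin]; norm_num)
  exact e.isSimpleGroup

/-- the alternating group in the Harada-Norton group -/
noncomputable abbrev HA : Subgroup Spor.HN := Cl gN 11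

/-- the homomorphism of the alternating group -/
noncomputable abbrev tN : QA →* Spor.HN := th gN_good

theorem t_mv : Nat.beq (walk PM ms [6] e7) e7 = false := by decide +kernel

theorem t_ne : gN 9 ≠ 1 := by
  rw [gN9]
  intro h
  have h1 := congrArg phi h
  rw [phi_let (by decide), map_one] at h1
  refine RT.ne (u := [6]) (u' := []) ?_ (by simp) e7_vec t_mv (by simpa using h1)
  intro x hx
  simp only [List.mem_cons, List.not_mem_nil, or_false] at hx
  subst hx
  decide

theorem tN_inj : Function.Injective tN := by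
  haveI := QA_simple
  rcases (inferInstance : tN.ker.Normal).eq_bot_or_eq_top with h | h
  · exact (MonoidHom.ker_eq_bot_iff _).1 h
  · exfalso
    have h1 : qa 9 ∈ tN.ker := by rw [h]; exact Subgroup.mem_top _
    rw [MonoidHom.mem_ker, th_qa gN_good (by decide)] at h1
    exact t_ne h1

theorem tN_range : tN.range = HA := by
  apply le_antisymm
  · rintro _ ⟨a, rfl⟩
    exact th_mem gN_good a
  · show Cl gN 11 ≤ _
    unfold Cl
    rw [Subgroup.closure_le]
    rintro _ ⟨x, hx, rfl⟩
    exact ⟨qa x, th_qa gN_good hx⟩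

noncomputable def eHA : QA ≃* HA := (MonoidHom.ofInjective tN_inj).trans (MulEquiv.subgroupCongr tN_range)

theorem card_HA : Nat.card HA = 239500800 := by
  rw [← card_QA]
  exact (Nat.card_congr eHA.toEquiv).symm

theorem HA_simple : IsSimpleGroup HA := by
  haveI := QA_simple
  exact eHA.symm.isSimpleGroup

theorem card_eq : Nat.card Spor.HN = 239500800 * HA.index := by
  rw [← card_HA]
  exact (HA.card_mul_index).symm

theorem index_pos : HA.index ≠ 0 := by
  obtain ⟨h1, h2⟩ := index_HN
  haveI := h1
  exact Subgroup.index_ne_zero_of_finite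

theorem finite_HN : Finite Spor.HN := by
  apply Nat.finite_of_card_ne_zero
  rw [card_eq]
  exact Nat.mul_ne_zero (by norm_num) index_pos

theorem index_eq : HA.index = 1140000 := by
  have h1 := dvd_card
  rw [card_eq] at h1
  have h2 : 1140000 ∣ HA.index := by
    have h3 : 3110400 * 1140000 ∣ 3110400 * (77 * HA.index) := by
      have e1 : 3110400 * 1140000 = 2 ^ 14 * 3 ^ 6 * 5 ^ 6 * 19 := by norm_num
      have e2 : 3110400 * (77 * HA.index) = 239500800 * HA.index := by ring
      rw [e1, e2]
      exact h1
    have h4 := Nat.dvd_of_mul_dvd_mul_left (by norm_num) h3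
    exact (Nat.Coprime.dvd_of_dvd_mul_left (by norm_num) h4)
  have h3 := index_HN.2
  obtain ⟨c, hc⟩ := h2
  have h4 := index_pos
  have h5 : HA.index ≤ 1140000 := h3
  rcases c with _ | c
  · omega
  · rw [hc] at h5 ⊢
    have : c = 0 := by
      by_contra h
      have : 1 ≤ c := Nat.one_le_iff_ne_zero.2 h
      nlinarith
    subst this
    rfl

theorem card_HN : Nat.card Spor.HN = 273030912000000 := by
  rw [card_eq, index_eq]

theorem normal_top (N : Subgroup Spor.HN) (hN : N.Normal) (h : HA ≤ N) : N = ⊤ := by
  have hm : ∀ {x : ℕ}, isLet 11 x = true → gN x ∈ N := fun hx => h (mem_Cl gN hx)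
  let π := QuotientGroup.mk' N
  have hp : ∀ {x : ℕ}, isLet 11 x = true → π (gN x) = 1 := fun hx => (QuotientGroup.eq_one_iff _).2 (hm hx)
  have r1 := gN_good.rel ([12, 12, 6, 8], 1) (by decide +kernel)
  have r2 := gN_good.rel ([12, 11, 4], 5) (by decide +kernel)
  have h1 : π (gN 12) ^ 2 = 1 := by
    have := congrArg π r1
    simp only [List.map_cons, List.map_nil, List.prod_cons, List.prod_nil, mul_one, pow_one, map_mul, map_one,
      hp (x := 6) (by decide), hp (x := 8) (by decide)] at this
    rw [pow_two]
    exact this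
  have h2 : π (gN 12) ^ 5 = 1 := by
    have := congrArg π r2
    simp only [List.map_cons, List.map_nil, List.prod_cons, List.prod_nil, mul_one, map_pow, map_mul, map_one,
      hp (x := 11) (by decide), hp (x := 4) (by decide)] at this
    exact this
  have h3 : π (gN 12) = 1 := by
    have h4 : π (gN 12) ^ 5 = π (gN 12) ^ 2 * π (gN 12) ^ 2 * π (gN 12) := by
      rw [← pow_add, ← pow_succ]
    rw [h1, h2, one_mul, one_mul] at h4
    exact h4.symm
  have h12 : gN 12 ∈ N := (QuotientGroup.eq_one_iff _).1 h3
  rw [eq_top_iff, ← gN_top]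
  unfold Cl
  rw [Subgroup.closure_le]
  rintro _ ⟨x, hx, rfl⟩
  obtain ⟨h4, h5⟩ := isLet_iff.1 (show isLet 13 x = true from hx)
  rcases Nat.lt_or_ge x 12 with h6 | h6
  · exact hm (isLet_iff.2 ⟨h4, by omega⟩)
  · rcases Nat.lt_or_ge x 13 with h7 | h7
    · have : x = 12 := by omega
      subst this
      exact h12
    · have : x = 13 := by omega
      subst this
      have : gN 13 = (gN 12)⁻¹ := gN_good.inv 12
      rw [this]
      exact inv_mem h12

/-- the vector fixed by the alternating group is moved by the representatives of the double cosets -/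
theorem cenB : (Ws.tail).all (fun W => (List.range' 1 11).any (fun s =>
    !(Nat.beq (walk PM ms ((W ++ [s]).flatMap nw) 1) (walk PM ms (W.flatMap nw) 1)))) = true := by decide +kernel

theorem fixB : (List.range' 1 11).all (fun s => Nat.beq (walk PM ms (nw s) 1) 1) = true := by decide +kernel

/-- image of a vector under a group element -/
noncomputable def im (g : Spor.HN) : Fin PM.n → ZMod PM.p :=
  Matrix.vecMul (dec PM 1) ((phi g : MU) : Matrix (Fin PM.n) (Fin PM.n) (ZMod PM.p))

theorem im_mul (a b : Spor.HN) : im (a * b) =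
    Matrix.vecMul (im a) ((phi b : MU) : Matrix (Fin PM.n) (Fin PM.n) (ZMod PM.p)) := by
  unfold im
  rw [map_mul, Units.val_mul, Matrix.vecMul_vecMul]

theorem nw_ok : (List.range' 1 13).all (fun x => wOK 11 (nw x)) = true := by decide +kernel

theorem im_word {w : List ℕ} (h : wOK 11 w = true) : im (wd gR w) = dec PM (walk PM ms w 1) := by
  have h1 : ∀ x ∈ w, x ∈ letsM := fun x hx => isLet11 ((List.all_eq_true.1 h) x hx)
  have h2 := (walk_sound PM_ok (u := w) (fun x hx => RT.mok x (h1 x hx)) e0_vec).2
  rw [h2, im, phi_wd h]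
  congr 1
  exact RT.gm_word h1

theorem wOK_flat {w : List ℕ} (h : wOK 13 w = true) : wOK 11 (w.flatMap nw) = true := by
  simp only [wOK, List.all_eq_true] at h ⊢
  intro y hy
  rw [List.mem_flatMap] at hy
  obtain ⟨x, hx, hy⟩ := hy
  have h1 := isLet_iff.1 (h x hx)
  have h2 := (List.all_eq_true.1 nw_ok) x (by rw [List.mem_range'_1]; omega)
  simp only [wOK, List.all_eq_true] at h2
  exact h2 y hy

theorem im_nice {w : List ℕ} (h : wOK 13 w = true) : im (wd gN w) = dec PM (walk PM ms (w.flatMap nw) 1) := by
  rw [wd_gN]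
  exact im_word (wOK_flat h)

theorem im_one : im 1 = dec PM 1 := by
  unfold im
  rw [map_one, Units.val_one, Matrix.vecMul_one]

/-- elements of the alternating group fix the vector -/
theorem im_HA {h : Spor.HN} (hh : h ∈ HA) : im h = dec PM 1 := by
  have hh' : h ∈ Subgroup.closure (gN '' {x | isLet 11 x = true}) := hh
  induction hh' using Subgroup.closure_induction with
  | mem y hy =>
    obtain ⟨x, hx, rfl⟩ := hy
    have h1 := isLet_iff.1 (show isLet 11 x = true from hx)
    have h2 := (List.all_eq_true.1 fixB) x (by rw [List.mem_range'_1]; omega)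
    have h3 : wOK 11 (nw x) = true := (List.all_eq_true.1 nw_ok) x (by rw [List.mem_range'_1]; omega)
    have h4 := im_word h3
    rw [beq_true h2] at h4
    exact h4
  | one => exact im_one
  | mul a b ha hb h1 h2 =>
    rw [im_mul, h1 ha]
    exact h2 hb
  | inv a ha h1 =>
    have h2 := h1 ha
    have h3 := im_mul a a⁻¹
    rw [mul_inv_cancel, h2, im_one] at h3
    exact h3.symm

theorem wOK_Ws : Ws.all (wOK 13) = true := by decide +kernel

theorem center_le : Subgroup.center Spor.HN ≤ HA := by
  intro k hk
  rw [Subgroup.mem_center_iff] at hk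
  obtain ⟨W, hW, a, ha⟩ := cover_H gN_good gN_top k
  set h := k * (ev gN W * tN a)⁻¹ with hh
  have hk1 : k = h * (ev gN W * tN a) := by rw [hh, inv_mul_cancel_right]
  have hta : tN a ∈ HA := th_mem gN_good a
  by_cases hW0 : W = []
  · subst hW0
    rw [hk1]
    refine mul_mem ha ?_
    rw [show ev gN [] = 1 from rfl, one_mul]
    exact hta
  · exfalso
    have hW1 : W ∈ Ws.tail := by
      simp only [Ws, List.tail_cons, List.mem_cons, List.not_mem_nil, or_false] at hW ⊢
      rcases hW with rfl | hW
      · exact absurd rfl hW0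
      · exact hW
    -- the image of the vector under `W` is fixed by the alternating group
    have h1 : im k = Matrix.vecMul (im (ev gN W)) ((phi (tN a) : MU) : Matrix (Fin PM.n) (Fin PM.n) (ZMod PM.p)) := by
      rw [hk1, im_mul, im_HA ha, ← im_mul]
      rfl
    have h2 : ∀ s ∈ HA, Matrix.vecMul (im k) ((phi s : MU) : Matrix (Fin PM.n) (Fin PM.n) (ZMod PM.p)) = im k := by
      intro s hs
      rw [← im_mul, ← hk s, im_mul, im_HA hs]
      rfl
    have h3 : im k = im (ev gN W) := by
      have h4 := h2 _ (inv_mem hta)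
      rw [h1, ← im_mul, ← im_mul] at h4
      rw [h1, ← im_mul, ← h4, mul_assoc, mul_inv_cancel, mul_one]
    rw [h3] at h2
    have h5 := (List.all_eq_true.1 cenB) W hW1
    rw [List.any_eq_true] at h5
    obtain ⟨s, hs, h6⟩ := h5
    rw [List.mem_range'_1] at hs
    have hs' : isLet 11 s = true := isLet_iff.2 (by omega)
    have hWo : wOK 13 W = true := (List.all_eq_true.1 wOK_Ws) W hW
    have hWs : wOK 13 (W ++ [s]) = true := by
      simp only [wOK, List.all_append, Bool.and_eq_true] at hWo ⊢
      refine ⟨hWo, ?_⟩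
      simp only [List.all_cons, List.all_nil, Bool.and_true]
      exact isLet_iff.2 (by omega)
    have h7 := h2 (gN s) (mem_Cl gN hs')
    rw [← im_mul] at h7
    have h8 : ev gN W * gN s = wd gN (W ++ [s]) := by
      rw [wd_append]
      show _ = _ * wd gN [s]
      simp [wd, ev]
    rw [h8, show ev gN W = wd gN W from rfl, im_nice hWs, im_nice hWo] at h7
    have h9 : ∀ {w : List ℕ}, wOK 13 w = true → Vec PM (walk PM ms (w.flatMap nw) 1) := fun {w} hw =>
      (walk_sound PM_ok (u := w.flatMap nw) (fun x hx => RT.mok x (isLet11 ((List.all_eq_true.1 (wOK_flat hw)) x hx))) e0_vec).1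
    have h10 := dec_inj PM_ok (h9 hWs) (h9 hWo) h7
    rw [h10] at h6
    simp at h6

theorem arith (r a b : ℕ) (hr : r.Prime) (h : r ^ a ∣ 1140000) (hb : b ≤ a) (hm : r ^ b ≡ r ^ a [MOD 11]) : b = a := by
  rcases Nat.eq_zero_or_pos a with rfl | ha
  · omega
  · have h1 : r ∣ 1140000 := (dvd_pow_self r (by omega)).trans h
    have h2 : 1140000 = 2 ^ 5 * 3 * 5 ^ 4 * 19 := by norm_num
    rw [h2, hr.dvd_mul, hr.dvd_mul, hr.dvd_mul] at h1
    have h3 : r = 2 ∨ r = 3 ∨ r = 5 ∨ r = 19 := by
      rcases h1 with ((h1 | h1) | h1) | h1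
      · exact Or.inl ((Nat.prime_dvd_prime_iff_eq hr (by norm_num)).1 (hr.dvd_of_dvd_pow h1))
      · exact Or.inr (Or.inl ((Nat.prime_dvd_prime_iff_eq hr (by norm_num)).1 h1))
      · exact Or.inr (Or.inr (Or.inl ((Nat.prime_dvd_prime_iff_eq hr (by norm_num)).1 (hr.dvd_of_dvd_pow h1))))
      · exact Or.inr (Or.inr (Or.inr ((Nat.prime_dvd_prime_iff_eq hr (by norm_num)).1 h1)))
    have key : ∀ {p c : ℕ}, r = p → ¬ p ^ (c + 1) ∣ 1140000 → a ≤ c := by
      intro p c h4 h5
      subst h4
      by_contra h6
      exact h5 ((pow_dvd_pow r (by omega)).trans h)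
    rcases h3 with h3 | h3 | h3 | h3
    · have h4 := key (c := 5) h3 (by norm_num)
      subst h3
      interval_cases a <;> interval_cases b <;> first | rfl | (exfalso; revert hm; decide)
    · have h4 := key (c := 1) h3 (by norm_num)
      subst h3
      interval_cases a <;> interval_cases b <;> first | rfl | (exfalso; revert hm; decide)
    · have h4 := key (c := 4) h3 (by norm_num)
      subst h3
      interval_cases a <;> interval_cases b <;> first | rfl | (exfalso; revert hm; decide)
    · have h4 := key (c := 1) h3 (by norm_num)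
      subst h3
      interval_cases a <;> interval_cases b <;> first | rfl | (exfalso; revert hm; decide)

theorem simple_HN : IsSimpleGroup Spor.HN := by
  haveI := finite_HN
  haveI : Fact (Nat.Prime 11) := ⟨by norm_num⟩
  obtain ⟨x, hx⟩ := exists_prime_orderOf_dvd_card' (G := HA) 11 (by rw [card_HA]; norm_num)
  refine simple_of_sub HA HA_simple (q := 11) (x : Spor.HN) x.2 (by rw [Subgroup.orderOf_coe]; exact hx) ?_ ?_ normal_top
    center_le
  · rw [index_eq]
    norm_num
  · rw [index_eq]
    exact arith

/-- **The presented group is the Harada-Norton group.** -/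
theorem isHN_HN : Cfsg.IsHN Spor.HN := ⟨simple_HN, card_HN⟩

end Cfsg.Agent.HN
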