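import Cfsg.Agent.CosetEnum.HN.PData

/-!
Relations of the matrices of the `p`-subgroups, part 1 (owner: helper66).
-/

set_option autoImplicit false
set_option maxRecDepth 1000000

namespace Cfsg.Agent.HN

open Cfsg.Agent.CosetEnum Cfsg.Agent.KMat

theorem pc27 : allR (prB PM ms prsG) 27 3 = true := by decide +kernel

theorem pc30 : allR (prB PM ms prsG) 30 3 = true := by decide +kernel

theorem pc33 : allR (prB PM ms prsG) 33 3 = true := by decide +kernel

theorem pc36 : allR (prB PM ms prsG) 36 3 = true := by decide +kernel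

theorem pc39 : allR (prB PM ms prsG) 39 3 = true := by decide +kernel

theorem pc42 : allR (prB PM ms prsG) 42 3 = true := by decide +kernel

theorem pc45 : allR (prB PM ms prsG) 45 3 = true := by decide +kernel

theorem pc48 : allR (prB PM ms prsG) 48 3 = true := by decide +kernel

theorem pc51 : allR (prB PM ms prsG) 51 3 = true := by decide +kernel

theorem pcv1 : Cov (prB PM ms prsG) 27 54 :=
  (((((((((Cov.of pc27 rfl).trans (Cov.of pc30 rfl)).trans (Cov.of pc33 rfl)).trans (Cov.of pc36 rfl)).trans (Cov.of pc39 rfl)).trans (Cov.of pc42 rfl)).trans (Cov.of pc45 rfl)).trans (Cov.of pc48 rfl)).trans (Cov.of pc51 rfl))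

end Cfsg.Agent.HN
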