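import Cfsg.Agent.CosetEnum.HN.PData

/-!
Relations of the matrices of the `p`-subgroups, part 3 (owner: helper66).
-/

set_option autoImplicit false
set_option maxRecDepth 1000000

namespace Cfsg.Agent.HN

open Cfsg.Agent.CosetEnum Cfsg.Agent.KMat

theorem pc81 : allR (prB PM ms prsG) 81 3 = true := by decide +kernel

theorem pc84 : allR (prB PM ms prsG) 84 3 = true := by decide +kernel

theorem pc87 : allR (prB PM ms prsG) 87 3 = true := by decide +kernel

theorem pc90 : allR (prB PM ms prsG) 90 3 = true := by decide +kernel

theorem pc93 : allR (prB PM ms prsG) 93 3 = true := by decide +kernel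

theorem pc96 : allR (prB PM ms prsG) 96 3 = true := by decide +kernel

theorem pc99 : allR (prB PM ms prsG) 99 3 = true := by decide +kernel

theorem pc102 : allR (prB PM ms prsG) 102 3 = true := by decide +kernel

theorem pc105 : allR (prB PM ms prsG) 105 3 = true := by decide +kernel

theorem pcv3 : Cov (prB PM ms prsG) 81 108 :=
  (((((((((Cov.of pc81 rfl).trans (Cov.of pc84 rfl)).trans (Cov.of pc87 rfl)).trans (Cov.of pc90 rfl)).trans (Cov.of pc93 rfl)).trans (Cov.of pc96 rfl)).trans (Cov.of pc99 rfl)).trans (Cov.of pc102 rfl)).trans (Cov.of pc105 rfl))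

end Cfsg.Agent.HN
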