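import Cfsg.Agent.CosetEnum.HN.PData

/-!
Relations of the matrices of the `p`-subgroups, part 4 (owner: helper66).
-/

set_option autoImplicit false
set_option maxRecDepth 1000000

namespace Cfsg.Agent.HN

open Cfsg.Agent.CosetEnum Cfsg.Agent.KMat

theorem pc108 : allR (prB PM ms prsG) 108 3 = true := by decide +kernel

theorem pc111 : allR (prB PM ms prsG) 111 3 = true := by decide +kernel

theorem pc114 : allR (prB PM ms prsG) 114 3 = true := by decide +kernel

theorem pc117 : allR (prB PM ms prsG) 117 3 = true := by decide +kernel

theorem pc120 : allR (prB PM ms prsG) 120 3 = true := by decide +kernel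

theorem pc123 : allR (prB PM ms prsG) 123 3 = true := by decide +kernel

theorem pc126 : allR (prB PM ms prsG) 126 3 = true := by decide +kernel

theorem pc129 : allR (prB PM ms prsG) 129 3 = true := by decide +kernel

theorem pc132 : allR (prB PM ms prsG) 132 1 = true := by decide +kernel

theorem pcv4 : Cov (prB PM ms prsG) 108 133 :=
  (((((((((Cov.of pc108 rfl).trans (Cov.of pc111 rfl)).trans (Cov.of pc114 rfl)).trans (Cov.of pc117 rfl)).trans (Cov.of pc120 rfl)).trans (Cov.of pc123 rfl)).trans (Cov.of pc126 rfl)).trans (Cov.of pc129 rfl)).trans (Cov.of pc132 rfl))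

end Cfsg.Agent.HN
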