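import Cfsg.Agent.CosetEnum.HN.PR0
import Cfsg.Agent.CosetEnum.HN.PR1
import Cfsg.Agent.CosetEnum.HN.PR2
import Cfsg.Agent.CosetEnum.HN.PR3
import Cfsg.Agent.CosetEnum.HN.PR4

/-!
The order of the Harada-Norton group is divisible by 2^14 3^6 5^6 19 (owner: helper66).
-/

set_option autoImplicit false
set_option maxRecDepth 1000000
set_option linter.all false

namespace Cfsg.Agent.HN

open Cfsg.Agent.CosetEnum Cfsg.Agent.KMat Cfsg.Spor

theorem pcov : Cov (prB PM ms prsG) 0 133 :=
  (((pcv0.trans pcv1).trans pcv2).trans pcv3).trans pcv4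

/-- the units of the 50 matrices -/
noncomputable def Ug : ℕ → MU
  | 47 => wd RT.gm (gw 46) * wd RT.gm (gw 46)
  | 48 => (wd RT.gm (gw 46) * wd RT.gm (gw 46)) * (wd RT.gm (gw 46) * wd RT.gm (gw 46))
  | 49 => ((wd RT.gm (gw 46) * wd RT.gm (gw 46)) * (wd RT.gm (gw 46) * wd RT.gm (gw 46))) *
      ((wd RT.gm (gw 46) * wd RT.gm (gw 46)) * (wd RT.gm (gw 46) * wd RT.gm (gw 46)))
  | 50 => (((wd RT.gm (gw 46) * wd RT.gm (gw 46)) * (wd RT.gm (gw 46) * wd RT.gm (gw 46))) *
      ((wd RT.gm (gw 46) * wd RT.gm (gw 46)) * (wd RT.gm (gw 46) * wd RT.gm (gw 46)))) *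
      (((wd RT.gm (gw 46) * wd RT.gm (gw 46)) * (wd RT.gm (gw 46) * wd RT.gm (gw 46))) *
      ((wd RT.gm (gw 46) * wd RT.gm (gw 46)) * (wd RT.gm (gw 46) * wd RT.gm (gw 46))))
  | x => if x ≤ 19 then RT.gm x else wd RT.gm (gw x)

/-- the 50 letters -/
def lets50 : List ℕ := List.range' 1 50

theorem gw_ok : (List.range' 20 27).all (fun x => (gw x).all (fun y => letsM.contains y)) = true := by decide +kernel

theorem mem_prsW (x : ℕ) (h : 20 ≤ x ∧ x ≤ 46) : ([x], gw x) ∈ prsG := by
  have h1 : (List.range' 20 27).all (fun x => prsG.contains ([x], gw x)) = true := by decide +kernel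
  have h2 := (List.all_eq_true.1 h1) x (by rw [List.mem_range'_1]; omega)
  simpa using h2

theorem Ug_low {x : ℕ} (h : x ≤ 19) : Ug x = RT.gm x := by
  unfold Ug
  split
  · omega
  · omega
  · omega
  · omega
  · rw [if_pos h]

theorem Ug_mid {x : ℕ} (h : 20 ≤ x ∧ x ≤ 46) : Ug x = wd RT.gm (gw x) := by
  unfold Ug
  split
  · omega
  · omega
  · omega
  · omega
  · rw [if_neg (by omega)]

theorem wm_single (x : ℕ) : wm PM ms [x] = mat PM (ms x) := by simp [wm]

theorem dbl {x y : ℕ} (hx : 1 ≤ x ∧ x ≤ 50) (hy : 1 ≤ y ∧ y ≤ 50) (h : prsG.contains ([y], [x, x]) = true) {u : MU}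
    (hu : (u : Matrix (Fin PM.n) (Fin PM.n) (ZMod PM.p)) = mat PM (ms x)) :
    ((u * u : MU) : Matrix (Fin PM.n) (Fin PM.n) (ZMod PM.p)) = mat PM (ms y) := by
  have h1 := wm_eq PM_ok (by show 1 < 5; norm_num) pcov (p := ([y], [x, x])) (by simpa using h) (by
    intro z hz
    simp only [List.mem_cons, List.not_mem_nil, or_false] at hz
    subst hz
    exact mok hy) (by
    intro z hz
    simp only [List.mem_cons, List.not_mem_nil, or_false, or_self] at hz
    subst hz
    exact mok hx)
  rw [wm_single] at h1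
  rw [Units.val_mul, hu, h1]
  simp [wm]

theorem val46 {x : ℕ} (h : 20 ≤ x ∧ x ≤ 46) :
    ((wd RT.gm (gw x) : MU) : Matrix (Fin PM.n) (Fin PM.n) (ZMod PM.p)) = mat PM (ms x) := by
  have h2 : ∀ y ∈ gw x, y ∈ letsM := by
    intro y hy
    have := (List.all_eq_true.1 ((List.all_eq_true.1 gw_ok) x (by rw [List.mem_range'_1]; omega))) y hy
    simpa using this
  have h1 := wm_eq PM_ok (by show 1 < 5; norm_num) pcov (p := ([x], gw x)) (mem_prsW x h) (by
    intro z hz
    simp only [List.mem_cons, List.not_mem_nil, or_false] at hz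
    subst hz
    exact mok (by omega)) (by
    intro z hz
    exact RT.mok z (h2 z hz))
  rw [wm_single] at h1
  rw [h1, wd, RT.gm_word h2]

theorem FG : Fam PM ms lets50 Ug where
  ok := PM_ok
  p1 := by show 1 < 5; norm_num
  mok x hx := by
    rw [lets50, List.mem_range'_1] at hx
    exact mok (by omega)
  val x hx := by
    rw [lets50, List.mem_range'_1] at hx
    rcases Nat.lt_or_ge x 20 with h | h
    · rw [Ug_low (by omega)]
      apply RT.gm_val
      have h1 : (List.range' 1 19).all (fun x => letsM.contains x) = true := by decide +kernel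
      have h2 := (List.all_eq_true.1 h1) x (by rw [List.mem_range'_1]; omega)
      simpa using h2
    · have h46 := val46 (x := 46) (by omega)
      have h47 := dbl (x := 46) (y := 47) (by omega) (by omega) (by decide +kernel) h46
      have h48 := dbl (x := 47) (y := 48) (by omega) (by omega) (by decide +kernel) h47
      have h49 := dbl (x := 48) (y := 49) (by omega) (by omega) (by decide +kernel) h48
      have h50 := dbl (x := 49) (y := 50) (by omega) (by omega) (by decide +kernel) h49
      rcases Nat.lt_or_ge x 47 with h' | h'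
      · rw [Ug_mid (by omega)]
        exact val46 (by omega)
      · have : x = 47 ∨ x = 48 ∨ x = 49 ∨ x = 50 := by omega
        rcases this with rfl | rfl | rfl | rfl
        · exact h47
        · exact h48
        · exact h49
        · exact h50

theorem rg11 {x : ℕ} (h : isLet 11 x = true) : RT.gm x ∈ phi.range := ⟨gR x, phi_let h⟩

theorem rg_word {w : List ℕ} {x : ℕ} (hR : RLM.contains (x :: w, 1) = true) (hw : ∀ y ∈ w, RT.gm y ∈ phi.range) :
    RT.gm x ∈ phi.range := by
  have h := RT.good.rel (x :: w, 1) (by simpa using hR)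
  rw [pow_one, List.map_cons, List.prod_cons, mul_eq_one_iff_eq_inv] at h
  rw [h]
  apply inv_mem
  apply list_prod_mem
  intro z hz
  rw [List.mem_map] at hz
  obtain ⟨y, hy, rfl⟩ := hz
  exact hw y hy

theorem rg19 {x : ℕ} (h : x ∈ letsM) : RT.gm x ∈ phi.range := by
  have key : ∀ {w : List ℕ} {x : ℕ}, RLM.contains (x :: w, 1) = true → wOK 11 w = true → RT.gm x ∈ phi.range :=
    fun h1 h2 => rg_word h1 (fun y hy => rg11 ((List.all_eq_true.1 h2) y hy))
  have h1 : 1 ≤ x ∧ x ≤ 19 := by
    simp only [letsM, List.mem_cons, List.not_mem_nil, or_false] at h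
    omega
  rcases Nat.lt_or_ge x 12 with h2 | h2
  · exact rg11 (isLet_iff.2 (by omega))
  · have : x = 12 ∨ x = 13 ∨ x = 14 ∨ x = 15 ∨ x = 16 ∨ x = 17 ∨ x = 18 ∨ x = 19 := by omega
    rcases this with rfl | rfl | rfl | rfl | rfl | rfl | rfl | rfl
    · exact key (w := [1, 1]) (by decide +kernel) (by decide)
    · exact key (w := [11, 5, 10]) (by decide +kernel) (by decide)
    · exact key (w := [8, 1, 9, 5]) (by decide +kernel) (by decide)
    · exact key (w := [9, 9, 9, 1, 8, 8, 8, 5]) (by decide +kernel) (by decide)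
    · exact key (w := [9, 9, 9, 9, 9, 9, 1, 8, 8, 8, 8, 8, 8, 5]) (by decide +kernel) (by decide)
    · exact key (w := [8, 8, 1, 9, 9, 5]) (by decide +kernel) (by decide)
    · exact key (w := [9, 1, 8, 5]) (by decide +kernel) (by decide)
    · exact key (w := [8, 8, 8, 8, 1, 9, 9, 9, 9, 5]) (by decide +kernel) (by decide)

theorem rgU {x : ℕ} (h : 20 ≤ x ∧ x ≤ 46) : Ug x ∈ phi.range := by
  rw [Ug_mid h]
  apply list_prod_mem
  intro z hz
  rw [List.mem_map] at hz
  obtain ⟨y, hy, rfl⟩ := hz
  apply rg19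
  have := (List.all_eq_true.1 ((List.all_eq_true.1 gw_ok) x (by rw [List.mem_range'_1]; omega))) y hy
  simpa using this

theorem finMU : Finite MU := by
  have h2 : NeZero PM.p := ⟨by show (5 : ℕ) ≠ 0; norm_num⟩
  have h3 : Finite (ZMod PM.p) := inferInstance
  have h1 : Finite (Matrix (Fin PM.n) (Fin PM.n) (ZMod PM.p)) := by
    unfold Matrix
    infer_instance
  exact inferInstance

theorem relG {r : List ℕ × List ℕ} (h : r ∈ prsG) : (r.1.map Ug).prod = (r.2.map Ug).prod := by
  have h1 : prsG.all (fun r => r.1.all (fun x => lets50.contains x) && r.2.all (fun x => lets50.contains x)) = true := by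
    decide +kernel
  have h2 := (List.all_eq_true.1 h1) r h
  rw [Bool.and_eq_true] at h2
  refine FG.rel pcov h ?_ ?_
  · intro x hx
    simpa using (List.all_eq_true.1 h2.1) x hx
  · intro x hx
    simpa using (List.all_eq_true.1 h2.2) x hx

theorem e0_vec : Vec PM 1 := by
  have := basis_vec (P := PM) (i := 0) (by show 1 < 5; norm_num) (by show 0 < 133; norm_num)
  simpa using this

/-- basis vectors -/
noncomputable def b5 : ℕ := 2 ^ (12 * 3)

noncomputable def b3 : ℕ := 2 ^ (12 * 12)

noncomputable def b2 : ℕ := 2 ^ (12 * 110)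

theorem b5_vec : Vec PM b5 := basis_vec (P := PM) (i := 3) (by show 1 < 5; norm_num) (by show 3 < 133; norm_num)

theorem b3_vec : Vec PM b3 := basis_vec (P := PM) (i := 12) (by show 1 < 5; norm_num) (by show 12 < 133; norm_num)

theorem b2_vec : Vec PM b2 := basis_vec (P := PM) (i := 110) (by show 1 < 5; norm_num) (by show 110 < 133; norm_num)

theorem d51 : dstB PM ms 1 (pws 5 [22, 23, 24, 25]) = true := by decide +kernel

theorem d50 : dstB PM ms b5 (pws 5 [20, 21]) = true := by decide +kernel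

theorem d31 : dstB PM ms 1 (pws 3 [31]) = true := by decide +kernel

theorem d30 : dstB PM ms b3 (pws 3 [26, 27, 28, 29, 30]) = true := by decide +kernel

theorem d21 : dstB PM ms 1 (pws 2 [41, 42, 43, 44, 45]) = true := by decide +kernel

theorem d20 : dstB PM ms b2 (pws 2 [32, 33, 34, 35, 36, 37, 38, 39, 40]) = true := by decide +kernel

theorem pch5 : pchB prsC5 5 ([20, 21] ++ [22, 23, 24, 25]).reverse = true := by decide +kernel

theorem pch3 : pchB prsC3 3 ([26, 27, 28, 29, 30] ++ [31]).reverse = true := by decide +kernel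

theorem pch2 : pchB prsC2 2 ([32, 33, 34, 35, 36, 37, 38, 39, 40] ++ [41, 42, 43, 44, 45]).reverse = true := by decide +kernel

theorem memC5 {r : List ℕ × List ℕ} (h : r ∈ prsC5) : r ∈ prsG := by
  unfold prsG
  exact List.mem_append_right _ (List.mem_append_left _ h)

theorem memC3 {r : List ℕ × List ℕ} (h : r ∈ prsC3) : r ∈ prsG := by
  unfold prsG
  exact List.mem_append_right _ (List.mem_append_right _ (List.mem_append_left _ h))

theorem memC2 {r : List ℕ × List ℕ} (h : r ∈ prsC2) : r ∈ prsG := by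
  unfold prsG
  exact List.mem_append_right _ (List.mem_append_right _ (List.mem_append_right _ (List.mem_append_left _ h)))

theorem ltC5 : prsC5.all (fun r => r.1.all (fun x => lets50.contains x) && r.2.all (fun x => lets50.contains x)) = true := by
  decide +kernel

theorem ltC3 : prsC3.all (fun r => r.1.all (fun x => lets50.contains x) && r.2.all (fun x => lets50.contains x)) = true := by
  decide +kernel

theorem ltC2 : prsC2.all (fun r => r.1.all (fun x => lets50.contains x) && r.2.all (fun x => lets50.contains x)) = true := by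
  decide +kernel

theorem fx5 : [20, 21].all (fun x => Nat.beq (walk PM ms [x] 1) 1) = true := by decide +kernel

theorem fx3 : [26, 27, 28, 29, 30].all (fun x => Nat.beq (walk PM ms [x] 1) 1) = true := by decide +kernel

theorem fx2 : [32, 33, 34, 35, 36, 37, 38, 39, 40].all (fun x => Nat.beq (walk PM ms [x] 1) 1) = true := by decide +kernel

theorem rgL {l : List ℕ} (h : l.all (fun x => (List.range' 20 27).contains x) = true) : ∀ x ∈ l, Ug x ∈ phi.range := by
  intro x hx
  have := (List.all_eq_true.1 h) x hx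
  have h2 : x ∈ List.range' 20 27 := by simpa using this
  rw [List.mem_range'_1] at h2
  exact rgU (by omega)

theorem finR : Finite phi.range := by
  haveI := finMU
  infer_instance

theorem dvd5 : 5 ^ 6 ∣ Nat.card phi.range := by
  haveI : Fact (Nat.Prime 5) := ⟨by norm_num⟩
  exact FG.dvd' (p := 5) (l0 := [20, 21]) (l1 := [22, 23, 24, 25]) pcov (rels := prsC5) (fun _ h => memC5 h) ltC5
    (by decide) (by decide) e0_vec b5_vec fx5 d51 d50 pch5 (rgL (by decide)) finR rfl

theorem dvd3 : 3 ^ 6 ∣ Nat.card phi.range := by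
  haveI : Fact (Nat.Prime 3) := ⟨by norm_num⟩
  exact FG.dvd' (p := 3) (l0 := [26, 27, 28, 29, 30]) (l1 := [31]) pcov (rels := prsC3) (fun _ h => memC3 h) ltC3
    (by decide) (by decide) e0_vec b3_vec fx3 d31 d30 pch3 (rgL (by decide)) finR rfl

theorem dvd2 : 2 ^ 14 ∣ Nat.card phi.range := by
  haveI : Fact (Nat.Prime 2) := ⟨by norm_num⟩
  exact FG.dvd' (p := 2) (l0 := [32, 33, 34, 35, 36, 37, 38, 39, 40]) (l1 := [41, 42, 43, 44, 45]) pcov (rels := prsC2)
    (fun _ h => memC2 h) ltC2 (by decide) (by decide) e0_vec b2_vec fx2 d21 d20 pch2 (rgL (by decide)) finR rfl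

theorem mv19 : Nat.beq (walk PM ms [46] 1) 1 = false := by decide +kernel

theorem dvd19 : 19 ∣ Nat.card phi.range := by
  haveI := finMU
  haveI : Fact (Nat.Prime 19) := ⟨by norm_num⟩
  have h1 := relG (r := ([50, 47, 46], [])) (by
    simp only [prsG, List.mem_append]
    exact Or.inr (Or.inr (Or.inr (Or.inr (by simp [prs19])))))
  have h46 : Ug 46 = wd RT.gm (gw 46) := Ug_mid (by omega)
  have h2 : Ug 46 ^ 19 = 1 := by
    simp only [List.map_cons, List.map_nil, List.prod_cons, List.prod_nil, mul_one] at h1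
    have e47 : Ug 47 = Ug 46 ^ 2 := by rw [h46, pow_two]; rfl
    have e50 : Ug 50 = Ug 46 ^ 16 := by
      have e48 : Ug 48 = Ug 47 * Ug 47 := rfl
      have e49 : Ug 49 = Ug 48 * Ug 48 := rfl
      have e50 : Ug 50 = Ug 49 * Ug 49 := rfl
      rw [e50, e49, e48, e47]
      simp only [← pow_add]
    rw [e50, e47, ← pow_succ, ← pow_add] at h1
    exact h1
  have h3 : Ug 46 ≠ 1 := by
    intro h
    have h4 := (FG.walk_eq (u := [46]) (u' := []) (by
      intro x hx
      rw [List.mem_singleton] at hx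
      subst hx
      decide) (by simp) e0_vec).2 (by simp [h])
    have h5 := mv19
    rw [h4, walk_nil] at h5
    simp at h5
  have h4 : orderOf (Ug 46) = 19 := orderOf_eq_prime h2 h3
  have h5 : Ug 46 ∈ phi.range := rgU (by omega)
  have h6 : orderOf (⟨Ug 46, h5⟩ : phi.range) = 19 := by
    rw [← h4]
    exact Subgroup.orderOf_mk _ _
  rw [← h6]
  exact orderOf_dvd_natCard _

/-- the order is divisible by 2^14 3^6 5^6 19 -/
theorem dvd_card : 2 ^ 14 * 3 ^ 6 * 5 ^ 6 * 19 ∣ Nat.card Spor.HN := by
  have h1 : Nat.card phi.range ∣ Nat.card Spor.HN := Subgroup.card_range_dvd phi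
  refine dvd_trans ?_ h1
  refine Nat.Coprime.mul_dvd_of_dvd_of_dvd (by norm_num) ?_ dvd19
  refine Nat.Coprime.mul_dvd_of_dvd_of_dvd (by norm_num) ?_ dvd5
  exact Nat.Coprime.mul_dvd_of_dvd_of_dvd (by norm_num) dvd2 dvd3

end Cfsg.Agent.HN
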