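import Cfsg.Agent.CosetEnum.HN.Nd
import Cfsg.Agent.CosetEnum.HN.MatR0
import Cfsg.Agent.CosetEnum.HN.MatR1
import Cfsg.Agent.CosetEnum.HN.MatR2
import Cfsg.Agent.CosetEnum.HN.MatR3
import Cfsg.Agent.CosetEnum.HN.MatR4
import Cfsg.Agent.CosetEnum.HN.MatR5
import Cfsg.Agent.CosetEnum.HN.MatR6

/-!
The representation of degree 133 over the field of order 5 (owner: helper66).
-/

set_option autoImplicit false
set_option maxRecDepth 1000000
set_option linter.all false

namespace Cfsg.Agent.HN

open Cfsg.Agent.CosetEnum Cfsg.Agent.KMat Cfsg.Spor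

theorem repCov : Cov (prB PM ms prsM) 0 133 :=
  (((((rc0.trans rc1).trans rc2).trans rc3).trans rc4).trans rc5).trans rc6

theorem mok {x : ℕ} (h : 1 ≤ x ∧ x ≤ 50) : MatOK PM (ms x) := by
  refine matB_sound mokA x ?_
  rw [List.mem_range'_1]
  omega

theorem RT : RepOK PM ms 19 ivR letsM RLM where
  ok := PM_ok
  p1 := by show 1 < 5; norm_num
  st := stM
  mok x hx := by
    apply mok
    simp only [letsM, List.mem_cons, List.not_mem_nil, or_false] at hx
    omega
  cov := repCov

/-- invertible matrices -/
abbrev MU : Type := (Matrix (Fin PM.n) (Fin PM.n) (ZMod PM.p))ˣ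

theorem exists_phi : ∃ φ : Spor.HN →* MU, ∀ x, φ (gR x) = CosetEnum.cut RT.gm 11 x :=
  gR_univ.univ _ _ (RT.good.cut (by decide +kernel))

/-- the representation -/
noncomputable def phi : Spor.HN →* MU := exists_phi.choose

theorem phi_let {x : ℕ} (h : isLet 11 x = true) : phi (gR x) = RT.gm x := by
  rw [phi, exists_phi.choose_spec, CosetEnum.cut, if_pos h]

theorem phi_wd {w : List ℕ} (h : wOK 11 w = true) : phi (wd gR w) = wd RT.gm w := by
  unfold wd
  rw [map_list_prod, List.map_map]
  congr 1
  apply List.map_congr_left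
  intro x hx
  exact phi_let ((List.all_eq_true.1 h) x hx)

theorem isLet11 {x : ℕ} (h : isLet 11 x = true) : x ∈ letsM := by
  have h1 := isLet_iff.1 h
  obtain ⟨h1, h2⟩ := h1
  interval_cases x <;> decide

/-- a vector moved by `v` -/
noncomputable def e7 : ℕ := 2 ^ (12 * 7)

theorem e7_vec : Vec PM e7 := basis_vec (P := PM) (i := 7) (by show 1 < 5; norm_num) (by show 7 < 133; norm_num)

/-- no word of the list acts as `v` -/
noncomputable def ewB (L : List (List ℕ)) : Bool :=
  @List.rec (List ℕ) (fun _ => Bool) true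
    (fun w _ ih => @Bool.rec (fun _ => Bool) ih false (Nat.beq (walk PM ms w e7) (walk PM ms [1, 1] e7))) L

theorem ewB_sound {L : List (List ℕ)} (h : ewB L = true) : ∀ w ∈ L,
    Nat.beq (walk PM ms w e7) (walk PM ms [1, 1] e7) = false := by
  induction L with
  | nil => intro w hw; simp at hw
  | cons u L ih =>
    have h' : @Bool.rec (fun _ => Bool) (ewB L) false (Nat.beq (walk PM ms u e7) (walk PM ms [1, 1] e7)) = true := h
    obtain ⟨h1, h2⟩ := sel_true_right h'
    intro w hw
    rcases List.mem_cons.1 hw with rfl | hw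
    · exact h1
    · exact ih h2 w hw

theorem EW_ok : EW.all (wOK 11) = true := by decide +kernel

theorem EW_chk : ewB EW = true := by decide +kernel

/-- the words are trivial -/
theorem EW_one {w : List ℕ} (h : w ∈ EW) : wd gR w = 1 := by
  rcases EW_two h with h1 | h1
  · exact h1
  · exfalso
    have h2 := congrArg phi h1
    have h3 : vv = wd gR [1, 1] := by simp [wd, vv]
    have h4 : wOK 11 w = true := (List.all_eq_true.1 EW_ok) w h
    rw [h3, phi_wd h4, phi_wd (by decide)] at h2
    refine RT.ne (u := w) (u' := [1, 1]) ?_ ?_ e7_vec (ewB_sound EW_chk w h) h2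
    · intro x hx
      exact isLet11 ((List.all_eq_true.1 h4) x hx)
    · intro x hx
      simp only [List.mem_cons, List.not_mem_nil, or_false, or_self] at hx
      subst hx
      decide

end Cfsg.Agent.HN
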