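import Cfsg.Agent.KMat.PCard
import Cfsg.Agent.CosetEnum.HN.Phi

/-!
Words of the generators of `p`-subgroups and their relations (owner: helper66).
-/

set_option autoImplicit false
set_option maxRecDepth 1000000

namespace Cfsg.Agent.HN

open Cfsg.Agent.CosetEnum Cfsg.Agent.KMat

/-- words of the generators, in the letters of the matrices -/
def gw : ℕ → List ℕ
  | 20 => [6]
  | 21 => [19, 14, 15, 16]
  | 22 => [5, 15, 16, 15, 17, 16, 18, 17, 16, 15, 14, 19, 6, 12, 13, 15, 16, 10, 19, 14, 15, 16, 17]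
  | 23 => [16, 5, 15, 17, 16, 15, 18, 17, 7, 13, 10, 19, 10]
  | 24 => [5, 17, 16, 15, 14, 19, 18, 17, 16, 7, 13, 15, 7, 5, 19, 14, 19, 13, 16, 17, 16, 7, 18, 10, 19, 14, 10, 19, 10, 19, 7, 17, 11, 17, 16, 11]
  | 25 => [13, 14, 15, 16, 15, 14, 19, 7, 13, 19, 14, 15, 7, 13, 19, 14, 19, 10, 19, 13, 14, 19, 6, 10, 19, 13, 15, 14, 6, 19, 13]
  | 26 => [12, 6, 6, 5]
  | 27 => [13, 7, 5, 13]
  | 28 => [15, 14]
  | 29 => [18, 17]
  | 30 => [19, 13, 14, 15, 6, 13, 19, 6, 13, 14, 19, 7, 13, 6, 5]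
  | 31 => [12, 13, 14, 15, 14, 16, 15, 17, 18, 17, 6, 13, 16, 10, 19, 13, 14, 19, 15, 7, 10, 15, 10, 19, 10]
  | 32 => [6, 5, 7]
  | 33 => [12, 5, 6, 5]
  | 34 => [6, 13, 14, 7]
  | 35 => [19, 14, 6, 13, 19, 7]
  | 36 => [12, 7, 7, 13, 19, 7, 13, 14, 7, 19, 13, 7, 7]
  | 37 => [5, 6, 6, 13, 7]
  | 38 => [12, 16, 6, 5, 7]
  | 39 => [16, 18]
  | 40 => [17, 16, 18, 17]
  | 41 => [5, 6, 13, 19, 14, 7, 7, 13, 6, 19, 13, 6, 6, 10, 19, 13, 14, 19, 7, 13, 6, 10]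
  | 42 => [15, 16, 17, 18, 14, 15, 14, 16, 17, 18, 19, 14, 15, 16, 19, 7, 13, 19, 14, 15, 16, 17, 6, 18, 5, 6, 13, 19, 7, 5, 12, 19, 13, 6, 13, 10, 19, 13, 14, 19, 10, 17, 7, 10]
  | 43 => [5, 6, 13, 19, 14, 7, 7, 13, 6, 19, 13, 6, 6, 17, 18, 10, 19, 13, 14, 19, 6, 13, 7, 10, 17]
  | 44 => [16, 17, 15, 16, 17, 18, 14, 15, 14, 16, 17, 18, 19, 14, 15, 16, 19, 7, 13, 19, 14, 15, 6, 16, 5, 6, 13, 19, 7, 5, 5, 13, 14, 7, 13, 19, 6, 10]
  | 45 => [15, 16, 14, 15, 19, 7, 13, 19, 14, 15, 16, 17, 6, 18, 13, 5, 6, 13, 19, 14, 15, 16, 17, 18, 5, 13, 14, 7, 13, 19, 14, 15, 13, 6, 13, 19, 14, 15, 16, 17, 18, 10, 19, 10, 19, 6, 16, 10, 19, 10, 15, 10, 19, 10, 19, 6, 13, 14, 19, 11, 19, 15]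
  | 46 => [14, 19, 17, 10, 6]
  | _ => []

/-- the matrices 20-50 -/
def prsW : List (List ℕ × List ℕ) := [([20], [6]), ([21], [19, 14, 15, 16]), ([22], [5, 15, 16, 15, 17, 16, 18, 17, 16, 15, 14, 19, 6, 12, 13, 15, 16, 10, 19, 14, 15, 16, 17]), ([23], [16, 5, 15, 17, 16, 15, 18, 17, 7, 13, 10, 19, 10]), ([24], [5, 17, 16, 15, 14, 19, 18, 17, 16, 7, 13, 15, 7, 5, 19, 14, 19, 13, 16, 17, 16, 7, 18, 10, 19, 14, 10, 19, 10, 19, 7, 17, 11, 17, 16, 11]), ([25], [13, 14, 15, 16, 15, 14, 19, 7, 13, 19, 14, 15, 7, 13, 19, 14, 19, 10, 19, 13, 14, 19, 6, 10, 19, 13, 15, 14, 6, 19, 13]), ([26], [12, 6, 6, 5]), ([27], [13, 7, 5, 13]), ([28], [15, 14]), ([29], [18, 17]), ([30], [19, 13, 14, 15, 6, 13, 19, 6, 13, 14, 19, 7, 13, 6, 5]), ([31], [12, 13, 14, 15, 14, 16, 15, 17, 18, 17, 6, 13, 16, 10, 19, 13, 14, 19, 15, 7, 10, 15, 10, 19, 10]), ([32], [6, 5, 7]), ([33], [12,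 5, 6, 5]), ([34], [6, 13, 14, 7]), ([35], [19, 14, 6, 13, 19, 7]), ([36], [12, 7, 7, 13, 19, 7, 13, 14, 7, 19, 13, 7, 7]), ([37], [5, 6, 6, 13, 7]), ([38], [12, 16, 6, 5, 7]), ([39], [16, 18]), ([40], [17, 16, 18, 17]), ([41], [5, 6, 13, 19, 14, 7, 7, 13, 6, 19, 13, 6, 6, 10, 19, 13, 14, 19, 7, 13, 6, 10]), ([42], [15, 16, 17, 18, 14, 15, 14, 16, 17, 18, 19, 14, 15, 16, 19, 7, 13, 19, 14, 15, 16, 17, 6, 18, 5, 6, 13, 19, 7, 5, 12, 19, 13, 6, 13, 10, 19, 13, 14, 19, 10, 17, 7, 10]), ([43], [5, 6, 13, 19, 14, 7, 7, 13, 6, 19, 13, 6, 6, 17, 18, 10, 19, 13, 14, 19, 6, 13, 7, 10, 17]), ([44], [16, 17, 15, 16, 17, 18, 14, 15, 14, 16, 17, 18, 19, 14, 15, 16, 19, 7, 13, 19, 14, 15, 6, 16, 5, 6, 13, 19, 7, 5, 5, 13, 14, 7, 13, 19, 6, 10]), ([45], [15, 16, 14, 15, 19, 7, 13, 19, 14, 15, 16, 17, 6, 18, 13, 5, 6, 13, 19, 14, 15, 16, 17, 18, 5, 13, 14, 7, 13, 19, 14, 15,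 13, 6, 13, 19, 14, 15, 16, 17, 18, 10, 19, 10, 19, 6, 16, 10, 19, 10, 15, 10, 19, 10, 19, 6, 13, 14, 19, 11, 19, 15]), ([46], [14, 19, 17, 10, 6]), ([47], [46, 46]), ([48], [47, 47]), ([49], [48, 48]), ([50], [49, 49])]

/-- the chain for the prime 5 -/
def prsC5 : List (List ℕ × List ℕ) := [([20, 20, 20, 20, 20], []), ([21, 21, 21, 21, 21], []), ([22, 22, 22, 22, 22], []), ([23, 23, 23, 23, 23], []), ([24, 24, 24, 24, 24], []), ([25, 25, 25, 25, 25, 25, 25, 25, 25, 25, 25, 25, 25, 25, 25, 25, 25, 25, 25, 25, 25, 25, 25, 25, 25], []), ([20, 21], [21, 20]), ([20, 22], [22, 20]), ([21, 22], [22, 21]), ([20, 23], [23, 20]), ([21, 23], [23, 20, 21, 21, 22, 22, 22]), ([22, 23], [23, 20, 20, 20, 21, 21, 21]), ([20, 24], [24, 20, 20, 20, 20, 21, 21, 21, 22, 22, 22, 22]), ([21, 24], [24, 21]), ([22, 24], [24, 23, 23, 22, 23, 23, 23]), ([23, 24], [24, 20, 20, 21, 21,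 23, 22]), ([20, 25], [25, 21, 23, 24, 23]), ([21, 25], [25, 20, 20, 20, 20, 21, 21, 24, 24, 24, 23]), ([22, 25], [25, 20, 20, 20, 20, 21, 22, 23, 23, 23, 24, 24, 23]), ([23, 25], [25, 21, 22, 23, 24, 23, 24, 23]), ([24, 25], [25, 20, 20, 21, 22, 23, 24, 24, 23, 24, 24])]

/-- the chain for the prime 3 -/
def prsC3 : List (List ℕ × List ℕ) := [([26, 26, 26], []), ([27, 27, 27], []), ([28, 28, 28], []), ([29, 29, 29], []), ([30, 30, 30], []), ([31, 31, 31, 31, 31, 31, 31, 31, 31], []), ([26, 27], [27, 26]), ([26, 28], [28, 26]), ([27, 28], [28, 27]), ([26, 29], [29, 26]), ([27, 29], [29, 27]), ([28, 29], [29, 28]), ([26, 30], [30, 27]), ([27, 30], [30, 28]), ([28, 30], [30, 26]), ([29, 30], [30, 29]), ([26, 31], [31, 26, 26, 27, 28, 29]), ([27, 31], [31, 26, 27, 27, 28, 29]), ([28, 31], [31, 26, 27, 28, 28, 29]), ([29, 31], [31, 26, 26, 27, 27, 28, 28, 29]), ([30,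 31], [31, 26, 26, 28, 30])]

/-- the chain for the prime 2 -/
def prsC2 : List (List ℕ × List ℕ) := [([32, 32], []), ([33, 33], []), ([34, 34], []), ([35, 35], []), ([36, 36], []), ([37, 37], []), ([38, 38], []), ([39, 39], []), ([40, 40], []), ([41, 41, 41, 41], []), ([42, 42, 42, 42, 42, 42, 42, 42], []), ([43, 43, 43, 43], []), ([44, 44, 44, 44, 44, 44, 44, 44], []), ([45, 45, 45, 45], []), ([32, 33], [33, 32]), ([32, 34], [34, 32]), ([33, 34], [34, 33]), ([32, 35], [35, 32]), ([33, 35], [35, 33]), ([34, 35], [35, 34]), ([32, 36], [36, 34]), ([33, 36], [36, 35]), ([34, 36], [36, 32]), ([35, 36], [36, 33]), ([32, 37], [37, 32]), ([33, 37], [37, 32, 33]), ([34, 37], [37, 34]), ([35, 37], [37, 34, 35]), ([36, 37], [37, 36]), ([32, 38], [38, 32]), ([33, 38], [38, 32, 33]), ([34, 38], [38, 34]), ([35, 38], [38, 35]), ([36, 38], [38, 36, 37]), ([37, 38], [38, 37]),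 ([32, 39], [39, 32]), ([33, 39], [39, 33]), ([34, 39], [39, 34]), ([35, 39], [39, 35]), ([36, 39], [39, 36]), ([37, 39], [39, 37]), ([38, 39], [39, 38]), ([32, 40], [40, 32]), ([33, 40], [40, 33]), ([34, 40], [40, 34]), ([35, 40], [40, 35]), ([36, 40], [40, 36]), ([37, 40], [40, 37]), ([38, 40], [40, 38, 39]), ([39, 40], [40, 39]), ([32, 41], [41, 34]), ([33, 41], [41, 32, 35, 39]), ([34, 41], [41, 32]), ([35, 41], [41, 32, 33, 34, 39]), ([36, 41], [41, 32, 34, 36, 37]), ([37, 41], [41, 37]), ([38, 41], [41, 37, 38]), ([39, 41], [41, 39]), ([40, 41], [41, 32, 34, 39, 40]), ([32, 42], [42, 32]), ([33, 42], [42, 38]), ([34, 42], [42, 34]), ([35, 42], [42, 34, 37, 38, 39]), ([36, 42], [42, 33, 35, 40, 38, 41]), ([37, 42], [42, 32, 33, 34, 35, 39]), ([38, 42], [42, 33]), ([39, 42], [42, 32, 34, 39]), ([40, 42], [42, 36, 38, 39, 41]), ([41, 42], [42, 35, 38, 41]),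 ([32, 43], [43, 34]), ([33, 43], [43, 32, 35, 40]), ([34, 43], [43, 32]), ([35, 43], [43, 33, 34, 40]), ([36, 43], [43, 32, 34, 36]), ([37, 43], [43, 37]), ([38, 43], [43, 34, 36, 39, 41]), ([39, 43], [43, 32, 34, 39]), ([40, 43], [43, 40]), ([41, 43], [43, 34, 36, 38, 39]), ([42, 43], [43, 37, 42, 40]), ([32, 44], [44, 32, 34, 39]), ([33, 44], [44, 37, 41, 36]), ([34, 44], [44, 39]), ([35, 44], [44, 42, 42, 35]), ([36, 44], [44, 32, 37, 43, 36]), ([37, 44], [44, 32, 34, 40]), ([38, 44], [44, 32, 33]), ([39, 44], [44, 32]), ([40, 44], [44, 32, 37]), ([41, 44], [44, 34, 35, 38, 43, 41]), ([42, 44], [44, 32, 37, 40, 43, 42]), ([43, 44], [44, 32, 33, 39, 43, 33]), ([32, 45], [45, 44, 44, 44, 44]), ([33, 45], [45, 42, 43, 33, 44]), ([34, 45], [45, 32, 44, 42, 44, 42]), ([35, 45], [45, 38, 42, 44, 40]), ([36, 45], [45, 33, 36, 44, 35, 44]), ([37, 45], [45, 41, 43,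 39, 41]), ([38, 45], [45, 33, 44, 42, 43]), ([39, 45], [45, 34, 42, 44, 42, 44]), ([40, 45], [45, 32, 33, 35, 39, 43]), ([41, 45], [45, 33, 36, 44, 40, 42]), ([42, 45], [45, 32, 33, 44, 34, 38]), ([43, 45], [45, 32, 44, 33, 44, 33]), ([44, 45], [45, 32, 43, 42, 43])]

/-- the element of order 19 -/
def prs19 : List (List ℕ × List ℕ) := [([50, 47, 46], [])]

/-- all relations -/
def prsG : List (List ℕ × List ℕ) := prsW ++ (prsC5 ++ (prsC3 ++ (prsC2 ++ prs19)))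

end Cfsg.Agent.HN
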