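import Cfsg.Agent.CosetEnum.Basic

/-! Permutation table (generated data, owner: helper28). -/

set_option autoImplicit false
set_option maxRecDepth 1000000

namespace Cfsg.Agent.CosetEnum.HNT12

noncomputable def tab : T := .l 0 0xb0000b0000b0000a0000b0000b0000b0000b0000b0000b0000b000000000a0000a0000a0000b000090000a0000a0000a0000a0000a0000a00000000090000900009000090000a00008000090000900009000090000900000000080000800008000080000800009000070000800008000080000800000000070000700007000070000700007000080000600007000070000700000000050000600006000060000600006000060000700006000060000600000000060000500005000050000500005000050000500000000050000500000000010000300000000010000100001000010000100001000030000100000000030000200004000030000300003000030000300003000040000200000000020000100003000020000200002000020000200002000010000300000000040000000002000040000400004000040000400004000020000400000000000000400001000000000000000000000000000005000000000000000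

def iv : List (Nat × Nat) := [(9, 10)]

def RL : List (List Nat × Nat) := [([3, 11], 3), ([3, 4], 2), ([3, 5], 2), ([3, 6], 2), ([3, 7], 2), ([3, 8], 2), ([11, 4], 3), ([11, 5], 2), ([11, 6], 2), ([11, 7], 2), ([11, 8], 2), ([4, 5], 3), ([4, 6], 2), ([4, 7], 2), ([4, 8], 2), ([5, 6], 3), ([5, 7], 2), ([5, 8], 2), ([6, 7], 3), ([6, 8], 2), ([7, 8], 3), ([1, 3], 2), ([1, 11], 2), ([1, 4], 2), ([1, 5], 2), ([1, 6], 2), ([1, 7], 2), ([1, 8], 2), ([1, 2], 2), ([2, 3, 2, 3, 1], 1), ([2, 11, 2, 11, 1], 1), ([2, 4, 2, 4, 1], 1), ([2, 5, 2, 5, 1], 1), ([2, 6, 2, 6, 1], 1), ([2, 7, 2, 7, 1], 1), ([2, 8, 2, 8, 1], 1), ([2, 11, 9, 11, 2, 9, 9], 1), ([2, 4, 9, 4, 2, 9, 9], 1), ([2, 5, 9, 5, 2, 9, 9], 1), ([2, 6, 9, 6, 2, 9, 9], 1), ([2, 7, 9, 7, 2, 9, 9], 1), ([2, 8, 9, 8, 2, 9, 9], 1), ([9], 5), ([1, 9], 2), ([2, 9], 3), ([3, 9], 3)]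

def lets : List Nat := [1, 2, 3, 4, 5, 6, 7, 8, 9, 10, 11]

noncomputable def P : Par := ⟨tab, 240, 1766847064778384329583297500742918515827483896875618958121606201292619775, 12, fun _ _ => false, .e⟩

end Cfsg.Agent.CosetEnum.HNT12
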