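import Cfsg.Agent.CosetEnum.HN.T924Data

/-! Permutation table (generated data, owner: helper28). -/

set_option autoImplicit false
set_option maxRecDepth 1000000

namespace Cfsg.Agent.CosetEnum.HNT924

theorem h0 : allR (orbC P letsk [] 0 1) 0 1 = true := by decide +kernel

theorem h1 : allR (orbC P letsk [] 1 37) 1 36 = true := by decide +kernel

theorem h2 : allR (orbC P letsk [] 37 262) 37 225 = true := by decide +kernel

theorem h3 : allR (orbC P letsk [] 262 662) 262 400 = true := by decide +kernel

theorem h4 : allR (orbC P letsk [] 662 887) 662 225 = true := by decide +kernel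

theorem h5 : allR (orbC P letsk [] 887 923) 887 36 = true := by decide +kernel

theorem h6 : allR (orbC P letsk [] 923 924) 923 1 = true := by decide +kernel

end Cfsg.Agent.CosetEnum.HNT924
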