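import Cfsg.Agent.CosetEnum.Level
import Cfsg.Agent.CosetEnum.HN.TUR0
import Cfsg.Agent.CosetEnum.HN.TUR1
import Cfsg.Agent.CosetEnum.HN.TUR2

/-! Permutation table (generated data, owner: helper28). -/

set_option autoImplicit false
set_option maxRecDepth 1000000

namespace Cfsg.Agent.CosetEnum.HNTU

theorem st : letsB 7 iv lets RL = true := by decide +kernel

theorem tabOK : TabOK P 7 iv lets RL := ⟨st, ((Cov.of r0 rfl).trans (Cov.of r1 rfl)).trans (Cov.of r2 rfl)⟩

theorem covO : Cov (orbC P lets [] 0 P.m) 0 P.m := ((Cov.of o0 rfl).trans (Cov.of o1 rfl)).trans (Cov.of o2 rfl)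

end Cfsg.Agent.CosetEnum.HNTU
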