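import Cfsg.Agent.CosetEnum.Step
import Cfsg.Agent.CosetEnum.HN.UP0
import Cfsg.Agent.CosetEnum.HN.UP1
import Cfsg.Agent.CosetEnum.HN.UP2
import Cfsg.Agent.CosetEnum.HN.UP3
import Cfsg.Agent.CosetEnum.HN.UP4
import Cfsg.Agent.CosetEnum.HN.UP5
import Cfsg.Agent.CosetEnum.HN.UP6
import Cfsg.Agent.CosetEnum.HN.UP7
import Cfsg.Agent.CosetEnum.HN.UP8
import Cfsg.Agent.CosetEnum.HN.UP9
import Cfsg.Agent.CosetEnum.HN.UP10
import Cfsg.Agent.CosetEnum.HN.UP11

/-! Certificate of a coset enumeration (generated data, owner: helper66). -/

set_option autoImplicit false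
set_option maxRecDepth 1000000

namespace Cfsg.Agent.CosetEnum.HNU

theorem st : staticOK 3 iv (RL.map expand) subs P L = true := by decide +kernel

theorem seg : Seg P L P.m 63000 :=
  ((((((((((((((((((((((((((((((((((((((((((((((Seg.nil).snoc part0).snoc part1).snoc part2).snoc part3).snoc part4).snoc part5).snoc part6).snoc part7).snoc part8).snoc part9).snoc part10).snoc part11).snoc part12).snoc part13).snoc part14).snoc part15).snoc part16).snoc part17).snoc part18).snoc part19).snoc part20).snoc part21).snoc part22).snoc part23).snoc part24).snoc part25).snoc part26).snoc part27).snoc part28).snoc part29).snoc part30).snoc part31).snoc part32).snoc part33).snoc part34).snoc part35).snoc part36).snoc part37).snoc part38).snoc part39).snoc part40).snoc part41).snoc part42).snoc part43).snoc part44).snoc part45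

theorem cert : Cert 3 iv RL subs 63000 := fun g H hl hrels hsubs =>
  upper g H 3 iv hl (RL.map expand) subs hrels hsubs P L rfl st seg

end Cfsg.Agent.CosetEnum.HNU
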