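import Cfsg.Agent.CosetEnum.HN.UT0
import Cfsg.Agent.CosetEnum.HN.UT1
import Cfsg.Agent.CosetEnum.HN.UT2
import Cfsg.Agent.CosetEnum.HN.UT3
import Cfsg.Agent.CosetEnum.HN.UT4
import Cfsg.Agent.CosetEnum.HN.UT5
import Cfsg.Agent.CosetEnum.HN.UT6
import Cfsg.Agent.CosetEnum.HN.UT7

/-! Certificate of a coset enumeration (generated data, owner: helper66). -/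

set_option autoImplicit false
set_option maxRecDepth 1000000

namespace Cfsg.Agent.CosetEnum.HNU

noncomputable def tab : T := (.n 67904 (.n 33920 (.n 16960 tab0 tab1) (.n 50880 tab2 tab3)) (.n 101824 (.n 84864 tab4 tab5) (.n 118784 tab6 tab7)))

def lw : WT := .n 18 (.n 9 (.n 4 (.n 2 (.n 1 (.l [1,2,2,2,1,2,1,2,2,2,1,2,1,2,2,2,1,2,1,2,2,2,1,2] []) (.l [1,3,1,3,3,3,1,3,1,3,3,3,1,3,1,3,3,3,1,3,1,3,3,3] [])) (.n 3 (.l [1,2,2,1,2,2,2,1,2,2,1,2,2,2,1,2,2,1,2,2,2] []) (.l [1,2,1,2,2,2,1,2,1,2,2,2,1,2,1,2,2,2,1,2,1,2,2,2] []))) (.n 6 (.n 5 (.l [3,3,3,3,3,3] []) (.l [3,1,3,3,1,3,3,3,1,3,3,1,3,3,3,1,3,3,1,3,3] [])) (.n 7 (.l [2,2,2,2,2,2] []) (.n 8 (.l [1,2,1,3,1,2,1,3,1,2,1,3] []) (.l [1,2,2,2,1,2,2,1,2,2,2,1,2,2,1,2,2,2,1,2,2]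 []))))) (.n 13 (.n 11 (.n 10 (.l [1,2,1,2,1,2,1,2,1,2,1,2,1,2,1,2] []) (.l [1,3,1,2,1,3,1,2,1,3,1,2] [])) (.n 12 (.l [3,3,1,3,3,1,3,3,3,1,3,3,1,3,3,3,1,3,3,1,3] []) (.l [1,3,3,1,3,3,3,1,3,3,1,3,3,3,1,3,3,1,3,3,3] []))) (.n 15 (.n 14 (.l [3,1,3,1,3,3,3,1,3,1,3,3,3,1,3,1,3,3,3,1,3,1,3,3] []) (.l [1,3,1,3,1,3,1,3,1,3,1,3,1,3,1,3] [])) (.n 16 (.l [3,3,3,1,3,1,3,3,3,1,3,1,3,3,3,1,3,1,3,3,3,1,3,1] []) (.n 17 (.l [3,1,2,1,3,1,2,1,3,1,2,1] []) (.l [3,1,3,1,3,1,3,1,3,1,3,1,3,1,3,1] [])))))) (.n 27 (.n 22 (.n 20 (.n 19 (.l [2,2,1,2,2,1,2,2,2,1,2,2,1,2,2,2,1,2,2,1,2] []) (.l [2,2,1,2,1,2,2,2,1,2,1,2,2,2,1,2,1,2,2,2,1,2,1,2] [])) (.n 21 (.l [2,2,2,1,2,2,1,2,2,2,1,2,2,1,2,2,2,1,2,2,1] []) (.l [2,1,2,2,2,1,2,2,1,2,2,2,1,2,2,1,2,2,2,1,2]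 []))) (.n 24 (.n 23 (.l [2,1,2,1,2,1,2,1,2,1,2,1,2,1,2,1] []) (.l [3,3,3,1,3,3,1,3,3,3,1,3,3,1,3,3,3,1,3,3,1] [])) (.n 25 (.l [2,1,2,2,1,2,2,2,1,2,2,1,2,2,2,1,2,2,1,2,2] []) (.n 26 (.l [3,3,1,3,1,3,3,3,1,3,1,3,3,3,1,3,1,3,3,3,1,3,1,3] []) (.l [2,1,3,1,2,1,3,1,2,1,3,1] []))))) (.n 31 (.n 29 (.n 28 (.l [3,1,3,3,3,1,3,1,3,3,3,1,3,1,3,3,3,1,3,1,3,3,3,1] []) (.l [1,3,3,3,1,3,3,1,3,3,3,1,3,3,1,3,3,3,1,3,3] [])) (.n 30 (.l [2,1,2,2,2,1,2,1,2,2,2,1,2,1,2,2,2,1,2,1,2,2,2,1] []) (.l [2,2,1,2,2,2,1,2,2,1,2,2,2,1,2,2,1,2,2,2,1] []))) (.n 33 (.n 32 (.l [2,1,2,1,2,2,2,1,2,1,2,2,2,1,2,1,2,2,2,1,2,1,2,2] []) (.l [3,3,1,3,3,3,1,3,3,1,3,3,3,1,3,3,1,3,3,3,1] [])) (.n 34 (.l [2,2,2,1,2,1,2,2,2,1,2,1,2,2,2,1,2,1,2,2,2,1,2,1]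 []) (.n 35 (.l [3,1,3,3,3,1,3,3,1,3,3,3,1,3,3,1,3,3,3,1,3] []) (.l [1,3,3,3,1,3,1,3,3,3,1,3,1,3,3,3,1,3,1,3,3,3,1,3] []))))))

def L : LL := .cons 1 1 (.n 6 (.n 3 (.n 1 (.l [3,1,2,1,3,1,2,1,3,1,2] []) (.n 2 (.l [2,1,3,1,2,1,3,1,2,1,3] []) (.l [3,1,3,1,3,1,3,1,3,1,3,1,3,1,3] []))) (.n 4 (.l [2,1,2,1,2,1,2,1,2,1,2,1,2,1,2] []) (.n 5 (.l [2,2,1,2,2,2,1,2,2,1,2,2,2,1,2,2,1,2,2,2] []) (.l [3,3,1,3,3,3,1,3,3,1,3,3,3,1,3,3,1,3,3,3] [])))) (.n 9 (.n 7 (.l [2,1,2,2,2,1,2,1,2,2,2,1,2,1,2,2,2,1,2,1,2,2,2] []) (.n 8 (.l [3,3,3,1,3,1,3,3,3,1,3,1,3,3,3,1,3,1,3,3,3,1,3] []) (.l [2,2,2,1,2,1,2,2,2,1,2,1,2,2,2,1,2,1,2,2,2,1,2] []))) (.n 10 (.l [3,1,3,3,3,1,3,1,3,3,3,1,3,1,3,3,3,1,3,1,3,3,3] []) (.n 11 (.l [3,3,3,1,3,3,1,3,3,3,1,3,3,1,3,3,3,1,3,3]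 []) (.l [2,2,2,1,2,2,1,2,2,2,1,2,2,1,2,2,2,1,2,2] []))))) (.e) ( .cons 2 3 (.n 6 (.n 3 (.n 1 (.l [1,2,1,3,1,2,1,3,1,2,1] []) (.n 2 (.l [3,1,3,1,3,3,3,1,3,1,3,3,3,1,3,1,3,3,3,1,3,1,3] []) (.l [3,3,1,3,1,3,3,3,1,3,1,3,3,3,1,3,1,3,3,3,1,3,1] []))) (.n 4 (.l [3,3,3,3,3] []) (.n 5 (.l [3,1,3,3,1,3,3,3,1,3,3,1,3,3,3,1,3,3,1,3] []) (.l [1,3,1,3,1,3,1,3,1,3,1,3,1,3,1] [])))) (.n 9 (.n 7 (.l [3,1,3,3,3,1,3,3,1,3,3,3,1,3,3,1,3,3,3,1] []) (.n 8 (.l [1,3,3,3,1,3,3,1,3,3,3,1,3,3,1,3,3,3,1,3] []) (.l [3,3,1,3,3,1,3,3,3,1,3,3,1,3,3,3,1,3,3,1] []))) (.n 10 (.l [1,3,1,3,3,3,1,3,1,3,3,3,1,3,1,3,3,3,1,3,1,3,3] []) (.n 11 (.l [1,3,3,3,1,3,1,3,3,3,1,3,1,3,3,3,1,3,1,3,3,3,1] []) (.l [1,3,3,1,3,3,3,1,3,3,1,3,3,3,1,3,3,1,3,3]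 []))))) (.e) ( .cons 3 2 (.n 6 (.n 3 (.n 1 (.l [2,2,2,2,2] []) (.n 2 (.l [1,2,1,2,1,2,1,2,1,2,1,2,1,2,1] []) (.l [1,2,2,2,1,2,2,1,2,2,2,1,2,2,1,2,2,2,1,2] []))) (.n 4 (.l [1,3,1,2,1,3,1,2,1,3,1] []) (.n 5 (.l [2,1,2,2,1,2,2,2,1,2,2,1,2,2,2,1,2,2,1,2] []) (.l [2,2,1,2,1,2,2,2,1,2,1,2,2,2,1,2,1,2,2,2,1,2,1] [])))) (.n 9 (.n 7 (.l [2,1,2,2,2,1,2,2,1,2,2,2,1,2,2,1,2,2,2,1] []) (.n 8 (.l [1,2,2,2,1,2,1,2,2,2,1,2,1,2,2,2,1,2,1,2,2,2,1] []) (.l [2,2,1,2,2,1,2,2,2,1,2,2,1,2,2,2,1,2,2,1] []))) (.n 10 (.l [1,2,2,1,2,2,2,1,2,2,1,2,2,2,1,2,2,1,2,2] []) (.n 11 (.l [2,1,2,1,2,2,2,1,2,1,2,2,2,1,2,1,2,2,2,1,2,1,2] []) (.l [1,2,1,2,2,2,1,2,1,2,2,2,1,2,1,2,2,2,1,2,1,2,2] []))))) (.n 1 (.l [] [2,2]) (.l [1] [1,2]))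 ( .nil )))

def iv : List (Nat × Nat) := [(2, 3)]

def RL : List (List Nat × Nat) := [([2], 6), ([1, 3, 1, 2], 3), ([1, 2, 2, 1, 2, 2, 2], 3), ([1, 2], 8), ([1, 2, 1, 2, 2, 2], 4)]

def subs : List (List Nat) := [[2, 2, 2], [1, 2, 2, 1]]

noncomputable def P : Par := ⟨tab, 176, 95780971304118053647396689196894323976171195136475135, 135774, icG 3 iv, lw⟩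

end Cfsg.Agent.CosetEnum.HNU
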