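import Cfsg.Agent.CosetEnum.Basic

/-! Certificate of a coset enumeration (generated data, owner: helper28). -/

set_option autoImplicit false
set_option maxRecDepth 1000000

namespace Cfsg.Agent.CosetEnum.HNUF

noncomputable def tab : T := .l 0 0x7000006000080000070000afffffffffff00000500009000000000060000070000bfffffffffff000004000060000050000a00000000005fffffffffff0000060000b0000030000700000000004fffffffffff000003000080000000000b00000000003fffffffffff0000000000a0000040000900000000002fffffffffff000002000040000000000100000000009fffffffffff000000000010000020000500000000008fffffffffff000001000020000000000000000000007fffffffffff000000000000000010000300000000006fffffffffff000000000050000000000400000000000fffffffffff000000000030000000000200000000001fffffffffff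

def lw : WT := .e

def L : LL := .cons 1 1 (.l [3,1,3,1,3] []) (.e) ( .cons 2 3 (.n 1 (.l [3,3] []) (.l [1,3,1,3,1] [])) (.e) ( .cons 3 2 (.n 1 (.l [1,2,1,2,1] []) (.l [2,2] [])) (.e) ( .nil )))

def iv : List (Nat × Nat) := [(2, 3)]

def RL : List (List Nat × Nat) := [([2], 3), ([1, 2], 3)]

def subs : List (List Nat) := []

noncomputable def P : Par := ⟨tab, 176, 95780971304118053647396689196894323976171195136475135, 12, icG 3 iv, lw⟩

end Cfsg.Agent.CosetEnum.HNUF
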