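import Cfsg.Agent.CosetEnum.Prime
import Cfsg.Agent.CosetEnum.Rename
import Cfsg.Agent.CosetEnum.HN.U
import Cfsg.Agent.CosetEnum.HN.UF
import Cfsg.Agent.CosetEnum.HN.XU
import Cfsg.Agent.CosetEnum.HN.TU

/-!
The group of `x` and `y` (3.U3(5):2), facts by its action on 2250 points (owner: helper66).

Letters: 1 x, 2 y, 3 Y, 4 h, 5 H, 6 u, 7 U.
-/

set_option autoImplicit false
set_option maxRecDepth 1000000
set_option linter.all false

namespace Cfsg.Agent.HN

open MulAction Cfsg.Agent.CosetEnum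

abbrev QU : Type := QG 7 HNTU.iv HNTU.RL

abbrev qu : ℕ → QU := qg 7 HNTU.iv HNTU.RL

theorem UU : Univ qu 7 HNTU.iv HNTU.RL := univ_qg _ _ _

/-- the family of the alternating group of degree 4 -/
noncomputable def fF : ℕ → QU
  | 1 => qu 2 * qu 2 * qu 2
  | 2 => qu 1 * qu 2 * qu 2 * qu 1
  | 3 => (qu 1 * qu 2 * qu 2 * qu 1)⁻¹
  | _ => 1

theorem x_inv : qu 1 = (qu 1)⁻¹ := UU.good.inv 1

theorem y6 : qu 2 ^ 6 = 1 := by
  have := UU.good.rel ([2], 6) (by decide +kernel)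
  simpa using this

theorem xyyx : (qu 1 * (qu 2 * (qu 2 * (qu 1 * (qu 2 * (qu 2 * qu 2)))))) ^ 3 = 1 := by
  have := UU.good.rel ([1, 2, 2, 1, 2, 2, 2], 3) (by decide +kernel)
  simpa using this

theorem goodF : Good fF 3 HNUF.iv HNUF.RL where
  inv x := by
    have h6 := y6
    match x with
    | 0 => exact inv_one.symm
    | 1 =>
      show qu 2 * qu 2 * qu 2 = (qu 2 * qu 2 * qu 2)⁻¹
      rw [eq_inv_iff_mul_eq_one, ← h6]
      simp only [pow_succ, pow_zero, one_mul, mul_assoc]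
    | 2 => rfl
    | 3 => exact (inv_inv _).symm
    | (n + 4) =>
      have : ivL HNUF.iv (n + 4) = n + 4 := by simp [ivL, HNUF.iv]
      rw [this]
      exact inv_one.symm
  one x hx := by
    match x with
    | 0 => rfl
    | 1 => exact absurd hx (by decide)
    | 2 => exact absurd hx (by decide)
    | 3 => exact absurd hx (by decide)
    | (n + 4) => rfl
  rel := by
    intro p hp
    have h6 := y6
    have hx : qu 1 * qu 1 = 1 := by
      nth_rewrite 1 [x_inv]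
      exact inv_mul_cancel _
    have hx' : ∀ w, qu 1 * (qu 1 * w) = w := fun w => by rw [← mul_assoc, hx, one_mul]
    simp only [HNUF.RL, List.mem_cons, List.not_mem_nil, or_false] at hp
    rcases hp with rfl | rfl
    · simp only [List.map_cons, List.map_nil, List.prod_cons, List.prod_nil, mul_one]
      show (qu 1 * qu 2 * qu 2 * qu 1) ^ 3 = 1
      have e1 : (qu 1 * qu 2 * qu 2 * qu 1) ^ 3 = qu 1 * (qu 2 ^ 6 * qu 1) := by
        simp only [pow_succ, pow_zero, one_mul, mul_assoc, hx']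
      rw [e1, h6, one_mul, hx]
    · simp only [List.map_cons, List.map_nil, List.prod_cons, List.prod_nil, mul_one]
      show (qu 2 * qu 2 * qu 2 * (qu 1 * qu 2 * qu 2 * qu 1)) ^ 3 = 1
      have h := xyyx
      have e1 : (qu 2 * qu 2 * qu 2 * (qu 1 * qu 2 * qu 2 * qu 1)) ^ 3 =
          (qu 2 * qu 2 * qu 2) * (qu 1 * (qu 2 * (qu 2 * (qu 1 * (qu 2 * (qu 2 * qu 2)))))) ^ 3 *
            (qu 2 * qu 2 * qu 2)⁻¹ := by
        rw [eq_mul_inv_iff_mul_eq]
        simp only [pow_succ, pow_zero, one_mul, mul_assoc]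
      rw [e1, h, mul_one, mul_inv_cancel]

theorem top3 : Cl qu 3 = ⊤ := by
  rw [eq_top_iff, ← UU.top]
  unfold Cl
  rw [Subgroup.closure_le]
  have m4 : qu 4 ∈ Cl qu 3 := by
    have h := UU.good.rel ([5, 2, 1, 2, 1, 2, 2, 1, 3], 1) (by decide +kernel)
    have e5 : qu 5 = (qu 4)⁻¹ := UU.good.inv 4
    rw [pow_one, List.map_cons, List.prod_cons, e5, inv_mul_eq_one] at h
    rw [h]
    exact word_mem_Cl qu (by decide +kernel)
  have m6 : qu 6 ∈ Cl qu 3 := by
    have h := UU.good.rel ([7, 2, 2, 1, 2, 1, 3, 1, 3, 1, 3, 1, 2, 1], 1) (by decide +kernel)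
    have e5 : qu 7 = (qu 6)⁻¹ := UU.good.inv 6
    rw [pow_one, List.map_cons, List.prod_cons, e5, inv_mul_eq_one] at h
    rw [h]
    exact word_mem_Cl qu (by decide +kernel)
  rintro _ ⟨x, hx, rfl⟩
  have h1 := isLet_iff.1 hx
  obtain ⟨h1, h2⟩ := h1
  interval_cases x
  · exact mem_Cl qu rfl
  · exact mem_Cl qu rfl
  · exact mem_Cl qu rfl
  · exact m4
  · have e5 : qu 5 = (qu 4)⁻¹ := UU.good.inv 4
    show qu 5 ∈ Cl qu 3
    rw [e5]
    exact inv_mem m4
  · exact m6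
  · have e5 : qu 7 = (qu 6)⁻¹ := UU.good.inv 6
    show qu 7 ∈ Cl qu 3
    rw [e5]
    exact inv_mem m6

theorem bdU : Bd (⊤ : Subgroup QU) 756000 := by
  have h1 := (Bd.zero fF).cl (M := 12) HNUF.cert goodF (by decide +kernel) (by decide +kernel) (by norm_num) rfl
  have h2 := h1.step (K := Cl qu 3) (HNU.cert.apply_cut UU.good (by decide +kernel) (H := Cl fF 3) (by
    intro r hr
    simp only [HNU.subs, List.mem_cons, List.not_mem_nil, or_false] at hr
    rcases hr with rfl | rfl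
    · refine ⟨by decide +kernel, ?_⟩
      have : ([2, 2, 2].map qu).prod = fF 1 := by
        show qu 2 * (qu 2 * (qu 2 * 1)) = qu 2 * qu 2 * qu 2
        simp only [mul_one, mul_assoc]
      rw [this]
      exact mem_Cl fF rfl
    · refine ⟨by decide +kernel, ?_⟩
      have : ([1, 2, 2, 1].map qu).prod = fF 2 := by
        show qu 1 * (qu 2 * (qu 2 * (qu 1 * 1))) = qu 1 * qu 2 * qu 2 * qu 1
        simp only [mul_one, mul_assoc]
      rw [this]
      exact mem_Cl fF rfl))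
  rwa [top3] at h2

theorem cardU : Nat.card QU = 756000 := by
  obtain ⟨A, hA, _⟩ := HNTU.tabOK.exists_action UU
  exact (faith_of_chain HNTU.tabOK.subB UU.top HNTU.chain bdU (by decide +kernel)).2 ⟨A, hA⟩

/-- two words are equal on the base points -/
noncomputable def eqUB (u v : List ℕ) : Bool :=
  (wOK 7 u && wOK 7 v) && (HNTU.ls.map fun p => p.1).all (fun i => Nat.beq (actW HNTU.P u i) (actW HNTU.P v i))

theorem eqU {u v : List ℕ} (h : eqUB u v = true) : (u.map qu).prod = (v.map qu).prod := by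
  unfold eqUB at h
  simp only [Bool.and_eq_true, List.all_eq_true] at h
  obtain ⟨⟨hu, hv⟩, h⟩ := h
  obtain ⟨A, hA, _⟩ := HNTU.tabOK.exists_action UU
  have hl : ∀ u, wOK 7 u = true → ∀ x ∈ u, x ∈ HNTU.lets := by
    intro u hu x hx
    simp only [wOK, List.all_eq_true] at hu
    exact HNTU.tabOK.mem_iff.2 (hu x hx)
  have hfin : Finite QU := Nat.finite_of_card_ne_zero (by rw [cardU]; norm_num)
  have htop : ClL qu HNTU.lets = ⊤ := by
    rw [← UU.top]
    exact subB_ClL HNTU.tabOK.subB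
  have key : (val (fun x => (qu x)⁻¹) v)⁻¹ * val (fun x => (qu x)⁻¹) u = 1 := by
    refine fix_trivial hA HNTU.chain (by rw [htop, Subgroup.card_top, cardU]; decide +kernel) (by decide +kernel) _
      (by rw [htop]; exact Subgroup.mem_top _) ?_
    intro c hc
    rw [mul_smul, inv_smul_eq_iff]
    apply Fin.ext
    show ((val (fun x => (qu x)⁻¹) u • c : Fin HNTU.P.m) : ℕ) = ((val (fun x => (qu x)⁻¹) v • c : Fin HNTU.P.m) : ℕ)
    rw [hA.word (hl u hu), hA.word (hl v hv)]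
    exact beq_true (h _ hc)
  rw [inv_mul_eq_one, val_inv, val_inv] at key
  exact (inv_injective key).symm

/-- a word -/
def w6 : List ℕ := [4, 4, 4, 4, 1, 5, 5, 5, 5]

/-- a word -/
def w7 : List ℕ := [4, 1, 5]

/-- a word -/
def w8 : List ℕ := [5, 5, 5, 1, 4, 4, 4]

/-- a word -/
def w9 : List ℕ := [5, 5, 5, 5, 5, 5, 1, 4, 4, 4, 4, 4, 4]

/-- a word -/
def wp : List ℕ := [4, 4, 1, 5, 5]

/-- a word -/
def wq : List ℕ := [5, 1, 4]

/-- a word -/
def wc : List ℕ := [1, 4, 1, 4, 1, 4, 1, 4, 1, 4, 1, 4, 1, 4]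

theorem f66 : eqUB (w6 ++ w6) ([]) = true := by decide +kernel

theorem f77 : eqUB (w7 ++ w7) ([]) = true := by decide +kernel

theorem f88 : eqUB (w8 ++ w8) ([]) = true := by decide +kernel

theorem f99 : eqUB (w9 ++ w9) ([]) = true := by decide +kernel

theorem fpp : eqUB (wp ++ wp) ([]) = true := by decide +kernel

theorem fqq : eqUB (wq ++ wq) ([]) = true := by decide +kernel

theorem fc3 : eqUB (wc ++ wc ++ wc) ([]) = true := by decide +kernel

theorem fcx : eqUB (wc ++ [1] ++ wc) ([1]) = true := by decide +kernel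

theorem fch : eqUB (wc ++ [4] ++ wc) ([4]) = true := by decide +kernel

theorem fc6 : eqUB (wc ++ w6 ++ wc) (w6) = true := by decide +kernel

theorem fcu : eqUB (wc ++ [6]) ([6] ++ wc) = true := by decide +kernel

theorem f67 : eqUB (w6 ++ w7 ++ w6 ++ w7 ++ w6 ++ w7) ([]) = true := by decide +kernel

theorem f68 : eqUB (w6 ++ w8 ++ w6 ++ w8) (wc) = true := by decide +kernel

theorem f69 : eqUB (w6 ++ w9 ++ w6 ++ w9) ([]) = true := by decide +kernel

theorem f6p : eqUB (w6 ++ wp ++ w6 ++ wp) ([]) = true := by decide +kernel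

theorem f6q : eqUB (w6 ++ wq ++ w6 ++ wq) (wc) = true := by decide +kernel

theorem f78 : eqUB (w7 ++ w8 ++ w7 ++ w8 ++ w7 ++ w8) ([]) = true := by decide +kernel

theorem f79 : eqUB (w7 ++ w9 ++ w7 ++ w9) (wc ++ wc) = true := by decide +kernel

theorem f7p : eqUB (w7 ++ wp ++ w7 ++ wp) ([]) = true := by decide +kernel

theorem f7q : eqUB (w7 ++ wq ++ w7 ++ wq) ([]) = true := by decide +kernel

theorem f89 : eqUB (w8 ++ w9 ++ w8 ++ w9 ++ w8 ++ w9) ([]) = true := by decide +kernel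

theorem f8p : eqUB (w8 ++ wp ++ w8 ++ wp) (wc ++ wc) = true := by decide +kernel

theorem f8q : eqUB (w8 ++ wq ++ w8 ++ wq) ([]) = true := by decide +kernel

theorem f9p : eqUB (w9 ++ wp ++ w9 ++ wp ++ w9 ++ wp) ([]) = true := by decide +kernel

theorem f9q : eqUB (w9 ++ wq ++ w9 ++ wq) (wc) = true := by decide +kernel

theorem fpq : eqUB (wp ++ wq ++ wp ++ wq ++ wp ++ wq) ([]) = true := by decide +kernel

theorem fu7 : eqUB ([7] ++ w7 ++ [6]) (wc ++ wc ++ w7 ++ w9 ++ wq) = true := by decide +kernel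

theorem fu8 : eqUB ([7] ++ w8 ++ [6]) (wc ++ wc ++ w8 ++ w7 ++ w9 ++ wp ++ w9 ++ wq ++ wp ++ w9 ++ w8) = true := by decide +kernel

theorem fu9 : eqUB ([7] ++ w9 ++ [6]) (w7 ++ wp ++ w9 ++ wq ++ wp) = true := by decide +kernel

theorem fup : eqUB ([7] ++ wp ++ [6]) (wc ++ w8 ++ w7 ++ w9 ++ w8 ++ wq) = true := by decide +kernel

theorem fuq : eqUB ([7] ++ wq ++ [6]) (wc ++ wc ++ w7 ++ w9 ++ wp ++ w9 ++ wq ++ wp ++ w9) = true := by decide +kernel

theorem fv7 : eqUB ([6] ++ w7 ++ [7]) ([1, 4, 4, 4, 1, 4, 4, 1, 4, 4, 1, 4, 4, 4, 1]) = true := by decide +kernel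

theorem fv8 : eqUB ([6] ++ w8 ++ [7]) ([1, 5, 5, 5, 1, 5, 5, 1, 5, 5, 5, 5, 5, 1, 5]) = true := by decide +kernel

theorem fv9 : eqUB ([6] ++ w9 ++ [7]) ([1, 5, 5, 1, 5, 1, 5, 5, 5, 5, 5, 1, 4]) = true := by decide +kernel

theorem fvp : eqUB ([6] ++ wp ++ [7]) ([5, 1, 5, 1, 5, 1, 4, 4, 4]) = true := by decide +kernel

theorem fvq : eqUB ([6] ++ wq ++ [7]) ([4, 1, 4, 1, 4, 1, 5, 5, 5]) = true := by decide +kernel

theorem fuu : eqUB ([6, 6] ++ w9 ++ wq) (wc ++ wc) = true := by decide +kernel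

theorem fu67 : eqUB ([6] ++ w6 ++ w7 ++ [6] ++ w6 ++ w7 ++ [6] ++ w6 ++ w7 ++ [6] ++ w6 ++ w7 ++ [6] ++ w6 ++ w7) (wc) = true := by decide +kernel

theorem frho : eqUB ([2, 2, 2, 1, 2, 1, 2]) ([4, 1, 4, 4, 1, 4, 1, 4, 1, 5, 5, 5, 1, 5, 6, 4, 4, 4, 4]) = true := by decide +kernel

theorem fx : eqUB ([1]) (wc ++ wc ++ w6 ++ w7 ++ w8 ++ w7 ++ w6) = true := by decide +kernel

theorem fy : eqUB ([2]) (wc ++ wc ++ w8 ++ w7 ++ [6] ++ w6 ++ wp ++ [6] ++ w6 ++ wp ++ w7 ++ w8 ++ [7]) = true := by decide +kernel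

end Cfsg.Agent.HN
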