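import Cfsg.Agent.CosetEnum.HN.T100Data

/-! Base and transversals (generated data, owner: helper28). -/

set_option autoImplicit false
set_option maxRecDepth 1000000

namespace Cfsg.Agent.CosetEnum.HNT100

def ls : List (Nat × List Nat) := [(0, [0x0, 0x2b6b, 0xa82, 0x76a, 0x7854, 0x534, 0x9854, 0x842, 0x9678, 0x764a, 0x854, 0xa6a2, 0x4a, 0x654, 0x98, 0x8, 0xa4a2, 0x63784, 0x8a84, 0x6a2, 0x7834, 0xa784, 0x978, 0x64a, 0x9834, 0x5678, 0x78, 0xb8, 0x42, 0xb56a, 0x4a82, 0xa56a, 0xa54, 0x4a2, 0x4, 0x6b82, 0x678, 0x6542, 0xa64a, 0x8542, 0xa, 0xb678, 0xa78, 0xb2784, 0x2b4b, 0x56a2, 0xb834, 0xb782, 0xb84, 0x84, 0x54, 0x8a8, 0x6a, 0x8534, 0x8342, 0x9842, 0x6784, 0xb82, 0xb3784, 0xa8a8, 0xb6a8, 0x56a8, 0x2, 0xa8, 0x96a2, 0x8a54, 0xb6b, 0xa6a8, 0x8654, 0x62784, 0x2a43b, 0x82, 0x6534, 0x7842,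 0x6a8, 0xa2, 0x8b8, 0xb8a8, 0xa782, 0x982, 0xa6a, 0x342, 0x984, 0x7a2, 0xa84, 0x782, 0xa4a, 0x7654, 0x4a8, 0x34a2, 0x9782, 0xb842, 0x834, 0x56a, 0x784, 0xb78, 0x542, 0x34, 0xb4a8, 0x6782]), (1, [0x0, 0x4a45, 0x5469a45, 0x4b6b4, 0x34a674, 0x4a6b4, 0x4b6a45, 0x46b4, 0x546a45, 0x46a7b4, 0x7, 0x349b645, 0x46a647, 0xb49a, 0x4a4, 0x65, 0x34a67a45, 0x4b67a45, 0x46b645, 0x354b6b4, 0x4a7a4, 0x4b4, 0x5476a45, 0x354a6b4, 0x2b489a, 0xb47a, 0x49a45, 0x75, 0x46a45, 0x5, 0x54a674, 0x46b45, 0x467a4, 0x546b4, 0x54b6a45, 0x54a645, 0x4aa6b45, 0x4b7a45, 0x67, 0x746b45, 0x7634a674, 0x4a67b45, 0x4a674, 0x546b45, 0x634a645, 0x4a6a45, 0x74a6b4, 0x4b6a465, 0x4a67a45, 0x4b45, 0x654b6a45, 0x4a6b45, 0x5467a45, 0x4b4534a674, 0x47a45, 0x469b645, 0x4a76a45, 0x54a6b45, 0x4b6b45, 0x4b7a4, 0x4a7a45, 0x4a9b645,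 0x634a674, 0x34a6b4, 0x467a45, 0x4a645, 0x469a45, 0x54b6b45, 0x54a6b4, 0x47b645, 0x654b6b45, 0x4a6a7b4, 0x476a45, 0x54a6a45, 0x6746b45, 0x54b6b4, 0x534a674]), (2, [0x0, 0x34a642b487a, 0x72b4b4b84a6, 0x34b6454a4, 0x6a6454a8, 0x4a4b4398b6, 0x2a874a4a4, 0x3b94a467b436, 0x78b824b98, 0x28a456a4b4, 0x2b8a, 0x4b34a462, 0x4b4b47a5, 0x4b454a4, 0xb784a246b4, 0x4b4564a43, 0x6b4534b6, 0x56765, 0x4a34b4623, 0xa6454a8, 0x5b74a4a4, 0x2b8a6, 0xb48a4a4a27, 0x4b34a423, 0x9, 0x4a428b46a82, 0x6, 0x6b784a246b4, 0x963, 0x64b34a423, 0x2a874a54a4, 0xb4534b63, 0x52b8b, 0x8b4564b, 0x4b4b4783b9, 0x4b6454a4, 0x4a642b487a, 0x52b8b6, 0x76b47a65, 0x4b34a4b8a6, 0x94a4b4398b6, 0x96b4534b6, 0x93, 0x63b4534b6, 0xb94a467b436, 0x4b4b478b2, 0x3, 0x56bb65, 0xb4534b6, 0x4a545b46, 0xb46b74a64a, 0x7b4654a8, 0x76b49a65,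 0x34b34a462, 0x968b4564b, 0x63, 0xa85b, 0x96, 0x2b8a3, 0x9b4534b6]), (3, [0x0, 0x398b4564b9, 0x3956b49a67, 0x4b454a6a454b4, 0x34b454a43, 0x4b34a42, 0x69b46b74a64a93, 0x4a645b4b5a4a467a4, 0x9546b4354a645, 0x4b6a4b4b5a4a, 0x34b48a64b3587, 0xb74a47a43, 0x694a642b487b37, 0x34b74b47a, 0x64b46a457a2, 0x3694a48a825a4a64a, 0x9b94a8a46b893, 0x652b4b8a84b, 0xb4b5a4a, 0x694a42b4a8a84a, 0x694a64b5874b9, 0x4a6459b4534b64b4, 0x64a64287a486a5, 0x4a48b8b46b6454a2, 0x634b454a436, 0x3b46b43a6474a47a43, 0x6b94a243546b45b78, 0x694b4354a64, 0x3b46b43a64a, 0xb4b5a4a634b454a436, 0x634b454a436b4b5a4a, 0x364b454a6a454b43]), (4, [0x0, 0x46b74b47a9634b74b47a, 0x4b6a4, 0x3954a42b6b4a89435, 0x9a4654a894a428a456a9, 0xb74a47a4369b74a47a64]), (5, [0x0]), (6, [0x0]), (7, [0x0]), (8, [0x0]), (9, [0x0]), (10, [0x0]),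 (11, [0x0])]

theorem chain : chainB P lets ls [] = true := by decide +kernel

end Cfsg.Agent.CosetEnum.HNT100
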